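import Cfsg.Agent.CoThreeStd.DeltaData
set_option linter.all false

/-!
# The outer automorphism of M12 (S1750; helper781)

`alpha : H →* H`, conjugation by an involution of `M24` exchanging the two dodecads: `alpha y = y`, `alpha p = y p`
(same for `q, r, s`), `alpha b = p s b p s`. Every `m` with `alpha m * m = 1` is `(alpha n)⁻¹ * n`.
-/

set_option autoImplicit false
open scoped Pointwise
open Cfsg

namespace Cfsg.Agent.CoThreeStd.OutAut

open Cfsg.Agent.CoThreeStd.MTwelve Cfsg.Agent.CoThreeStd.InvTwo Cfsg.Agent.CoThreeStd.Fusion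
open Cfsg.Agent.CoThreeStd.DeltaData (mem_cbe cbe)
open Cfsg.Agent.SporadicStructure.M11InvPerms
open Cfsg.Agent.MTwelveType.SylowModel (mem_M12 card_M12 ext_M12 squareDodecad_eq)
open Cfsg.Agent.SporRec.Co3 (P5)

/-- table of the involution -/
def tPi : List ℕ := [5, 23, 17, 14, 15, 0, 22, 8, 7, 11, 16, 9, 19, 21, 3, 4, 10, 2, 20, 12, 18, 13, 6, 1]
/-- certificate -/
def cPi : List ℕ := [2049, 3118, 734, 1395, 781, 1036, 2745, 925, 3602, 430, 1933, 2217, 3659, 805, 4, 2734, 4062, 1613, 3899, 126, 3180, 3175, 3110]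

/-- the permutation exchanging the dodecads -/
def pPi : Equiv.Perm GolayPt where
  toFun := tabFun tPi
  invFun := tabFun tPi
  left_inv := by unfold Function.LeftInverse; decide +kernel
  right_inv := by unfold Function.RightInverse Function.LeftInverse; decide +kernel

set_option maxRecDepth 100000 in
theorem pPi_mem : pPi ∈ M24 := mem_M24_of_cert pPi (fun t => cPi.getD t.val 0) (by decide +kernel)
theorem pPi_dd : ∀ p ∈ dd, pPi p ∉ dd := by decide +kernel
theorem pPi_ndd : ∀ p : GolayPt, p ∉ dd → pPi p ∈ dd := by decide +kernel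
theorem pPi_pPi (p : GolayPt) : pPi (pPi p) = p := pPi.left_inv p
theorem pPi_inv : pPi⁻¹ = pPi := by ext p; rfl

theorem dd_of_mem (x : H) {z : GolayPt} (hz : z ∈ dd) : x.1 z ∈ dd := by
  have h1 := (Subgroup.mem_inf.mp x.2).2
  rw [MulAction.mem_stabilizer_iff, squareDodecad_eq] at h1
  rw [← h1]
  exact Finset.smul_mem_smul_finset hz

theorem ndd_of_mem (x : H) {z : GolayPt} (hz : z ∉ dd) : x.1 z ∉ dd := by
  intro h1
  apply hz
  have h2 := dd_of_mem x⁻¹ h1
  have h3 : (x⁻¹ : H).1 (x.1 z) = z := by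
    show x.1⁻¹ (x.1 z) = z
    exact Equiv.symm_apply_apply _ _
  rwa [h3] at h2

theorem alpha_mem (x : H) : pPi * x.1 * pPi⁻¹ ∈ Spor.M12 := by
  apply mem_M12
  · exact mul_mem (mul_mem pPi_mem (Subgroup.mem_inf.mp x.2).1) (inv_mem pPi_mem)
  · intro z hz
    rw [pPi_inv]
    show pPi (x.1 (pPi z)) ∈ dd
    exact pPi_ndd _ (ndd_of_mem x (pPi_dd z hz))

/-- the outer automorphism -/
def alpha : H →* H where
  toFun x := ⟨pPi * x.1 * pPi⁻¹, alpha_mem x⟩
  map_one' := Subtype.ext (by show pPi * 1 * pPi⁻¹ = 1; group)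
  map_mul' x y := Subtype.ext (by
    show pPi * (x.1 * y.1) * pPi⁻¹ = (pPi * x.1 * pPi⁻¹) * (pPi * y.1 * pPi⁻¹)
    group)

theorem alpha_alpha (x : H) : alpha (alpha x) = x := by
  apply Subtype.ext
  show pPi * (pPi * x.1 * pPi⁻¹) * pPi⁻¹ = x.1
  have h : pPi * pPi = 1 := Equiv.ext (fun z => pPi_pPi z)
  rw [pPi_inv]
  calc pPi * (pPi * x.1 * pPi) * pPi = (pPi * pPi) * x.1 * (pPi * pPi) := by group
    _ = x.1 := by rw [h, one_mul, mul_one]

/-- the images of the letters -/
def ag : ℕ → List ℕ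
  | 0 => [0]
  | 1 => [0, 1]
  | 2 => [0, 2]
  | 3 => [0, 3]
  | 4 => [0, 4]
  | 5 => [1, 4, 5, 1, 4]
  | _ => []

theorem alpha_y' : alpha (gen 0) = wd [0] := ext_M12 (by decide +kernel)
theorem alpha_p' : alpha (gen 1) = wd [0, 1] := ext_M12 (by decide +kernel)
theorem alpha_q' : alpha (gen 2) = wd [0, 2] := ext_M12 (by decide +kernel)
theorem alpha_r' : alpha (gen 3) = wd [0, 3] := ext_M12 (by decide +kernel)
theorem alpha_s' : alpha (gen 4) = wd [0, 4] := ext_M12 (by decide +kernel)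
theorem alpha_b' : alpha (gen 5) = wd [1, 4, 5, 1, 4] := ext_M12 (by decide +kernel)

theorem alpha_gen (i : ℕ) : alpha (gen i) = wd (ag i) := by
  rcases Nat.lt_or_ge i 6 with hi | hi
  · interval_cases i
    · exact alpha_y'
    · exact alpha_p'
    · exact alpha_q'
    · exact alpha_r'
    · exact alpha_s'
    · exact alpha_b'
  · obtain ⟨k, rfl⟩ := Nat.exists_eq_add_of_le hi
    rw [Nat.add_comm]
    exact map_one alpha

/-- `alpha` on words -/
def aw (l : List ℕ) : List ℕ := (l.map ag).flatten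

theorem alpha_wd (l : List ℕ) : alpha (wd l) = wd (aw l) := by
  induction l with
  | nil => exact map_one alpha
  | cons i l ih =>
    have e : aw (i :: l) = ag i ++ aw l := rfl
    rw [wd_cons, map_mul, ih, alpha_gen, e, wd_append]

theorem alpha_y : alpha y = y := by rw [← wd_y]; exact alpha_wd [0]

/-- `y^e w σ`, `e = 0` or `1` according to the sign -/
noncomputable def bw (σ : P5) : H := (if Equiv.Perm.sign σ = 1 then 1 else y) * w σ

theorem bw_mul (σ τ : P5) : bw (σ * τ) = bw σ * bw τ := by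
  have hy := y_sq
  rcases Int.units_eq_one_or (Equiv.Perm.sign σ) with h1 | h1 <;>
    rcases Int.units_eq_one_or (Equiv.Perm.sign τ) with h2 | h2
  · simp [bw, h1, h2]
  · simp only [bw, map_mul, h1, h2]
    simp only [one_mul, if_true, show ¬ ((-1 : ℤˣ) = 1) from by decide, if_false]
    rw [← mul_assoc, ← mul_assoc, y_comm]
  · simp only [bw, map_mul, h1, h2]
    simp only [mul_one, one_mul, if_true, show ¬ ((-1 : ℤˣ) = 1) from by decide, if_false]
    rw [← mul_assoc]
  · simp only [bw, map_mul, h1, h2]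
    simp only [show ¬ ((-1 : ℤˣ) = 1) from by decide, if_false, show ((-1 : ℤˣ) * -1 = 1) from by decide, if_true,
      one_mul]
    calc w σ * w τ = (y * y) * (w σ * w τ) := by rw [hy, one_mul]
      _ = y * (y * w σ) * w τ := by group
      _ = y * (w σ * y) * w τ := by rw [y_comm]
      _ = _ := by group

theorem alpha_w (σ : P5) : alpha (w σ) = bw σ := by
  let β : P5 →* H := MonoidHom.mk' bw bw_mul
  have hgen : ∀ i, alpha (w (Cfsg.Agent.SporRec.Co3.FiveHom.tp i)) = β (Cfsg.Agent.SporRec.Co3.FiveHom.tp i) := by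
    intro i
    rw [w_tp, cox, alpha_gen]
    show wd (ag (i.1 + 1)) = (if Equiv.Perm.sign (Cfsg.Agent.SporRec.Co3.FiveHom.tp i) = 1 then 1 else y) *
      w (Cfsg.Agent.SporRec.Co3.FiveHom.tp i)
    have hs : Equiv.Perm.sign (Cfsg.Agent.SporRec.Co3.FiveHom.tp i) ≠ 1 := by
      revert i; decide +kernel
    rw [if_neg hs, w_tp, cox]
    have e : ag (i.1 + 1) = [0, i.1 + 1] := by
      revert i; decide
    rw [e, wd_cons, wd_cons, wd_nil, mul_one]
    rfl
  have hle : Submonoid.closure (Set.range fun i : Fin 4 ↦ Equiv.swap i.castSucc i.succ) ≤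
      (MonoidHom.eqLocusM (alpha.comp w) β : Submonoid P5) := by
    rw [Submonoid.closure_le]
    rintro _ ⟨i, rfl⟩
    exact hgen i
  rw [Equiv.Perm.mclosure_swap_castSucc_succ 4] at hle
  exact hle (show σ ∈ (⊤ : Submonoid P5) from trivial)

theorem alpha_even {σ : P5} (h : Equiv.Perm.sign σ = 1) : alpha (w σ) = w σ := by
  rw [alpha_w, bw, if_pos h, one_mul]

theorem alpha_odd {σ : P5} (h : Equiv.Perm.sign σ = -1) : alpha (w σ) = y * w σ := by
  rw [alpha_w, bw, if_neg (by rw [h]; decide)]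

/-! ### the outer involutions -/

/-- test on the centraliser of `p r` -/
def ns : List (List ℕ) := [[], [1], [5,2,4,5], [5,2,4,5,0], [1,5,2,4,5], [5,3,2,5,1,5], [5,0,5,0,3,5], [5,0,1,3,5,4], [5,0,3,5,4,5], [5,0,3,2,5,2], [1,5,2,4,5,0], [5,1,5,2,3,5,2], [5,1,5,0,2,5,2], [5,1,2,1,4,5,4], [5,0,5,0,3,5,0], [5,0,1,2,5,1,5], [5,0,1,3,5,1,4], [5,0,1,3,5,2,4], [5,0,3,5,2,1,5], [1,5,0,1,3,5,4], [5,0,5,1,4,5,3,4], [5,0,5,2,1,5,4,5], [5,0,5,0,3,2,4,5], [5,0,1,2,5,1,5,1]]

def testO (l : List ℕ) : Bool :=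
  !(eqW (aw l ++ l) []) || ns.any (fun n => eqW l ((aw n).reverse ++ n))

set_option maxRecDepth 100000 in
theorem testO_all : cbe.all testO = true := by decide +kernel

theorem twisted_of_comm (m : H) (h1 : m * (p * r) = (p * r) * m) (h2 : alpha m * m = 1) :
    ∃ n, m = (alpha n)⁻¹ * n := by
  rw [← wd_pr] at h1
  obtain ⟨l, hl, rfl⟩ := mem_cbe m h1
  have h3 := List.all_eq_true.mp testO_all l hl
  rw [testO, Bool.or_eq_true] at h3
  rcases h3 with h3 | h3
  · exfalso
    have h4 : eqW (aw l ++ l) [] = true := by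
      apply eqW_of_wd
      rw [wd_append, ← alpha_wd, h2, wd_nil]
    rw [h4] at h3
    exact Bool.noConfusion h3
  · obtain ⟨n, -, h4⟩ := List.any_eq_true.mp h3
    refine ⟨wd n, ?_⟩
    rw [alpha_wd, wd_reverse, ← wd_append, wd_eq h4]

theorem card_isB : Nat.card {m : H // IsB m} = 495 := by
  have h1 : Nat.card {m : H // IsB m} * 192 = 495 * 192 := by
    have h2 : Nat.card H = Nat.card {m : H // IsB m} * Nat.card (Subgroup.centralizer {p * r} : Subgroup H) := by
      have h3 := Cfsg.Agent.CoThreeStd.Parity.card_conj_eq (p * r : H) (fun _ => True)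
      have h4 : Nat.card {g : H // True} = Nat.card H := Nat.card_congr (Equiv.subtypeUnivEquiv (fun _ => trivial))
      rw [h4] at h3
      rw [h3, mul_comm]
      congr 1
      apply Nat.card_congr
      refine Equiv.subtypeEquivRight (fun m => ?_)
      rw [true_and, isConj_iff]
      constructor
      · rintro ⟨c, hc⟩
        exact ⟨c⁻¹, by rw [inv_inv]; exact hc⟩
      · rintro ⟨c, hc⟩
        exact ⟨c⁻¹, by rw [inv_inv]; exact hc⟩
    rw [← card_cent_v, ← h2, card_H, card_cent_v]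
  omega

theorem alpha_pr : alpha (p * r) = p * r := by
  rw [← wd_pr, alpha_wd]
  exact wd_eq (by decide +kernel)

theorem isB_alpha {m : H} (h : IsB m) : IsB (alpha m) := by
  obtain ⟨c, rfl⟩ := h
  exact ⟨alpha c, by rw [map_mul, map_mul, map_inv, alpha_pr]⟩

/-- **The outer involutions are all conjugate.** -/
theorem twisted (m : H) (h : alpha m * m = 1) : ∃ n, m = (alpha n)⁻¹ * n := by
  classical
  -- the action on the class 2B
  let e : {x : H // IsB x} → {x : H // IsB x} := fun x => ⟨alpha (m * x.1 * m⁻¹), isB_alpha (by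
    have := x.2.conj m⁻¹
    rwa [inv_inv] at this)⟩
  have hinv : Function.Involutive e := by
    intro x
    apply Subtype.ext
    show alpha (m * alpha (m * x.1 * m⁻¹) * m⁻¹) = x.1
    rw [map_mul, map_mul, alpha_alpha, map_inv]
    calc alpha m * (m * x.1 * m⁻¹) * (alpha m)⁻¹ = (alpha m * m) * x.1 * (alpha m * m)⁻¹ := by group
      _ = x.1 := by rw [h]; group
  let E : Equiv.Perm {x : H // IsB x} := hinv.toPerm
  have hfix : ∃ x, E x = x := by
    have hfin : Fintype {x : H // IsB x} := Fintype.ofFinite _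
    have : Fact (Nat.Prime 2) := ⟨Nat.prime_two⟩
    apply Equiv.Perm.exists_fixed_point_of_prime (p := 2) (n := 1)
    · rw [← Nat.card_eq_fintype_card, card_isB]
      decide
    · rw [pow_one, pow_two]
      exact Equiv.ext (fun x => hinv x)
  obtain ⟨⟨b0, k, rfl⟩, hx⟩ := hfix
  have hx' : alpha (m * (k⁻¹ * (p * r) * k) * m⁻¹) = k⁻¹ * (p * r) * k := congrArg Subtype.val hx
  -- `m1 = α(k) m k⁻¹`
  have h1 : alpha (alpha k * m * k⁻¹) * (alpha k * m * k⁻¹) = 1 := by
    rw [map_mul, map_mul, alpha_alpha, map_inv]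
    calc k * alpha m * (alpha k)⁻¹ * (alpha k * m * k⁻¹) = k * (alpha m * m) * k⁻¹ := by group
      _ = 1 := by rw [h]; group
  have h2 : (alpha k * m * k⁻¹) * (p * r) = (p * r) * (alpha k * m * k⁻¹) := by
    have h3 : m * (k⁻¹ * (p * r) * k) * m⁻¹ = alpha (k⁻¹ * (p * r) * k) :=
      (alpha_alpha _).symm.trans (congrArg alpha hx')
    rw [map_mul, map_mul, map_inv, alpha_pr] at h3
    calc (alpha k * m * k⁻¹) * (p * r) = alpha k * (m * (k⁻¹ * (p * r) * k) * m⁻¹) * m * k⁻¹ := by group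
      _ = alpha k * ((alpha k)⁻¹ * (p * r) * alpha k) * m * k⁻¹ := by rw [h3]
      _ = _ := by group
  obtain ⟨n, hn⟩ := twisted_of_comm _ h2 h1
  refine ⟨n * k, ?_⟩
  calc m = (alpha k)⁻¹ * (alpha k * m * k⁻¹) * k := by group
    _ = (alpha k)⁻¹ * ((alpha n)⁻¹ * n) * k := by rw [hn]
    _ = _ := by rw [map_mul]; group

end Cfsg.Agent.CoThreeStd.OutAut
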