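import Mathlib
set_option linter.all false

set_option autoImplicit false

/-!
The facts about `S = M12` and its automorphism group used in the reduction of S1750.
`IsA`, `IsB` are the classes 2A (centraliser `2 × S5`) and 2B (centraliser `2^{1+4}.S3`) of `S`.
-/

namespace Cfsg.Agent.CoThreeStd.FactsDef

variable {S : Type*} [Group S]

/-- The derived group of the centraliser; for `a` in 2A this is `A5`. -/
def FA (a : S) : Subgroup S := ⁅Subgroup.centralizer ({a} : Set S), Subgroup.centralizer ({a} : Set S)⁆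

/-- The group generated by the `3`-elements of the centraliser; for `b` in 2B this is `2^{1+4}:3`. -/
def PB (b : S) : Subgroup S := Subgroup.closure {x | x * b = b * x ∧ x ^ 3 = 1}

/-- The inner automorphisms. -/
abbrev Inn (S : Type*) [Group S] : Subgroup (MulAut S) := (MulAut.conj : S →* MulAut S).range

/-- The facts used about `S = M12`. -/
structure Facts (IsA IsB : S → Prop) : Prop where
  simple : IsSimpleGroup S
  nonab : ∃ x y : S, x * y ≠ y * x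
  /-- the outer automorphism group has order at most 2 -/
  out : ∀ φ ψ : MulAut S, φ ∉ Inn S → ψ ∉ Inn S → φ * ψ ∈ Inn S
  invA : ∀ a, IsA a → a * a = 1 ∧ a ≠ 1
  invB : ∀ b, IsB b → b * b = 1 ∧ b ≠ 1
  cardB : ∀ b, IsB b → Nat.card (Subgroup.centralizer ({b} : Set S)) = 192
  conjB : ∀ b b', IsB b → IsB b' → ∃ s : S, s * b * s⁻¹ = b'
  /-- subgroups `X` of the automorphism group normalised by a proper subgroup `H` of `S` which contains
  the centralisers in `S` of the involutions of `X` -/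
  main : ∀ (X : Subgroup (MulAut S)) (H : Subgroup S), (∃ v ∈ X, v * v = 1 ∧ v ≠ 1) →
    (∀ h ∈ H, ∀ x ∈ X, MulAut.conj h * x * (MulAut.conj h)⁻¹ ∈ X) →
    (∀ v ∈ X, v * v = 1 → v ≠ 1 → ∀ s, v s = s → s ∈ H) → H ≠ ⊤ →
    (∃ a, IsA a ∧ MulAut.conj a ∈ X ∧ (∀ s, s ∈ H ↔ s * a = a * s) ∧ ∀ x ∈ X, ∀ f ∈ FA a, x f = f) ∨
    (∃ b, IsB b ∧ MulAut.conj b ∈ X ∧ (∀ s, s ∈ H ↔ s * b = b * s) ∧
      (∀ x ∈ X, x * x = 1 → x = 1 ∨ x = MulAut.conj b) ∧ (∀ x ∈ X, ∃ n : ℕ, x ^ 2 ^ n = 1) ∧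
      ∀ s, MulAut.conj s ∈ X → s ∈ PB b) ∨
    (∃ c, c ∉ Inn S ∧ c * c = 1 ∧ (∀ x, x ∈ X ↔ x = 1 ∨ x = c) ∧ ∀ s, s ∈ H ↔ c s = s)
  /-- the derived group of the centraliser of a 2A-involution is `A5` -/
  altFA : ∀ a, IsA a → Nonempty (FA a ≃* alternatingGroup (Fin 5))
  /-- the centraliser of `FA a` in the automorphism group -/
  centFA : ∀ a, IsA a → ∀ φ : MulAut S, (∀ f ∈ FA a, φ f = f) →
    φ * φ = 1 ∧ (φ ∈ Inn S → φ = 1 ∨ φ = MulAut.conj a)
  /-- the centraliser of a 2A-involution induces outer automorphisms on `FA a` -/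
  outFA : ∀ a, IsA a → ∃ τ : S, τ * a = a * τ ∧ ∀ g ∈ FA a, ∃ f ∈ FA a, τ * f * τ⁻¹ ≠ g * f * g⁻¹
  /-- automorphisms commuting with an outer automorphism centralising `FA a` are inner on `FA a` -/
  innFA : ∀ a, IsA a → ∀ c φ : MulAut S, c ∉ Inn S → (∀ f ∈ FA a, c f = f) → φ * c = c * φ →
    ∃ g ∈ FA a, ∀ f ∈ FA a, φ f = g * f * g⁻¹
  /-- the centraliser in `S` of an outer involution -/
  centC : ∀ c : MulAut S, c ∉ Inn S → c * c = 1 → ∃ a, IsA a ∧
    (∀ s, c s = s ↔ (s ∈ FA a ∨ s * a ∈ FA a)) ∧ ∃ τ : S, τ * a = a * τ ∧ c τ = τ * a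
  mem_PB : ∀ b, IsB b → b ∈ PB b
  centPB : ∀ b, IsB b → ∀ x ∈ PB b, (∀ p ∈ PB b, x * p = p * x) → x = 1 ∨ x = b
  /-- the centraliser of a Sylow subgroup of `S` in the automorphism group -/
  sylow : ∀ P : Sylow 2 S, ∃ b, IsB b ∧ b ∈ P ∧ ∀ φ : MulAut S, (∀ p ∈ P, φ p = p) →
    φ = 1 ∨ φ = MulAut.conj b

end Cfsg.Agent.CoThreeStd.FactsDef
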