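import Cfsg.Agent.CoThreeStd.AutInv
import Cfsg.Agent.CoThreeStd.FactsDef
set_option linter.all false

/-!
# Centralisers in the automorphism group of the Mathieu group of degree 12
-/

set_option autoImplicit false
open Cfsg

namespace Cfsg.Agent.CoThreeStd.AutCent

open Cfsg.Agent.CoThreeStd.MTwelve (H y p q r s b card_H closure_gen card_cent_y card_cent_v w w_p w_q w_r w_s
  w_tp w_injective y_comm y_ne_w y_sq y_ne_one cent_y cox conj_of_card inv_class)
open Cfsg.Agent.CoThreeStd.AutWord Cfsg.Agent.CoThreeStd.AutGamma Cfsg.Agent.CoThreeStd.AutTab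
open Cfsg.Agent.CoThreeStd.AutStruct Cfsg.Agent.CoThreeStd.AutMain Cfsg.Agent.CoThreeStd.AutClass
open Cfsg.Agent.CoThreeStd.AutInv
open Cfsg.Agent.CoThreeStd.FactsDef (FA PB)
open Equiv
open scoped commutatorElement

/-! ### transport -/

section transport

variable {S : Type*} [Group S]

theorem centralizer_map (φ : MulAut S) (a : S) :
    (Subgroup.centralizer ({φ a} : Set S)) = (Subgroup.centralizer ({a} : Set S)).map φ.toMonoidHom := by
  ext x
  rw [Subgroup.mem_map, Subgroup.mem_centralizer_iff]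
  constructor
  · intro h
    refine ⟨φ.symm x, ?_, φ.apply_symm_apply x⟩
    rw [Subgroup.mem_centralizer_iff]
    intro z hz
    have hz' : z = a := hz
    rw [hz']
    apply φ.injective
    rw [map_mul, map_mul, MulEquiv.apply_symm_apply]
    exact h _ rfl
  · rintro ⟨z, hz, rfl⟩ u hu
    have hu' : u = φ a := hu
    rw [hu']
    have := Subgroup.mem_centralizer_iff.1 hz a rfl
    show φ a * φ z = φ z * φ a
    rw [← map_mul, this, map_mul]

theorem FA_map (φ : MulAut S) (a : S) : FA (φ a) = (FA a).map φ.toMonoidHom := by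
  unfold FA
  rw [centralizer_map, ← Subgroup.map_commutator]

theorem PB_map (φ : MulAut S) (a : S) : PB (φ a) = (PB a).map φ.toMonoidHom := by
  unfold PB
  rw [MonoidHom.map_closure]
  congr 1
  ext x
  constructor
  · rintro ⟨h1, h2⟩
    refine ⟨φ.symm x, ⟨?_, ?_⟩, φ.apply_symm_apply x⟩
    · apply φ.injective
      rw [map_mul, map_mul, MulEquiv.apply_symm_apply, h1]
    · apply φ.injective
      rw [map_pow, MulEquiv.apply_symm_apply, h2, map_one]
  · rintro ⟨z, ⟨h1, h2⟩, rfl⟩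
    refine ⟨?_, ?_⟩
    · show φ z * φ a = φ a * φ z
      rw [← map_mul, h1, map_mul]
    · show φ z ^ 3 = 1
      rw [← map_pow, h2, map_one]

theorem mem_FA_map (φ : MulAut S) {a x : S} : x ∈ FA (φ a) ↔ φ⁻¹ x ∈ FA a := by
  rw [FA_map, Subgroup.mem_map]
  constructor
  · rintro ⟨z, hz, rfl⟩
    have : φ⁻¹ (φ.toMonoidHom z) = z := φ.symm_apply_apply z
    rw [this]; exact hz
  · intro h
    exact ⟨_, h, φ.apply_symm_apply x⟩

theorem mem_PB_map (φ : MulAut S) {a x : S} : x ∈ PB (φ a) ↔ φ⁻¹ x ∈ PB a := by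
  rw [PB_map, Subgroup.mem_map]
  constructor
  · rintro ⟨z, hz, rfl⟩
    have : φ⁻¹ (φ.toMonoidHom z) = z := φ.symm_apply_apply z
    rw [this]; exact hz
  · intro h
    exact ⟨_, h, φ.apply_symm_apply x⟩

end transport

/-! ### the group `F0` -/

theorem sign_comm (σ τ : Perm (Fin 5)) : Perm.sign ⁅σ, τ⁆ = 1 := by
  rw [commutatorElement_def, map_mul, map_mul, map_mul, map_inv, map_inv]
  rcases Int.units_eq_one_or (Perm.sign σ) with h | h <;> rcases Int.units_eq_one_or (Perm.sign τ) with h' | h' <;>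
    rw [h, h'] <;> rfl

theorem comm_y_mul {g h : H} (hg : g * y = y * g) (hh : h * y = y * h) : ⁅y * g, h⁆ = ⁅g, h⁆ ∧ ⁅g, y * h⁆ = ⁅g, h⁆ := by
  rw [commutatorElement_def, commutatorElement_def, commutatorElement_def]
  have hy1 : y * h⁻¹ = h⁻¹ * y := by rw [eq_inv_mul_iff_mul_eq, ← mul_assoc, hh, mul_inv_cancel_right]
  have hg1 : y * g⁻¹ = g⁻¹ * y := by rw [eq_inv_mul_iff_mul_eq, ← mul_assoc, hg, mul_inv_cancel_right]
  constructor
  · calc y * g * h * (y * g)⁻¹ * h⁻¹ = y * g * h * g⁻¹ * (y * h⁻¹) := by rw [mul_inv_rev, y_inv]; group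
      _ = y * (g * h * g⁻¹ * h⁻¹ * y) := by rw [hy1]; group
      _ = (y * y) * (g * h * g⁻¹ * h⁻¹) := by
        have : g * h * g⁻¹ * h⁻¹ * y = y * (g * h * g⁻¹ * h⁻¹) := by
          calc g * h * g⁻¹ * h⁻¹ * y = g * h * g⁻¹ * (y * h⁻¹) := by rw [hy1]; group
            _ = g * h * (g⁻¹ * y) * h⁻¹ := by group
            _ = g * (h * y) * g⁻¹ * h⁻¹ := by rw [← hg1]; group
            _ = (g * y) * h * g⁻¹ * h⁻¹ := by rw [hh]; group
            _ = _ := by rw [hg]; group
        rw [this]; group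
      _ = _ := by rw [y_sq, one_mul]
  · calc g * (y * h) * g⁻¹ * (y * h)⁻¹ = (g * y) * h * g⁻¹ * h⁻¹ * y := by rw [mul_inv_rev, y_inv]; group
      _ = y * (g * h * g⁻¹ * (h⁻¹ * y)) := by rw [hg]; group
      _ = y * (g * h * g⁻¹ * (y * h⁻¹)) := by rw [hy1]
      _ = y * (g * h * (g⁻¹ * y) * h⁻¹) := by group
      _ = y * (g * (h * y) * g⁻¹ * h⁻¹) := by rw [← hg1]; group
      _ = y * ((g * y) * h * g⁻¹ * h⁻¹) := by rw [hh]; group
      _ = (y * y) * (g * h * g⁻¹ * h⁻¹) := by rw [hg]; group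
      _ = _ := by rw [y_sq, one_mul]

theorem w_comm_y (σ : Perm (Fin 5)) : w σ * y = y * w σ := (y_comm σ).symm

theorem yw_comm_y (σ : Perm (Fin 5)) : y * w σ * y = y * (y * w σ) := by rw [mul_assoc, w_comm_y]

/-- the derived group of the centraliser of `y` -/
theorem FA_y : FA y = F0 := by
  apply le_antisymm
  · unfold FA
    rw [Subgroup.commutator_le]
    intro g hg h hh
    have h1 : ∀ g : H, g ∈ Subgroup.centralizer ({y} : Set H) → g * y = y * g := fun g hg =>
      (Subgroup.mem_centralizer_iff.1 hg y rfl).symm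
    obtain ⟨σ, hσ⟩ := cent_y g (h1 g hg)
    obtain ⟨τ, hτ⟩ := cent_y h (h1 h hh)
    have key : ⁅w σ, w τ⁆ ∈ F0 := by
      rw [← map_commutatorElement]
      exact w_mem_F0 (sign_comm σ τ)
    rcases hσ with rfl | rfl <;> rcases hτ with rfl | rfl
    · exact key
    · rw [(comm_y_mul (w_comm_y σ) (w_comm_y τ)).2]; exact key
    · rw [(comm_y_mul (w_comm_y σ) (w_comm_y τ)).1]; exact key
    · rw [(comm_y_mul (w_comm_y σ) (yw_comm_y τ)).1, (comm_y_mul (w_comm_y σ) (w_comm_y τ)).2]; exact key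
  · unfold FA F0
    rw [← alternatingGroup.commutator_perm_eq (α := Fin 5) (by rw [Nat.card_fin]), commutator_def,
      Subgroup.map_commutator]
    have : (⊤ : Subgroup (Perm (Fin 5))).map w ≤ Subgroup.centralizer ({y} : Set H) := by
      rintro _ ⟨σ, -, rfl⟩
      rw [Subgroup.mem_centralizer_iff]
      rintro _ rfl
      exact y_comm σ
    exact Subgroup.commutator_mono this this

theorem card_F0 : Nat.card F0 = 60 := by
  have h := nat_card_alternatingGroup (α := Fin 5)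
  rw [F0, Subgroup.card_map_of_injective w_injective, h, Nat.card_fin]
  rfl

theorem exists_equiv_F0 : Nonempty (F0 ≃* alternatingGroup (Fin 5)) :=
  ⟨((alternatingGroup (Fin 5)).equivMapOfInjective w w_injective).symm⟩

/-- a representative of the class 2A -/
theorem isA_aut {a : H} (h : IsA a) : ∃ m : H, MulAut.conj m y = a := by
  obtain ⟨m, rfl⟩ := h.exists
  exact ⟨m⁻¹, by rw [MulAut.conj_apply, inv_inv]⟩

/-- a representative of the class 2B -/
theorem isB_aut {a : H} (h : IsB a) : ∃ m : H, MulAut.conj m (p * r) = a := by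
  obtain ⟨m, rfl⟩ := h.exists
  exact ⟨m⁻¹, by rw [MulAut.conj_apply, inv_inv]⟩

/-- the centraliser of `F0` in the automorphism group -/
theorem cent_F0_aut {φ : MulAut H} (h : ∀ f ∈ F0, φ f = f) :
    φ = 1 ∨ φ = MulAut.conj y ∨ φ = c ∨ φ = MulAut.conj y * c := by
  obtain ⟨m, hm⟩ := exists_conj φ
  have hm' : m = 1 ∨ m = y := by
    apply cent_F0
    intro f hf
    have h1 := h f hf
    rcases hm with rfl | rfl
    · rw [MulAut.conj_apply] at h1
      exact mul_inv_eq_iff_eq_mul.1 h1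
    · rw [MulAut.mul_apply, c_F0 hf, MulAut.conj_apply] at h1
      exact mul_inv_eq_iff_eq_mul.1 h1
  rcases hm' with rfl | rfl <;> rcases hm with rfl | rfl
  · left; exact map_one _
  · right; right; left; rw [map_one, one_mul]
  · right; left; rfl
  · right; right; right; rfl

theorem c_conj_y : c * MulAut.conj y = MulAut.conj y * c := by rw [c_conj, c_y]

theorem conj_y_sq : MulAut.conj y * MulAut.conj y = 1 := by rw [← map_mul, y_sq, map_one]

theorem yc_sq : MulAut.conj y * c * (MulAut.conj y * c) = 1 := by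
  calc MulAut.conj y * c * (MulAut.conj y * c) = MulAut.conj y * (c * MulAut.conj y) * c := by group
    _ = (MulAut.conj y * MulAut.conj y) * (c * c) := by rw [c_conj_y]; group
    _ = 1 := by rw [conj_y_sq, c_sq, one_mul]

theorem centFA {a : H} (ha : IsA a) (φ : MulAut H) (h : ∀ f ∈ FA a, φ f = f) :
    φ * φ = 1 ∧ (φ ∈ Inn → φ = 1 ∨ φ = MulAut.conj a) := by
  obtain ⟨m, rfl⟩ := isA_aut ha
  set θ := MulAut.conj m with hθ
  set ψ := θ⁻¹ * φ * θ with hψ
  have hφ : φ = θ * ψ * θ⁻¹ := by rw [hψ]; group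
  have h1 : ∀ f ∈ F0, ψ f = f := by
    intro f hf
    rw [hψ, MulAut.mul_apply, MulAut.mul_apply]
    have h2 : θ f ∈ FA (θ y) := by
      rw [mem_FA_map, FA_y, MulAut.inv_apply_self]; exact hf
    rw [h _ h2, MulAut.inv_apply_self]
  have hin : φ ∈ Inn → ψ ∈ Inn := fun hh => by
    rw [hψ]
    exact mul_mem (mul_mem (inv_mem (conj_mem m)) hh) (conj_mem m)
  rcases cent_F0_aut h1 with h2 | h2 | h2 | h2
  · rw [hφ, h2, mul_one, mul_inv_cancel]
    exact ⟨one_mul 1, fun _ => Or.inl rfl⟩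
  · rw [hφ, h2]
    refine ⟨?_, fun _ => Or.inr ?_⟩
    · calc θ * MulAut.conj y * θ⁻¹ * (θ * MulAut.conj y * θ⁻¹) = θ * (MulAut.conj y * MulAut.conj y) * θ⁻¹ := by group
        _ = 1 := by rw [conj_y_sq]; group
    · rw [mul_conj]
  · refine ⟨?_, fun h3 => absurd (hin h3) (by rw [h2]; exact c_not_mem)⟩
    rw [hφ, h2]
    calc θ * c * θ⁻¹ * (θ * c * θ⁻¹) = θ * (c * c) * θ⁻¹ := by group
      _ = 1 := by rw [c_sq]; group
  · refine ⟨?_, fun h3 => absurd (hin h3) (by rw [h2]; exact conj_mul_c_not_mem y)⟩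
    rw [hφ, h2]
    calc θ * (MulAut.conj y * c) * θ⁻¹ * (θ * (MulAut.conj y * c) * θ⁻¹)
        = θ * (MulAut.conj y * c * (MulAut.conj y * c)) * θ⁻¹ := by group
      _ = 1 := by rw [yc_sq]; group

theorem p_not_mem : p ∉ F0 ∧ p * y ∉ F0 := by
  have h : c p ≠ p := by
    rw [c_p]
    intro h
    exact y_ne_one (mul_eq_right.1 h)
  exact ⟨fun h1 => h (c_fix.2 (Or.inl h1)), fun h1 => h (c_fix.2 (Or.inr h1))⟩

theorem outFA {a : H} (ha : IsA a) : ∃ τ : H, τ * a = a * τ ∧
    ∀ g ∈ FA a, ∃ f ∈ FA a, τ * f * τ⁻¹ ≠ g * f * g⁻¹ := by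
  obtain ⟨m, rfl⟩ := isA_aut ha
  set θ := MulAut.conj m with hθ
  refine ⟨θ p, by rw [← map_mul, ← yp_comm, map_mul], fun g hg => ?_⟩
  by_contra hne
  push Not at hne
  rw [mem_FA_map, FA_y] at hg
  have h1 : ∀ f ∈ F0, ((θ⁻¹ g)⁻¹ * p) * f = f * ((θ⁻¹ g)⁻¹ * p) := by
    intro f hf
    have h2 := hne (θ f) (by rw [mem_FA_map, FA_y, MulAut.inv_apply_self]; exact hf)
    have h3 := congrArg (fun u => θ⁻¹ u) h2
    simp only [map_mul, map_inv, MulAut.inv_apply_self] at h3
    calc (θ⁻¹ g)⁻¹ * p * f = (θ⁻¹ g)⁻¹ * (p * f * p⁻¹) * p := by group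
      _ = (θ⁻¹ g)⁻¹ * (θ⁻¹ g * f * (θ⁻¹ g)⁻¹) * p := by rw [h3]
      _ = _ := by group
  rcases cent_F0 h1 with h2 | h2
  · apply p_not_mem.1
    rw [← inv_mul_eq_one.1 h2]; exact hg
  · apply p_not_mem.2
    have h3 : p * y = θ⁻¹ g := by
      rw [inv_mul_eq_iff_eq_mul] at h2
      rw [h2, mul_assoc, y_sq, mul_one]
    rw [h3]; exact hg

theorem conj_p_F0 {f : H} (hf : f ∈ F0) : p * f * p⁻¹ ∈ F0 := by
  obtain ⟨σ, hσ, rfl⟩ := mem_F0.1 hf
  rw [← w_p, ← map_inv, ← map_mul, ← map_mul]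
  exact w_mem_F0 (by rw [Perm.sign_mul, Perm.sign_mul, hσ, Perm.sign_inv, mul_one, Int.units_mul_self])

theorem conj_p_c : MulAut.conj p * c * (MulAut.conj p)⁻¹ = MulAut.conj y * c := by
  rw [← map_inv, mul_assoc, c_conj, map_inv, c_p, ← mul_assoc, ← map_mul, mul_inv_rev, y_inv, mul_inv_cancel_left]

theorem innFA {a : H} (ha : IsA a) (c' φ : MulAut H) (hc : c' ∉ Inn) (h : ∀ f ∈ FA a, c' f = f)
    (hcomm : φ * c' = c' * φ) : ∃ g ∈ FA a, ∀ f ∈ FA a, φ f = g * f * g⁻¹ := by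
  obtain ⟨m, rfl⟩ := isA_aut ha
  set θ := MulAut.conj m with hθ
  set ψ := θ⁻¹ * φ * θ with hψ
  set c1 := θ⁻¹ * c' * θ with hc1
  have hφ : φ = θ * ψ * θ⁻¹ := by rw [hψ]; group
  have h1 : ∀ f ∈ F0, c1 f = f := by
    intro f hf
    rw [hc1, MulAut.mul_apply, MulAut.mul_apply]
    have h2 : θ f ∈ FA (θ y) := by
      rw [mem_FA_map, FA_y, MulAut.inv_apply_self]; exact hf
    rw [h _ h2, MulAut.inv_apply_self]
  have hco : ψ * c1 = c1 * ψ := by
    calc ψ * c1 = θ⁻¹ * (φ * c') * θ := by rw [hψ, hc1]; group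
      _ = θ⁻¹ * (c' * φ) * θ := by rw [hcomm]
      _ = c1 * ψ := by rw [hψ, hc1]; group
  have hin : c1 ∉ Inn := fun hh => hc (by
    have : c' = θ * c1 * θ⁻¹ := by rw [hc1]; group
    rw [this]
    exact mul_mem (mul_mem (conj_mem m) hh) (inv_mem (conj_mem m)))
  -- the statement for `y`
  have key : ∃ g ∈ F0, ∀ f ∈ F0, ψ f = g * f * g⁻¹ := by
    have hc1' : c1 = c ∨ c1 = MulAut.conj y * c := by
      rcases cent_F0_aut h1 with h2 | h2 | h2 | h2
      · exact absurd (h2 ▸ one_mem _) hin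
      · exact absurd (h2 ▸ conj_mem y) hin
      · exact Or.inl h2
      · exact Or.inr h2
    have hc1c : c1 * c = c * c1 := by
      rcases hc1' with h2 | h2 <;> rw [h2]
      rw [← mul_assoc, c_conj_y]
    obtain ⟨n, hn⟩ := exists_conj ψ
    have h3 : MulAut.conj n * c1 = c1 * MulAut.conj n := by
      rcases hn with hn | hn
      · rw [← hn]; exact hco
      · have h4 : MulAut.conj n = ψ * c := by rw [hn, mul_assoc, c_sq, mul_one]
        rw [h4]
        calc ψ * c * c1 = ψ * (c1 * c) := by rw [hc1c]; group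
          _ = (ψ * c1) * c := by group
          _ = _ := by rw [hco]; group
    have h4 : c1 n = n := by
      apply conj_inj
      rw [← mul_conj, ← h3, mul_inv_cancel_right]
    have h5 : n ∈ F0 ∨ n * y ∈ F0 := by
      rcases hc1' with h2 | h2
      · rw [h2] at h4; exact c_fix.1 h4
      · rw [h2, ← conj_p_c, MulAut.mul_apply, MulAut.mul_apply, ← map_inv, MulAut.conj_apply,
          MulAut.conj_apply, inv_inv] at h4
        have h6 : c (p⁻¹ * n * p) = p⁻¹ * n * p := by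
          rw [mul_inv_eq_iff_eq_mul] at h4
          calc c (p⁻¹ * n * p) = p⁻¹ * (p * c (p⁻¹ * n * p)) := by group
            _ = _ := by rw [h4]; group
        rcases c_fix.1 h6 with h7 | h7
        · left
          have := conj_p_F0 h7
          have h8 : p * (p⁻¹ * n * p) * p⁻¹ = n := by group
          rwa [h8] at this
        · right
          have := conj_p_F0 h7
          have h8 : p * (p⁻¹ * n * p * y) * p⁻¹ = n * y := by
            calc p * (p⁻¹ * n * p * y) * p⁻¹ = n * (p * y) * p⁻¹ := by group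
              _ = n * y := by rw [← yp_comm]; group
          rwa [h8] at this
    have h6 : ∀ f ∈ F0, ψ f = n * f * n⁻¹ := by
      intro f hf
      rcases hn with hn | hn
      · rw [hn, MulAut.conj_apply]
      · rw [hn, MulAut.mul_apply, c_F0 hf, MulAut.conj_apply]
    rcases h5 with h5 | h5
    · exact ⟨n, h5, h6⟩
    · refine ⟨n * y, h5, fun f hf => ?_⟩
      rw [h6 f hf, mul_inv_rev, y_inv]
      calc n * f * n⁻¹ = n * ((y * y) * f) * n⁻¹ := by rw [y_sq, one_mul]
        _ = n * (y * (y * f)) * n⁻¹ := by group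
        _ = n * (y * (f * y)) * n⁻¹ := by rw [comm_y_F0 hf]
        _ = _ := by group
  obtain ⟨g, hg, hgf⟩ := key
  refine ⟨θ g, by rw [mem_FA_map, FA_y, MulAut.inv_apply_self]; exact hg, fun f hf => ?_⟩
  rw [mem_FA_map, FA_y] at hf
  rw [hφ, MulAut.mul_apply, MulAut.mul_apply, hgf _ hf, map_mul, map_mul, map_inv, MulAut.apply_inv_self]

theorem centC {c' : MulAut H} (hc : c' ∉ Inn) (hc2 : c' * c' = 1) : ∃ a, IsA a ∧
    (∀ s, c' s = s ↔ (s ∈ FA a ∨ s * a ∈ FA a)) ∧ ∃ τ : H, τ * a = a * τ ∧ c' τ = τ * a := by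
  obtain ⟨m, hm⟩ := outer_conj hc hc2
  set θ := MulAut.conj m with hθ
  refine ⟨θ y, isA_y.map θ, fun x => ?_, θ p, ?_, ?_⟩
  · rw [mem_FA_map, mem_FA_map, FA_y, map_mul, MulAut.inv_apply_self, ← c_fix, hm, MulAut.mul_apply,
      MulAut.mul_apply]
    constructor
    · intro h
      have := congrArg (fun u => θ⁻¹ u) h
      simpa only [MulAut.inv_apply_self] using this
    · intro h
      rw [h, MulAut.apply_inv_self]
  · rw [← map_mul, ← yp_comm, map_mul]
  · rw [hm, MulAut.mul_apply, MulAut.mul_apply, MulAut.inv_apply_self, c_p, yp_comm, map_mul]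

end Cfsg.Agent.CoThreeStd.AutCent
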