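import Cfsg.Agent.CoThreeStd.Parity
set_option linter.all false

/-!
# S1750, fusion of the involution `t`, patterns α and β (helper178)

`Ctx t ι`: `C_G(t) = ⟨t⟩ × ι(M)`. `Inv2 A B`: the two classes of involutions of `M = M₁₂`, abstractly.
* `conj_t_mul_b` : `t ~ tb` for `b ∈ 2B` (parity lemma);
* `not_conj_b` : `t ≁ b`;
* `conj_t_mul_a` : if `t ~ y ∈ 2A`, then `t ~ ty` (pattern α is dead);
* `exists_three` : then there is `g` with `t^g = y`, `y^g = ty` (pattern β).
-/

set_option autoImplicit false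

namespace Cfsg.Agent.CoThreeStd.Fusion

open Cfsg.Agent.CoThreeStd.Parity

variable {G M : Type*} [Group G] [Group M]

/-- `C_G(t) = ⟨t⟩ × ι(M)`, `t` an involution. -/
structure Ctx (t : G) (ι : M →* G) : Prop where
  inj : Function.Injective ι
  tt : t * t = 1
  t_ne : t ≠ 1
  comm : ∀ m, ι m * t = t * ι m
  nmem : ∀ m, ι m ≠ t
  cent : ∀ g, g * t = t * g → ∃ m, g = ι m ∨ g = t * ι m

/-- The classes 2A and 2B of `M₁₂`. -/
structure Inv2 (A B : M → Prop) : Prop where
  invA : ∀ a, A a → a * a = 1 ∧ a ≠ 1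
  invB : ∀ b, B b → b * b = 1 ∧ b ≠ 1
  cases : ∀ m, m * m = 1 → m ≠ 1 → A m ∨ B m
  conjA : ∀ a a', A a → A a' → ∃ m, m * a * m⁻¹ = a'
  conjB : ∀ b b', B b → B b' → ∃ m, m * b * m⁻¹ = b'
  /-- a 2B-involution is a commutator in its centraliser -/
  commB : ∀ b, B b → ∃ u v, u * b = b * u ∧ v * b = b * v ∧ u * v * u⁻¹ * v⁻¹ = b
  /-- there is a 2A-pure four-group -/
  four : ∃ y y', A y ∧ A y' ∧ y * y' = y' * y ∧ A (y * y')
  evenA : Even (Nat.card {m // A m})

variable {t : G} {ι : M →* G} {A B : M → Prop}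

namespace Ctx

theorem conj_mul (c : Ctx t ι) (m : M) : t * ι m * t⁻¹ = ι m := by
  rw [← c.comm, mul_inv_cancel_right]

theorem inv_t (c : Ctx t ι) : t⁻¹ = t := inv_eq_of_mul_eq_one_left c.tt

/-- elements of `C_G(t)` normalise `ι M` -/
theorem cent_conj (c : Ctx t ι) {g : G} (hg : g * t = t * g) : ∃ k : M, ∀ x : M,
    g * ι x * g⁻¹ = ι (k * x * k⁻¹) := by
  obtain ⟨k, rfl | rfl⟩ := c.cent g hg
  · exact ⟨k, fun x => by rw [map_mul, map_mul, map_inv]⟩
  · refine ⟨k, fun x => ?_⟩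
    calc t * ι k * ι x * (t * ι k)⁻¹ = t * ι (k * x * k⁻¹) * t⁻¹ := by
          rw [map_mul, map_mul, map_inv]; group
      _ = _ := c.conj_mul _

/-- The centraliser of a conjugate of `t`. -/
theorem cent_of_conj (c : Ctx t ι) {a g x : G} (ha : g * t * g⁻¹ = a) (hx : x * a = a * x) :
    ∃ m, x = g * ι m * g⁻¹ ∨ x = a * (g * ι m * g⁻¹) := by
  subst ha
  have h1 : (g⁻¹ * x * g) * t = t * (g⁻¹ * x * g) := by
    have h2 : g⁻¹ * (x * (g * t * g⁻¹)) * g = g⁻¹ * ((g * t * g⁻¹) * x) * g := by rw [hx]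
    calc (g⁻¹ * x * g) * t = g⁻¹ * (x * (g * t * g⁻¹)) * g := by group
      _ = g⁻¹ * ((g * t * g⁻¹) * x) * g := h2
      _ = t * (g⁻¹ * x * g) := by group
  obtain ⟨m, h | h⟩ := c.cent _ h1
  · exact ⟨m, Or.inl (by rw [← h]; group)⟩
  · refine ⟨m, Or.inr ?_⟩
    have : x = g * (g⁻¹ * x * g) * g⁻¹ := by group
    rw [this, h]; group

end Ctx

/-- The involution of `G` `a` is of the form `g t g⁻¹`, `b = g m g⁻¹` with `m ∈ 2A`. -/
def Rel (t : G) (ι : M →* G) (A : M → Prop) (a b : G) : Prop :=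
  ∃ g m, A m ∧ g * t * g⁻¹ = a ∧ g * ι m * g⁻¹ = b

theorem conj_iff_exists {a b : G} : IsConj a b ↔ ∃ g, g * a * g⁻¹ = b := isConj_iff

theorem centralizer_card [Finite G] (c : Ctx t ι) :
    Nat.card (Subgroup.centralizer ({t} : Set G)) = 2 * Nat.card M := by
  have : Finite M := Finite.of_injective ι c.inj
  have h : Nat.card (Subgroup.centralizer ({t} : Set G)) = Nat.card (M ⊕ M) := by
    symm
    apply Nat.card_congr
    refine Equiv.ofBijective (fun x => Sum.elim (fun m => ⟨ι m, ?_⟩) (fun m => ⟨t * ι m, ?_⟩) x) ⟨?_, ?_⟩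
    · exact Subgroup.mem_centralizer_singleton_iff.2 (c.comm m)
    · rw [Subgroup.mem_centralizer_singleton_iff, mul_assoc, c.comm]
    · rintro (a | a) (b | b) h
      · exact congrArg _ (c.inj (congrArg Subtype.val h))
      · exfalso
        have h1 : ι a = t * ι b := congrArg Subtype.val h
        exact c.nmem (a * b⁻¹) (by rw [map_mul, map_inv, h1, mul_inv_cancel_right])
      · exfalso
        have h1 : t * ι a = ι b := congrArg Subtype.val h
        exact c.nmem (b * a⁻¹) (by rw [map_mul, map_inv, ← h1, mul_inv_cancel_right])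
      · exact congrArg _ (c.inj (mul_left_cancel (congrArg Subtype.val h : t * ι a = t * ι b)))
    · rintro ⟨g, hg⟩
      obtain ⟨m, rfl | rfl⟩ := c.cent g (Subgroup.mem_centralizer_singleton_iff.1 hg)
      · exact ⟨Sum.inl m, rfl⟩
      · exact ⟨Sum.inr m, rfl⟩
  rw [h, Nat.card_sum]
  ring

/-- `t ~ tb`: parity. -/
theorem conj_t_mul_b [Finite G] (hG : ∀ H : Subgroup G, H.index ≠ 2) (c : Ctx t ι) (h : Inv2 A B)
    {b : M} (hb : B b) : IsConj t (t * ι b) := by
  classical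
  have hfin : Finite M := Finite.of_injective ι c.inj
  by_contra hne
  have hneB : ∀ b', B b' → ¬ IsConj t (t * ι b') := by
    intro b' hb' h1
    apply hne
    obtain ⟨m, hm⟩ := h.conjB _ _ hb' hb
    refine h1.trans (isConj_iff.2 ⟨ι m, ?_⟩)
    rw [← hm, map_mul, map_mul, map_inv]
    calc ι m * (t * ι b') * (ι m)⁻¹ = (ι m * t) * ι b' * (ι m)⁻¹ := by group
      _ = (t * ι m) * ι b' * (ι m)⁻¹ := by rw [c.comm]
      _ = _ := by group
  set C := Subgroup.centralizer ({t} : Set G) with hC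
  set C₀ := ι.range with hC₀
  have hle : C₀ ≤ C := by
    rintro _ ⟨m, rfl⟩
    exact Subgroup.mem_centralizer_singleton_iff.2 (c.comm m)
  have hcM : Nat.card C₀ = Nat.card M :=
    (Nat.card_congr (MonoidHom.ofInjective c.inj).toEquiv).symm
  have hcC : Nat.card C = 2 * Nat.card M := centralizer_card c
  have hpos : 0 < Nat.card M := Nat.card_pos
  have h2 : C₀.relIndex C = 2 := by
    have h3 := (C₀.subgroupOf C).card_mul_index
    rw [Nat.card_congr (Subgroup.subgroupOfEquivOfLe hle).toEquiv, hcM, hcC] at h3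
    have h4 : (C₀.subgroupOf C).index = C₀.relIndex C := rfl
    rw [h4, mul_comm 2] at h3
    exact Nat.eq_of_mul_eq_mul_left hpos h3
  have hdvd := two_mul_card_dvd hG hle h2 t c.tt
  rw [mul_comm] at hdvd
  have hposC : 0 < Nat.card C := Nat.card_pos
  have hdvd2 : 2 ∣ Nat.card {h : G // (h ∈ C ∧ h ∉ C₀) ∧ IsConj t h} :=
    Nat.dvd_of_mul_dvd_mul_left hposC hdvd
  -- the set is `{t}` or `{t} ∪ tA`
  have hel : ∀ g : G, ((g ∈ C ∧ g ∉ C₀) ∧ IsConj t g) ↔
      g = t ∨ ∃ a, A a ∧ IsConj t (t * ι a) ∧ g = t * ι a := by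
    intro g
    constructor
    · rintro ⟨⟨h3, h4⟩, h5⟩
      obtain ⟨m, rfl | rfl⟩ := c.cent g (Subgroup.mem_centralizer_singleton_iff.1 h3)
      · exact absurd ⟨m, rfl⟩ h4
      · by_cases hm : m = 1
        · left; rw [hm, map_one, mul_one]
        · right
          have hmm : m * m = 1 := by
            apply c.inj
            rw [map_mul, map_one]
            obtain ⟨k, hk⟩ := isConj_iff.1 h5
            have h6 : (t * ι m) * (t * ι m) = 1 := by
              rw [← hk]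
              calc k * t * k⁻¹ * (k * t * k⁻¹) = k * (t * t) * k⁻¹ := by group
                _ = 1 := by rw [c.tt]; group
            calc ι m * ι m = t * t * (ι m * ι m) := by rw [c.tt, one_mul]
              _ = t * (t * ι m) * ι m := by group
              _ = t * (ι m * t) * ι m := by rw [c.comm]
              _ = (t * ι m) * (t * ι m) := by group
              _ = 1 := h6
          rcases h.cases m hmm hm with h6 | h6
          · exact ⟨m, h6, h5, rfl⟩
          · exact absurd h5 (hneB m h6)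
    · rintro (rfl | ⟨a, ha, h3, rfl⟩)
      · refine ⟨⟨Subgroup.mem_centralizer_singleton_iff.2 rfl, ?_⟩, IsConj.refl _⟩
        rintro ⟨m, hm⟩
        exact c.nmem m hm
      · refine ⟨⟨?_, ?_⟩, h3⟩
        · rw [hC, Subgroup.mem_centralizer_singleton_iff, mul_assoc, c.comm]
        · rintro ⟨m, hm⟩
          exact c.nmem (m * a⁻¹) (by rw [map_mul, map_inv, hm, mul_inv_cancel_right])
  have hodd : Odd (Nat.card {h : G // (h ∈ C ∧ h ∉ C₀) ∧ IsConj t h}) := by
    have e1 : Nat.card {h : G // (h ∈ C ∧ h ∉ C₀) ∧ IsConj t h} =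
        Nat.card {g : G // g = t ∨ ∃ a, A a ∧ IsConj t (t * ι a) ∧ g = t * ι a} :=
      Nat.card_congr (Equiv.subtypeEquivRight hel)
    rw [e1]
    by_cases hA : ∃ a, A a ∧ IsConj t (t * ι a)
    · obtain ⟨a, ha, hta⟩ := hA
      have hall : ∀ a', A a' → IsConj t (t * ι a') := by
        intro a' ha'
        obtain ⟨m, hm⟩ := h.conjA _ _ ha ha'
        refine hta.trans (isConj_iff.2 ⟨ι m, ?_⟩)
        rw [← hm, map_mul, map_mul, map_inv]
        calc ι m * (t * ι a) * (ι m)⁻¹ = (ι m * t) * ι a * (ι m)⁻¹ := by group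
          _ = (t * ι m) * ι a * (ι m)⁻¹ := by rw [c.comm]
          _ = _ := by group
      have e2 : Nat.card {g : G // g = t ∨ ∃ a, A a ∧ IsConj t (t * ι a) ∧ g = t * ι a} =
          Nat.card ({m : M // A m} ⊕ Unit) := by
        symm
        apply Nat.card_congr
        refine Equiv.ofBijective (fun x => Sum.elim
          (fun m => ⟨t * ι m.1, Or.inr ⟨m.1, m.2, hall m.1 m.2, rfl⟩⟩) (fun _ => ⟨t, Or.inl rfl⟩) x) ⟨?_, ?_⟩
        · rintro (x | x) (y | y) hxy
          · have := c.inj (mul_left_cancel (congrArg Subtype.val hxy : t * ι x.1 = t * ι y.1))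
            rw [Subtype.ext this]
          · exfalso
            have h3 : t * ι x.1 = t := congrArg Subtype.val hxy
            have h4 : ι x.1 = ι 1 := by rw [map_one]; exact mul_left_cancel (h3.trans (mul_one t).symm)
            exact (h.invA _ x.2).2 (c.inj h4)
          · exfalso
            have h3 : t = t * ι y.1 := congrArg Subtype.val hxy
            have h4 : ι y.1 = ι 1 := by rw [map_one]; exact mul_left_cancel (h3.symm.trans (mul_one t).symm)
            exact (h.invA _ y.2).2 (c.inj h4)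
          · rfl
        · rintro ⟨g, rfl | ⟨a', ha', h3, rfl⟩⟩
          · exact ⟨Sum.inr (), rfl⟩
          · exact ⟨Sum.inl ⟨a', ha'⟩, rfl⟩
      rw [e2, Nat.card_sum, Nat.card_unique (α := Unit)]
      exact h.evenA.add_one
    · push Not at hA
      have : Unique {g : G // g = t ∨ ∃ a, A a ∧ IsConj t (t * ι a) ∧ g = t * ι a} :=
        { default := ⟨t, Or.inl rfl⟩
          uniq := by
            rintro ⟨g, rfl | ⟨a', ha', h3, rfl⟩⟩
            · rfl
            · exact absurd h3 (hA a' ha') }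
      rw [Nat.card_unique]
      exact odd_one
  rw [Nat.odd_iff] at hodd
  omega

theorem comm_central {z w x y : G} (hzx : Commute z x) (hzy : Commute z y) (hwx : Commute w x)
    (hwy : Commute w y) (hzw : Commute z w) :
    (z * x) * (w * y) * (z * x)⁻¹ * (w * y)⁻¹ = x * y * x⁻¹ * y⁻¹ := by
  have e1 : (z * x) * (w * y) = (z * w) * (x * y) := hwx.symm.mul_mul_mul_comm z y
  have e2 : (w * y) * (z * x) = (z * w) * (y * x) := by
    rw [hzy.symm.mul_mul_mul_comm w x, hzw.eq]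
  have e3 : Commute (z * w) (x * y * (y * x)⁻¹) :=
    ((hzx.mul_right hzy).mul_right (hzy.mul_right hzx).inv_right).mul_left
      ((hwx.mul_right hwy).mul_right (hwy.mul_right hwx).inv_right)
  calc (z * x) * (w * y) * (z * x)⁻¹ * (w * y)⁻¹ = (z * x) * (w * y) * ((w * y) * (z * x))⁻¹ := by group
    _ = (z * w) * (x * y * (y * x)⁻¹) * (z * w)⁻¹ := by rw [e1, e2]; group
    _ = x * y * (y * x)⁻¹ * (z * w) * (z * w)⁻¹ := by rw [e3.eq]
    _ = _ := by group

namespace Ctx

/-- commutators of elements of `C_G(t)` are in `ι M` -/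
theorem commutator_mem (c : Ctx t ι) {x y : G} (hx : x * t = t * x) (hy : y * t = t * y) :
    ∃ m, x * y * x⁻¹ * y⁻¹ = ι m := by
  obtain ⟨m, hm⟩ := c.cent x hx
  obtain ⟨n, hn⟩ := c.cent y hy
  have hc : ∀ k, Commute t (ι k) := fun k => (c.comm k).symm
  have h1 : ∀ k, Commute (1 : G) (ι k) := fun k => Commute.one_left _
  refine ⟨m * n * m⁻¹ * n⁻¹, ?_⟩
  simp only [map_mul, map_inv]
  rcases hm with rfl | rfl <;> rcases hn with rfl | rfl
  · rfl
  · have := comm_central (h1 m) (h1 n) (hc m) (hc n) (Commute.one_left t)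
    rwa [one_mul] at this
  · have := comm_central (hc m) (hc n) (h1 m) (h1 n) (Commute.one_right t)
    rwa [one_mul] at this
  · exact comm_central (hc m) (hc n) (hc m) (hc n) (Commute.refl t)

end Ctx

/-- `t ≁ b`. -/
theorem not_conj_b (c : Ctx t ι) (h : Inv2 A B) {b : M} (hb : B b) : ¬ IsConj t (ι b) := by
  intro hc
  obtain ⟨g, hg⟩ := isConj_iff.1 hc
  obtain ⟨u, v, hu, hv, huv⟩ := h.commB b hb
  have hg' : g⁻¹ * ι b * g = t := by rw [← hg]; group
  have key : ∀ x : M, x * b = b * x → (g⁻¹ * ι x * g) * t = t * (g⁻¹ * ι x * g) := by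
    intro x hx
    have hx' : ι x * ι b = ι b * ι x := by rw [← map_mul, hx, map_mul]
    rw [← hg']
    calc g⁻¹ * ι x * g * (g⁻¹ * ι b * g) = g⁻¹ * (ι x * ι b) * g := by group
      _ = g⁻¹ * (ι b * ι x) * g := by rw [hx']
      _ = _ := by group
  obtain ⟨m, hm⟩ := c.commutator_mem (key u hu) (key v hv)
  apply c.nmem m
  rw [← hm, ← hg', ← huv]
  simp only [map_mul, map_inv]
  group

/-- If `t ~ y ∈ 2A`, then `t ~ ty` (pattern α is dead). -/
theorem conj_t_mul_a (c : Ctx t ι) (h : Inv2 A B) (hB : ∀ b, B b → IsConj t (t * ι b)) {y : M} (hy : A y)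
    (hty : IsConj t (ι y)) : IsConj t (t * ι y) := by
  by_contra hne
  -- the pattern for all of 2A
  have hA1 : ∀ a, A a → IsConj t (ι a) := by
    intro a ha
    obtain ⟨m, hm⟩ := h.conjA _ _ hy ha
    exact hty.trans (isConj_iff.2 ⟨ι m, by rw [← hm, map_mul, map_mul, map_inv]⟩)
  have hA2 : ∀ a, A a → ¬ IsConj t (t * ι a) := by
    intro a ha h1
    apply hne
    obtain ⟨m, hm⟩ := h.conjA _ _ ha hy
    refine h1.trans (isConj_iff.2 ⟨ι m, ?_⟩)
    rw [← hm, map_mul, map_mul, map_inv]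
    calc ι m * (t * ι a) * (ι m)⁻¹ = (ι m * t) * ι a * (ι m)⁻¹ := by group
      _ = (t * ι m) * ι a * (ι m)⁻¹ := by rw [c.comm]
      _ = _ := by group
  obtain ⟨w, w', hw, hw', hww, hwa⟩ := h.four
  obtain ⟨g, hg⟩ := isConj_iff.1 (hA1 w hw)
  -- `x = t w'` commutes with `w`
  have hx : (t * ι w') * ι w = ι w * (t * ι w') := by
    calc (t * ι w') * ι w = t * ι (w' * w) := by rw [map_mul, mul_assoc]
      _ = t * ι (w * w') := by rw [hww]
      _ = (t * ι w) * ι w' := by rw [map_mul, mul_assoc]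
      _ = (ι w * t) * ι w' := by rw [c.comm]
      _ = _ := by rw [mul_assoc]
  have hxx : (t * ι w') * (t * ι w') = 1 := by
    calc (t * ι w') * (t * ι w') = t * (ι w' * t) * ι w' := by group
      _ = t * (t * ι w') * ι w' := by rw [c.comm]
      _ = (t * t) * ι (w' * w') := by rw [map_mul]; group
      _ = 1 := by rw [c.tt, (h.invA _ hw').1, map_one, one_mul]
  have hwx : ι w * (t * ι w') = t * ι (w * w') := by
    calc ι w * (t * ι w') = (ι w * t) * ι w' := by group
      _ = (t * ι w) * ι w' := by rw [c.comm]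
      _ = _ := by rw [map_mul]; group
  have hww1 : ι w * ι w = 1 := by rw [← map_mul, (h.invA _ hw).1, map_one]
  have hn1 : ¬ IsConj t (t * ι w') := hA2 w' hw'
  have hn2 : ¬ IsConj t (ι w * (t * ι w')) := by rw [hwx]; exact hA2 _ hwa
  obtain ⟨m, hm⟩ := c.cent_of_conj hg hx
  -- `g m g⁻¹` is `x` or `w x`
  have hm2 : g * ι m * g⁻¹ = t * ι w' ∨ g * ι m * g⁻¹ = ι w * (t * ι w') := by
    rcases hm with hm | hm
    · exact Or.inl hm.symm
    · right
      rw [hm, ← mul_assoc, hww1, one_mul]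
  have hm3 : ι w * (g * ι m * g⁻¹) = t * ι w' ∨ ι w * (g * ι m * g⁻¹) = ι w * (t * ι w') := by
    rcases hm2 with h1 | h1
    · right; rw [h1]
    · left; rw [h1, ← mul_assoc, hww1, one_mul]
  have hwgm : ι w * (g * ι m * g⁻¹) = g * (t * ι m) * g⁻¹ := by rw [← hg]; group
  have hcomm2 : (t * ι w') * ι w * (t * ι w')⁻¹ = ι w := by rw [hx]; group
  have hmm : m * m = 1 := by
    apply c.inj
    rw [map_mul, map_one]
    have h1 : (g * ι m * g⁻¹) * (g * ι m * g⁻¹) = 1 := by
      rcases hm2 with h1 | h1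
      · rw [h1, hxx]
      · rw [h1]
        calc ι w * (t * ι w') * (ι w * (t * ι w')) = ι w * ((t * ι w') * ι w) * (t * ι w') := by group
          _ = ι w * (ι w * (t * ι w')) * (t * ι w') := by rw [hx]
          _ = (ι w * ι w) * ((t * ι w') * (t * ι w')) := by group
          _ = 1 := by rw [hww1, hxx, one_mul]
    have h2 : g * (ι m * ι m) * g⁻¹ = 1 := by rw [← h1]; group
    rwa [mul_inv_eq_one, mul_eq_left] at h2
  have hm1 : m ≠ 1 := by
    rintro rfl
    rw [map_one, mul_one, mul_inv_cancel] at hm2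
    rcases hm2 with h1 | h1
    · exact c.nmem w'⁻¹ (by rw [map_inv]; exact (eq_inv_of_mul_eq_one_left h1.symm).symm)
    · rw [hwx] at h1
      exact c.nmem (w * w')⁻¹ (by rw [map_inv]; exact (eq_inv_of_mul_eq_one_left h1.symm).symm)
  rcases h.cases m hmm hm1 with h1 | h1
  · -- `m ∈ 2A`
    have h2 : IsConj t (g * ι m * g⁻¹) := (hA1 m h1).trans (isConj_iff.2 ⟨g, rfl⟩)
    rcases hm2 with h3 | h3 <;> rw [h3] at h2
    · exact hn1 h2
    · exact hn2 h2
  · have h2 : IsConj t (ι w * (g * ι m * g⁻¹)) := by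
      rw [hwgm]; exact (hB m h1).trans (isConj_iff.2 ⟨g, rfl⟩)
    rcases hm3 with h3 | h3 <;> rw [h3] at h2
    · exact hn1 h2
    · exact hn2 h2

theorem Rel.unique (c : Ctx t ι) {a x y : G} (hx : Rel t ι A a x) (hy : Rel t ι A a y) : y ≠ a * x := by
  obtain ⟨g, m, hm, h1, rfl⟩ := hx
  obtain ⟨k, n, hn, h2, rfl⟩ := hy
  intro h
  have h3 : (g⁻¹ * k) * t = t * (g⁻¹ * k) := by
    have : k * t * k⁻¹ = g * t * g⁻¹ := by rw [h1, h2]
    calc (g⁻¹ * k) * t = g⁻¹ * (k * t * k⁻¹) * k := by group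
      _ = g⁻¹ * (g * t * g⁻¹) * k := by rw [this]
      _ = _ := by group
  obtain ⟨l, hl⟩ := c.cent_conj h3
  have h4 : g * ι (l * n * l⁻¹) * g⁻¹ = g * (t * ι m) * g⁻¹ := by
    rw [← hl n]
    calc g * (g⁻¹ * k * ι n * (g⁻¹ * k)⁻¹) * g⁻¹ = k * ι n * k⁻¹ := by group
      _ = a * (g * ι m * g⁻¹) := h
      _ = _ := by rw [← h1]; group
  have h5 : ι (l * n * l⁻¹) = t * ι m := mul_left_cancel (mul_right_cancel h4)
  exact c.nmem (l * n * l⁻¹ * m⁻¹) (by rw [map_mul, h5, map_inv, mul_inv_cancel_right])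

/-- For commuting involutions `a`, `x` with `a, x, ax ∈ t^G`: `(a, x)` or `(a, ax)` is conjugate to `(t, 2A)`. -/
theorem rel_or (c : Ctx t ι) (h : Inv2 A B) {a x : G} (ha : IsConj t a) (hx : IsConj t x)
    (hax : IsConj t (a * x)) (hcomm : x * a = a * x) : Rel t ι A a x ∨ Rel t ι A a (a * x) := by
  obtain ⟨g, hg⟩ := isConj_iff.1 ha
  have inv_of : ∀ z, IsConj t z → z * z = 1 := by
    intro z hz
    obtain ⟨k, rfl⟩ := isConj_iff.1 hz
    calc k * t * k⁻¹ * (k * t * k⁻¹) = k * (t * t) * k⁻¹ := by group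
      _ = 1 := by rw [c.tt]; group
  have ne_of : ∀ z, IsConj t z → z ≠ 1 := by
    intro z hz h1
    obtain ⟨k, hk⟩ := isConj_iff.1 hz
    rw [h1, mul_inv_eq_one, mul_eq_left] at hk
    exact c.t_ne hk
  obtain ⟨m, hm⟩ := c.cent_of_conj hg hcomm
  have haa := inv_of a ha
  have hm2 : g * ι m * g⁻¹ = x ∨ g * ι m * g⁻¹ = a * x := by
    rcases hm with hm | hm
    · exact Or.inl hm.symm
    · right; rw [hm, ← mul_assoc, haa, one_mul]
  have hc1 : IsConj t (g * ι m * g⁻¹) := by rcases hm2 with h1 | h1 <;> rw [h1] <;> assumption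
  have hc2 : IsConj t (ι m) := hc1.trans (isConj_iff.2 ⟨g⁻¹, by group⟩)
  have hmm : m * m = 1 := by
    apply c.inj; rw [map_mul, map_one]; exact inv_of _ hc2
  have hm1 : m ≠ 1 := by
    rintro rfl
    exact ne_of _ hc2 (map_one ι)
  rcases h.cases m hmm hm1 with h1 | h1
  · rcases hm2 with h2 | h2
    · exact Or.inl ⟨g, m, h1, hg, h2⟩
    · exact Or.inr ⟨g, m, h1, hg, h2⟩
  · exact absurd hc2 (not_conj_b c h h1)

theorem Rel.trans_conj (c : Ctx t ι) (h : Inv2 A B) {a b a' b' : G} (h1 : Rel t ι A a b)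
    (h2 : Rel t ι A a' b') : ∃ g, g * a * g⁻¹ = a' ∧ g * b * g⁻¹ = b' := by
  obtain ⟨g, m, hm, rfl, rfl⟩ := h1
  obtain ⟨k, n, hn, rfl, rfl⟩ := h2
  obtain ⟨l, rfl⟩ := h.conjA _ _ hm hn
  refine ⟨k * ι l * g⁻¹, ?_, ?_⟩
  · calc k * ι l * g⁻¹ * (g * t * g⁻¹) * (k * ι l * g⁻¹)⁻¹ = k * (ι l * t) * (ι l)⁻¹ * k⁻¹ := by group
      _ = k * (t * ι l) * (ι l)⁻¹ * k⁻¹ := by rw [c.comm]
      _ = _ := by group
  · simp only [map_mul, map_inv]
    group

theorem Rel.conj {a b : G} (h1 : Rel t ι A a b) (g : G) : Rel t ι A (g * a * g⁻¹) (g * b * g⁻¹) := by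
  obtain ⟨k, m, hm, rfl, rfl⟩ := h1
  exact ⟨g * k, m, hm, by group, by group⟩

/-- Pattern β: if `t ~ y ∈ 2A`, there is `g` with `g : t → y → ty`. -/
theorem exists_three (c : Ctx t ι) (h : Inv2 A B) (hB : ∀ b, B b → IsConj t (t * ι b)) {y : M} (hy : A y)
    (hty : IsConj t (ι y)) : ∃ g, g * t * g⁻¹ = ι y ∧ g * ι y * g⁻¹ = t * ι y := by
  have h2 := conj_t_mul_a c h hB hy hty
  have hyy : ι y * ι y = 1 := by rw [← map_mul, (h.invA y hy).1, map_one]
  have hyt : ι y * t = t * ι y := c.comm y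
  have e1 : ι y * (t * ι y) = t := by rw [← hyt, ← mul_assoc, hyy, one_mul]
  have e2 : t * (t * ι y) = ι y := by rw [← mul_assoc, c.tt, one_mul]
  have r1 : Rel t ι A t (ι y) := ⟨1, y, hy, by group, by group⟩
  -- the pair at `y`
  have hy' : Rel t ι A (ι y) (t * ι y) := by
    rcases rel_or c h hty (IsConj.refl t) (by rw [hyt]; exact h2) hyt.symm with h3 | h3
    · -- symmetric case: impossible
      exfalso
      -- every `Rel` pair is symmetric
      have hsymm : ∀ a b, Rel t ι A a b → Rel t ι A b a := by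
        intro a b hab
        obtain ⟨g, hg1, hg2⟩ := r1.trans_conj c h hab
        have := h3.conj g
        rwa [hg1, hg2] at this
      rcases rel_or c h h2 (IsConj.refl t) (by
        have : t * ι y * t = ι y := by rw [mul_assoc, hyt, e2]
        rw [this]; exact hty) (by rw [mul_assoc, hyt]) with h4 | h4
      · exact (Rel.unique c r1 (hsymm _ _ h4)) rfl
      · have e3 : t * ι y * t = ι y := by rw [mul_assoc, hyt, e2]
        rw [e3] at h4
        apply Rel.unique c h3 (hsymm _ _ h4)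
        exact hyt.symm
    · rwa [hyt] at h3
  exact r1.trans_conj c h hy'

end Cfsg.Agent.CoThreeStd.Fusion
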