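import Cfsg.Agent.CoThreeStd.SymFive
import Cfsg.Agent.CoThreeStd.Fusion
import Cfsg.Agent.CoThreeStd.MTwelveCent
import Cfsg.Agent.Lib.CosetPartial
set_option linter.all false

-- part: CoThreeStd/RelB
section
/-!
# Relations of the normalisers of `⟨t, y⟩` and `⟨t, y, p, s⟩` (S1750, part [B])

`M` is a group with an involution `y` such that `C_M(y) = ⟨y⟩ × S₅` (a `Frame`), `C_G(t) = ⟨t⟩ × M`, and some
`g₀` induces `t ↦ y ↦ yt` on `⟨t, y⟩`.
-/

set_option autoImplicit false

namespace Cfsg.Agent.CoThreeStd.RelB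

open Equiv Cfsg.Agent.SporRec.Co3 Cfsg.Agent.SporRec.Co3.FiveHom

/-- An involution with centraliser `2 × S₅`, and two more elements. -/
structure Frame (M : Type*) [Group M] where
  /-- the symmetric group -/
  sg : P5 →* M
  /-- the involution -/
  y : M
  /-- an involution moving `y` -/
  e : M
  /-- an element of order three moving `y` -/
  d : M
  inj : Function.Injective sg
  yy : y * y = 1
  comm : ∀ w, y * sg w = sg w * y
  nmem : ∀ w, sg w ≠ y
  cent : ∀ m, m * y = y * m → ∃ w, m = sg w ∨ m = y * sg w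
  dy : d⁻¹ * y * d = sg (tp 3)
  ds : d⁻¹ * sg (tp 3) * d = y * sg (tp 3)
  ee : e * e = 1
  ep : e * sg (tp 0) = sg (tp 0) * e
  es : e * sg (tp 3) = sg (tp 3) * e
  ey : e * y * e = y * (sg (tp 0) * sg (tp 3))

/-- An involution with centraliser `2 × M`. -/
structure Ctx {G M : Type*} [Group G] [Group M] (i : M →* G) (t : G) : Prop where
  inj : Function.Injective i
  tt : t * t = 1
  comm : ∀ m, t * i m = i m * t
  nmem : ∀ m, i m ≠ t
  cent : ∀ x, x * t = t * x → ∃ m, x = i m ∨ x = t * i m

variable {G M : Type*} [Group G] [Group M] {i : M →* G} {t : G}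

/-- `x' = g⁻¹ x g`. -/
def C (g x x' : G) : Prop := x * g = g * x'

theorem C.mul {g x x' y y' : G} (h : C g x x') (h' : C g y y') : C g (x * y) (x' * y') := by
  unfold C at *
  rw [mul_assoc, h', ← mul_assoc, h, mul_assoc]

theorem C.comp {g h x x' x'' : G} (h1 : C g x x') (h2 : C h x' x'') : C (g * h) x x'' := by
  unfold C at *
  rw [← mul_assoc, h1, mul_assoc, h2, mul_assoc]

theorem C.inv {g x x' : G} (h : C g x x') : C g⁻¹ x' x := by
  unfold C at *
  rw [eq_inv_mul_iff_mul_eq, ← mul_assoc, ← h, mul_assoc, mul_inv_cancel, mul_one]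

theorem C.inv_arg {g x x' : G} (h : C g x x') : C g x⁻¹ x'⁻¹ := by
  unfold C at *
  rw [inv_mul_eq_iff_eq_mul, ← mul_assoc, h, mul_assoc, mul_inv_cancel, mul_one]

theorem C.of_eq {g x x' : G} (h : g⁻¹ * x * g = x') : C g x x' := by
  unfold C
  rw [← h]; group

theorem C.eq {g x x' : G} (h : C g x x') : g⁻¹ * x * g = x' := by
  unfold C at h
  rw [mul_assoc, h, inv_mul_cancel_left]

theorem C.uniq {g x x' x'' : G} (h : C g x x') (h' : C g x x'') : x' = x'' := by
  rw [← h.eq, ← h'.eq]

theorem C.of_comm {g x : G} (h : x * g = g * x) : C g x x := h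

namespace Frame

variable (F : Frame M)

/-- `yᵇ` -/
def ym (b : Bool) : M := bif b then F.y else 1

theorem ym_mul (b b' : Bool) : F.ym b * F.ym b' = F.ym (xor b b') := by
  cases b <;> cases b' <;> simp [ym, F.yy]

end Frame

section nf

variable (F : Frame M) (i t)

/-- `tᵃ yᵇ w` -/
def nf (a b : Bool) (w : P5) : G := (bif a then t else 1) * i (F.ym b * F.sg w)

end nf

variable {F : Frame M}

theorem nf_mul (h : Ctx i t) (a b : Bool) (w : P5) (a' b' : Bool) (w' : P5) :
    nf i t F a b w * nf i t F a' b' w' = nf i t F (xor a a') (xor b b') (w * w') := by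
  have h1 : i (F.ym b * F.sg w) * i (F.ym b' * F.sg w') = i (F.ym (xor b b') * F.sg (w * w')) := by
    rw [← map_mul, ← F.ym_mul, map_mul F.sg]
    congr 1
    have h2 : F.ym b' * F.sg w = F.sg w * F.ym b' := by
      cases b'
      · simp [Frame.ym]
      · exact F.comm w
    calc F.ym b * F.sg w * (F.ym b' * F.sg w') = F.ym b * (F.sg w * F.ym b') * F.sg w' := by group
      _ = _ := by rw [← h2]; group
  have h3 : i (F.ym b * F.sg w) * (bif a' then t else 1) = (bif a' then t else 1) * i (F.ym b * F.sg w) := by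
    cases a'
    · simp
    · exact (h.comm _).symm
  have h4 : (bif a then t else 1) * (bif a' then t else 1) = (bif xor a a' then t else 1) := by
    cases a <;> cases a' <;> simp [h.tt]
  unfold nf
  calc _ = (bif a then t else 1) * (i (F.ym b * F.sg w) * (bif a' then t else 1)) * i (F.ym b' * F.sg w') := by
        group
    _ = ((bif a then t else 1) * (bif a' then t else 1)) * (i (F.ym b * F.sg w) * i (F.ym b' * F.sg w')) := by
        rw [h3]; group
    _ = _ := by rw [h4, h1]

theorem nf_inj (h : Ctx i t) {a b : Bool} {w : P5} {a' b' : Bool} {w' : P5}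
    (he : nf i t F a b w = nf i t F a' b' w') : a = a' ∧ b = b' ∧ w = w' := by
  unfold nf at he
  have ha : a = a' := by
    cases a <;> cases a'
    · rfl
    · exfalso
      simp only [cond_true, cond_false, one_mul] at he
      apply h.nmem (F.ym b * F.sg w * (F.ym b' * F.sg w')⁻¹)
      rw [map_mul, map_inv, he, mul_inv_cancel_right]
    · exfalso
      simp only [cond_true, cond_false, one_mul] at he
      apply h.nmem (F.ym b' * F.sg w' * (F.ym b * F.sg w)⁻¹)
      rw [map_mul, map_inv, ← he, mul_inv_cancel_right]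
    · rfl
  subst ha
  have h1 := h.inj (mul_left_cancel he)
  have hb : b = b' := by
    cases b <;> cases b'
    · rfl
    · exfalso
      simp only [Frame.ym, cond_true, cond_false, one_mul] at h1
      apply F.nmem (w * w'⁻¹)
      rw [map_mul, map_inv, h1, mul_inv_cancel_right]
    · exfalso
      simp only [Frame.ym, cond_true, cond_false, one_mul] at h1
      apply F.nmem (w' * w⁻¹)
      rw [map_mul, map_inv, ← h1, mul_inv_cancel_right]
    · rfl
  subst hb
  exact ⟨rfl, rfl, F.inj (mul_left_cancel h1)⟩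

/-- `C_G(⟨t, y⟩)` -/
theorem exists_nf (h : Ctx i t) {x : G} (hx : x * t = t * x) (hy : x * i F.y = i F.y * x) :
    ∃ a b w, x = nf i t F a b w := by
  have key : ∀ m, i m * i F.y = i F.y * i m → ∃ b w, i m = i (F.ym b * F.sg w) := by
    intro m hm
    rw [← map_mul, ← map_mul] at hm
    obtain ⟨w, hw | hw⟩ := F.cent m (h.inj hm)
    · exact ⟨false, w, by rw [hw]; simp [Frame.ym]⟩
    · exact ⟨true, w, by rw [hw]; simp [Frame.ym]⟩
  obtain ⟨m, hm | hm⟩ := h.cent x hx
  · obtain ⟨b, w, hb⟩ := key m (by rw [← hm]; exact hy)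
    exact ⟨false, b, w, by rw [hm, hb]; simp [nf]⟩
  · have h1 : i m * i F.y = i F.y * i m := by
      rw [hm] at hy
      have h2 : t * (i m * i F.y) = t * (i F.y * i m) := by
        rw [← mul_assoc, hy, ← mul_assoc, ← mul_assoc, h.comm]
      exact mul_left_cancel h2
    obtain ⟨b, w, hb⟩ := key m h1
    exact ⟨true, b, w, by rw [hm, hb]; simp [nf]⟩

theorem nf_t : nf i t F true false 1 = t := by simp [nf, Frame.ym]
theorem nf_y : nf i t F false true 1 = i F.y := by simp [nf, Frame.ym]
theorem nf_sg (w : P5) : nf i t F false false w = i (F.sg w) := by simp [nf, Frame.ym]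
theorem nf_one : nf i t F false false 1 = 1 := by simp [nf, Frame.ym]

theorem nf_inv (h : Ctx i t) (a b : Bool) (w : P5) : (nf i t F a b w)⁻¹ = nf i t F a b w⁻¹ := by
  rw [inv_eq_iff_mul_eq_one, nf_mul h]
  simp [nf_one]

/-- Elements of `C_G(⟨t, y⟩)` commute with `⟨t, y⟩`. -/
theorem nf_comm (h : Ctx i t) (a b : Bool) (w : P5) (a' b' : Bool) :
    nf i t F a b w * nf i t F a' b' 1 = nf i t F a' b' 1 * nf i t F a b w := by
  rw [nf_mul h, nf_mul h, mul_one, one_mul, Bool.xor_comm a, Bool.xor_comm b]

/-- The action of `g` on `⟨t, y⟩`. -/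
structure Tri (i : M →* G) (t : G) (F : Frame M) (g : G) : Prop where
  ct : C g t (i F.y)
  cy : C g (i F.y) (t * i F.y)

theorem nf_ty : nf i t F true true 1 = t * i F.y := by simp [nf, Frame.ym]

theorem Tri.cv (h : Ctx i t) {g : G} (hg : Tri i t F g) (a b : Bool) :
    C g (nf i t F a b 1) (nf i t F b (xor a b) 1) := by
  have h1 : C g (nf i t F true false 1) (nf i t F false true 1) := by rw [nf_t, nf_y]; exact hg.ct
  have h2 : C g (nf i t F false true 1) (nf i t F true true 1) := by rw [nf_ty, nf_y]; exact hg.cy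
  have h3 : C g (nf i t F true true 1) (nf i t F true false 1) := by
    have := h1.mul h2
    rwa [nf_mul h, nf_mul h, mul_one] at this
  cases a <;> cases b
  · show nf i t F false false 1 * g = g * nf i t F false false 1
    rw [nf_one, one_mul, mul_one]
  · exact h2
  · exact h1
  · exact h3

theorem Tri.mul_nf (h : Ctx i t) {g : G} (hg : Tri i t F g) (a b : Bool) (w : P5) :
    Tri i t F (g * nf i t F a b w) := by
  constructor
  · refine hg.ct.comp ?_
    show _ = _
    rw [← nf_y, nf_comm h]
  · refine hg.cy.comp ?_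
    show _ = _
    rw [← nf_ty, nf_comm h]

/-- The conjugate of the symmetric group. -/
theorem Tri.exists_conj (h : Ctx i t) {g : G} (hg : Tri i t F g) (w : P5) :
    ∃ a b w', C g (i (F.sg w)) (nf i t F a b w') := by
  have h0 : ∀ a b, (g⁻¹ * i (F.sg w) * g) * nf i t F b (xor a b) 1 =
      nf i t F b (xor a b) 1 * (g⁻¹ * i (F.sg w) * g) := by
    intro a b
    have h1 : C g (i (F.sg w)) (g⁻¹ * i (F.sg w) * g) := C.of_eq rfl
    have h2 := h1.mul (hg.cv h a b)
    have h3 := (hg.cv h a b).mul h1
    rw [← nf_sg, nf_comm h, nf_sg] at h2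
    exact h2.uniq h3
  obtain ⟨a, b, w', he⟩ := exists_nf (F := F) h (x := g⁻¹ * i (F.sg w) * g)
    (by have := h0 true true; rwa [show xor true true = false from rfl, nf_t] at this)
    (by have := h0 true false; rwa [show xor true false = true from rfl, nf_y] at this)
  exact ⟨a, b, w', C.of_eq he⟩

/-- (B1): adjust `g` such that it acts trivially modulo `⟨t, y⟩`. -/
theorem Tri.exists_adjust (h : Ctx i t) {g : G} (hg : Tri i t F g) :
    ∃ c : P5, Tri i t F (g * i (F.sg c)) ∧
      ∃ a b : Bool, ∀ k : Fin 4, C (g * i (F.sg c)) (i (F.sg (tp k))) (nf i t F a b (tp k)) := by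
  choose a b α hα using fun w => hg.exists_conj h w
  have hmul : ∀ w w', a (w * w') = xor (a w) (a w') ∧ b (w * w') = xor (b w) (b w') ∧
      α (w * w') = α w * α w' := by
    intro w w'
    have h1 := (hα w).mul (hα w')
    rw [← map_mul, ← map_mul, nf_mul h] at h1
    exact nf_inj h ((hα (w * w')).uniq h1)
  let A : P5 →* P5 := MonoidHom.mk' α fun w w' => (hmul w w').2.2
  have hinj : Function.Injective A := by
    rw [injective_iff_map_eq_one]
    intro w hw
    have h1 : α w = 1 := hw
    have h2 := hα w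
    rw [h1] at h2
    have h3 : ∃ a' b', C g (nf i t F a' b' 1) (nf i t F (a w) (b w) 1) := by
      refine ⟨xor (a w) (b w), a w, ?_⟩
      have := hg.cv h (xor (a w) (b w)) (a w)
      rwa [show xor (xor (a w) (b w)) (a w) = b w by cases a w <;> cases b w <;> rfl] at this
    obtain ⟨a', b', h4⟩ := h3
    have h5 : i (F.sg w) = nf i t F a' b' 1 := h2.inv.uniq h4.inv
    rw [← nf_sg] at h5
    exact (nf_inj h h5).2.2
  obtain ⟨c, hc⟩ := SymFive.inner A hinj
  have hcw : ∀ w, C (g * i (F.sg c)) (i (F.sg w)) (nf i t F (a w) (b w) w) := by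
    intro w
    refine (hα w).comp ?_
    show _ = _
    rw [show α w = c * w * c⁻¹ from hc w, ← nf_sg, nf_mul h, nf_mul h, inv_mul_cancel_right,
      Bool.xor_false, Bool.xor_false, Bool.false_xor, Bool.false_xor]
  refine ⟨c, by rw [← nf_sg]; exact hg.mul_nf h _ _ _, a (tp 0), b (tp 0), ?_⟩
  have hbr : ∀ k l : Fin 4, k.val + 1 = l.val → a (tp k) = a (tp l) ∧ b (tp k) = b (tp l) := by
    intro k l hkl
    have h1 : tp k * tp l * tp k = tp l * tp k * tp l := by revert k l; decide +kernel
    have ha1 := congrArg a h1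
    have hb1 := congrArg b h1
    rw [(hmul _ _).1, (hmul _ _).1, (hmul _ _).1, (hmul _ _).1] at ha1
    rw [(hmul _ _).2.1, (hmul _ _).2.1, (hmul _ _).2.1, (hmul _ _).2.1] at hb1
    constructor
    · revert ha1; cases a (tp k) <;> cases a (tp l) <;> simp
    · revert hb1; cases b (tp k) <;> cases b (tp l) <;> simp
  have h01 := hbr 0 1 rfl
  have h12 := hbr 1 2 rfl
  have h23 := hbr 2 3 rfl
  intro k
  have hk : a (tp k) = a (tp 0) ∧ b (tp k) = b (tp 0) := by
    fin_cases k
    · exact ⟨rfl, rfl⟩
    · exact ⟨h01.1.symm, h01.2.symm⟩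
    · exact ⟨h12.1.symm.trans h01.1.symm, h12.2.symm.trans h01.2.symm⟩
    · exact ⟨h23.1.symm.trans (h12.1.symm.trans h01.1.symm), h23.2.symm.trans (h12.2.symm.trans h01.2.symm)⟩
  rw [← hk.1, ← hk.2]
  exact hcw _

theorem cent_even : ∀ w : P5, (∀ k l : Fin 4, w * (tp k * tp l) = (tp k * tp l) * w) → w = 1 := by
  decide +kernel

/-- `g³ = 1`. -/
theorem Tri.cube (h : Ctx i t) {g : G} (hg : Tri i t F g) {a b : Bool}
    (hs : ∀ k : Fin 4, C g (i (F.sg (tp k))) (nf i t F a b (tp k))) : g * g * g = 1 := by
  have hv : ∀ a b, C (g * g * g) (nf i t F a b 1) (nf i t F a b 1) := by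
    intro a b
    have h1 := ((hg.cv h a b).comp (hg.cv h b (xor a b))).comp (hg.cv h (xor a b) (xor b (xor a b)))
    rwa [show xor b (xor a b) = a by cases a <;> cases b <;> rfl,
      show xor (xor a b) a = b by cases a <;> cases b <;> rfl] at h1
  obtain ⟨a', b', w, he⟩ := exists_nf (F := F) h (x := g * g * g)
    (by have := hv true false; rw [nf_t] at this; exact Eq.symm this)
    (by have := hv false true; rw [nf_y] at this; exact Eq.symm this)
  have hw : w = 1 := by
    apply cent_even
    intro k l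
    have h1 : C g (i (F.sg (tp k * tp l))) (i (F.sg (tp k * tp l))) := by
      have := (hs k).mul (hs l)
      rwa [nf_mul h, Bool.xor_self, Bool.xor_self, nf_sg, ← map_mul, ← map_mul] at this
    have h2 : C (g * g * g) (i (F.sg (tp k * tp l))) (i (F.sg (tp k * tp l))) := (h1.comp h1).comp h1
    have h3 : i (F.sg (tp k * tp l)) * (g * g * g) = (g * g * g) * i (F.sg (tp k * tp l)) := h2
    rw [he, ← nf_sg, nf_mul h, nf_mul h] at h3
    exact (nf_inj h h3).2.2.symm
  subst hw
  have h1 := hg.cv h a' b'
  rw [← he] at h1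
  have h2 : C g (g * g * g) (g * g * g) := by show _ = _; group
  have h3 := h2.uniq h1
  rw [he] at h3
  obtain ⟨h4, h5, -⟩ := nf_inj h h3
  rw [he]
  have h6 : a' = false ∧ b' = false := by
    revert h4 h5
    cases a' <;> cases b' <;> simp
  rw [h6.1, h6.2, nf_one]

/-- (B3): `g` cannot centralise `s` (or `ys`). -/
theorem Tri.dead (h : Ctx i t) {g : G} (hg : Tri i t F g) {b : Bool} {δ : G} (hδ : t * δ = δ * t)
    (h1 : C δ (i F.y) (nf i t F false b (tp 3))) (h2 : C δ (nf i t F false b (tp 3)) (nf i t F false (!b) (tp 3)))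
    (hs : C g (nf i t F false b (tp 3)) (nf i t F false b (tp 3))) : False := by
  set s := nf i t F false b (tp 3) with hsd
  have hY : i F.y * i F.y = 1 := by rw [← map_mul, F.yy, map_one]
  have hss : s * s = 1 := by
    rw [hsd, nf_mul h, show tp 3 * tp 3 = 1 by decide +kernel, Bool.xor_self, Bool.xor_self, nf_one]
  have hYs : nf i t F false (!b) (tp 3) = i F.y * s := by
    rw [hsd, ← nf_y, nf_mul h, one_mul, Bool.false_xor, Bool.true_xor]
  have hsY : i F.y * s = s * i F.y := by rw [hsd, ← nf_y, nf_comm h]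
  have hst : t * s = s * t := by rw [hsd]; nth_rewrite 1 [← nf_t (i := i) (t := t) (F := F)]; rw [← nf_comm h, nf_t]
  have hYt : t * i F.y = i F.y * t := h.comm _
  rw [hYs] at h2
  set Y := i F.y with hYd
  -- inverse tables
  have g1 : C g⁻¹ t (t * Y) := by
    have h3 := hg.ct.mul hg.cy
    have h4 : Y * (t * Y) = t := by rw [hYt, ← mul_assoc, hY, one_mul]
    rw [← hYd, h4] at h3
    exact h3.inv
  have g2 : C g⁻¹ Y t := hg.ct.inv
  have g3 : C g⁻¹ s s := hs.inv
  have d1 : C δ⁻¹ s Y := h1.inv
  have d2 : C δ⁻¹ Y (Y * s) := by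
    have h3 := h1.mul h2
    have h4 : s * (Y * s) = Y := by rw [hsY, ← mul_assoc, hss, one_mul]
    rw [h4] at h3
    exact h3.inv
  have d3 : C δ⁻¹ t t := (C.of_comm hδ).inv
  have ct : C g t Y := hg.ct
  have cy : C g Y (t * Y) := hg.cy
  have kt : C (g * δ⁻¹ * g⁻¹ * δ⁻¹ * g * δ⁻¹) t t := by
    -- t → Y → Ys → ts → tY → t → t
    have e1 : C (g * δ⁻¹) t (Y * s) := ct.comp d2
    have e2 : C (g * δ⁻¹ * g⁻¹) t (t * s) := e1.comp (g2.mul g3)
    have e3 : C (g * δ⁻¹ * g⁻¹ * δ⁻¹) t (t * Y) := e2.comp (d3.mul d1)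
    have e4 : C (g * δ⁻¹ * g⁻¹ * δ⁻¹ * g) t (Y * (t * Y)) := e3.comp (ct.mul cy)
    have h4 : Y * (t * Y) = t := by rw [hYt, ← mul_assoc, hY, one_mul]
    rw [h4] at e4
    exact e4.comp d3
  have ky : C (g * δ⁻¹ * g⁻¹ * δ⁻¹ * g * δ⁻¹) Y Y := by
    -- Y → tY → tYs → Ys → s → s → Y
    have e1 : C (g * δ⁻¹) Y (t * (Y * s)) := cy.comp (d3.mul d2)
    have e2 : C (g * δ⁻¹ * g⁻¹) Y (t * Y * (t * s)) := e1.comp (g1.mul (g2.mul g3))
    have h4 : t * Y * (t * s) = Y * s := by
      rw [hYt, mul_assoc, ← mul_assoc t t, h.tt, one_mul]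
    rw [h4] at e2
    have e3 : C (g * δ⁻¹ * g⁻¹ * δ⁻¹) Y (Y * s * Y) := e2.comp (d2.mul d1)
    have h5 : Y * s * Y = s := by rw [hsY, mul_assoc, hY, mul_one]
    rw [h5] at e3
    exact (e3.comp hs).comp d1
  have ks : C (g * δ⁻¹ * g⁻¹ * δ⁻¹ * g * δ⁻¹) s (Y * s) := by
    -- s → s → Y → t → t → Y → Ys
    exact ((((hs.comp d1).comp g2).comp d3).comp ct).comp d2
  obtain ⟨a', b', w, he⟩ := exists_nf (F := F) h (x := g * δ⁻¹ * g⁻¹ * δ⁻¹ * g * δ⁻¹)
    (Eq.symm kt) (Eq.symm ky)
  have h6 : s * (g * δ⁻¹ * g⁻¹ * δ⁻¹ * g * δ⁻¹) = (g * δ⁻¹ * g⁻¹ * δ⁻¹ * g * δ⁻¹) * (Y * s) := ks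
  rw [he, ← hYs, hsd, nf_mul h, nf_mul h] at h6
  have h7 := (nf_inj h h6).2.1
  revert h7
  cases b <;> cases b' <;> simp

/-- (B2) + (B3): after an adjustment `g` centralises `t s_k` for all `k`, or `t y s_k` for all `k`. -/
theorem exists_g (h : Ctx i t) {g0 : G} (hg : Tri i t F g0) :
    ∃ c : P5, Tri i t F (g0 * i (F.sg c)) ∧ (g0 * i (F.sg c)) * (g0 * i (F.sg c)) * (g0 * i (F.sg c)) = 1 ∧
      ((∀ k : Fin 4, C (g0 * i (F.sg c)) (t * i (F.sg (tp k))) (t * i (F.sg (tp k)))) ∨
        ∀ k : Fin 4, C (g0 * i (F.sg c)) (t * i (F.y * F.sg (tp k))) (t * i (F.y * F.sg (tp k)))) := by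
  obtain ⟨c, hc, a, b, hs⟩ := hg.exists_adjust h
  refine ⟨c, hc, hc.cube h hs, ?_⟩
  have hδt : t * i F.d = i F.d * t := h.comm _
  have hδ1 : C (i F.d) (i F.y) (nf i t F false false (tp 3)) := by
    apply C.of_eq
    rw [nf_sg, ← F.dy, map_mul, map_mul, map_inv]
  have hδ2 : C (i F.d) (nf i t F false false (tp 3)) (nf i t F false true (tp 3)) := by
    apply C.of_eq
    rw [nf_sg, ← map_inv, ← map_mul, ← map_mul, F.ds]
    simp [nf, Frame.ym]
  -- the general conjugation
  have hgen : ∀ a' b' k, C (g0 * i (F.sg c)) (nf i t F a' b' (tp k))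
      (nf i t F (xor b' a) (xor (xor a' b') b) (tp k)) := by
    intro a' b' k
    have h1 := (hc.cv h a' b').mul (hs k)
    have h0 : i (F.sg (tp k)) = nf i t F false false (tp k) := (nf_sg _).symm
    rw [h0, nf_mul h, nf_mul h, Bool.xor_false, Bool.xor_false, one_mul] at h1
    exact h1
  cases a <;> cases b
  · -- v = 1
    exfalso
    exact hc.dead h (b := false) hδt hδ1 hδ2 (hgen false false 3)
  · -- v = y : t y s_k
    right
    intro k
    have h1 := hgen true true k
    have h2 : nf i t F true true (tp k) = t * i (F.y * F.sg (tp k)) := by simp [nf, Frame.ym]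
    rw [h2] at h1
    exact h1
  · -- v = t : dead
    exfalso
    have h3 : C (i F.d)⁻¹ (i F.y) (nf i t F false true (tp 3)) := by
      have h4 := hδ1.mul hδ2
      rw [nf_mul h, show tp 3 * tp 3 = 1 by decide +kernel] at h4
      have h5 : nf i t F (xor false false) (xor false true) 1 = i F.y := nf_y
      have h6 : i F.y * nf i t F false false (tp 3) = nf i t F false true (tp 3) := by
        rw [← nf_y, nf_mul h, one_mul]; rfl
      rw [h5, h6] at h4
      exact h4.inv
    refine hc.dead h (b := true) (δ := (i F.d)⁻¹) ?_ h3 hδ2.inv (hgen false true 3)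
    rw [← map_inv]; exact h.comm _
  · -- v = ty
    left
    intro k
    have h1 : C (g0 * i (F.sg c)) (nf i t F true false (tp k)) (nf i t F true false (tp k)) := hgen true false k
    have h2 : nf i t F true false (tp k) = t * i (F.sg (tp k)) := by simp [nf, Frame.ym]
    rw [h2] at h1
    exact h1

theorem cent_ps : ∀ w : P5, w * tp 0 = tp 0 * w → w * tp 3 = tp 3 * w →
    w = 1 ∨ w = tp 0 ∨ w = tp 3 ∨ w = tp 0 * tp 3 := by
  decide +kernel

/-- The data of the first four relations. -/
structure Good (i : M →* G) (t : G) (F : Frame M) (g : G) : Prop extends Tri i t F g where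
  cube : g * g * g = 1
  cs : ∀ k : Fin 4, C g (t * i (F.sg (tp k))) (t * i (F.sg (tp k)))

theorem Good.conj_y (h : Ctx i t) {g : G} (hg : Good i t F g) : Good i t F (i F.y * g * i F.y) := by
  have hY : i F.y * i F.y = 1 := by rw [← map_mul, F.yy, map_one]
  have hYt : t * i F.y = i F.y * t := h.comm _
  have ty : C (i F.y) t t := hYt
  have yy : C (i F.y) (i F.y) (i F.y) := rfl
  refine ⟨⟨(ty.comp hg.ct).comp yy, (yy.comp hg.cy).comp (ty.mul yy)⟩, ?_, fun k => ?_⟩
  · calc i F.y * g * i F.y * (i F.y * g * i F.y) * (i F.y * g * i F.y)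
        = i F.y * g * (i F.y * i F.y) * g * (i F.y * i F.y) * g * i F.y := by group
      _ = i F.y * (g * g * g) * i F.y := by rw [hY]; group
      _ = 1 := by rw [hg.cube, mul_one, hY]
  · have h1 : C (i F.y) (t * i (F.sg (tp k))) (t * i (F.sg (tp k))) := by
      refine ty.mul ?_
      show _ = _
      rw [← map_mul, ← map_mul, F.comm]
    exact (h1.comp (hg.cs k)).comp h1

/-- The element `tᵃ yᵇ pᶜ sᵈ`. -/
def vec (i : M →* G) (t : G) (F : Frame M) (v : Bool × Bool × Bool × Bool) : G :=
  nf i t F v.1 v.2.1 ((bif v.2.2.1 then tp 0 else 1) * (bif v.2.2.2 then tp 3 else 1))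

/-- The action of `eg` on these elements. -/
def stp (v : Bool × Bool × Bool × Bool) : Bool × Bool × Bool × Bool :=
  (xor v.2.1 (xor v.2.2.1 v.2.2.2), xor v.1 (xor v.2.1 (xor v.2.2.1 v.2.2.2)), xor v.2.1 v.2.2.1,
    xor v.2.1 v.2.2.2)

theorem stp_stp_stp : ∀ v, stp (stp (stp v)) = v := by decide

/-- (B5): the element `(eg)³`. -/
theorem Good.cube_eg (h : Ctx i t) {g : G} (hg : Good i t F g) :
    (i F.e * g) * (i F.e * g) * (i F.e * g) = 1 ∨
    (i F.e * g) * (i F.e * g) * (i F.e * g) = nf i t F true false (tp 0) ∨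
    (i F.e * g) * (i F.e * g) * (i F.e * g) = nf i t F true false (tp 3) ∨
    (i F.e * g) * (i F.e * g) * (i F.e * g) = nf i t F false false (tp 0 * tp 3) := by
  have h03 : tp 0 * tp 3 = tp 3 * tp 0 := by decide +kernel
  have h00 : tp 0 * tp 0 = 1 := by decide +kernel
  have h33 : tp 3 * tp 3 = 1 := by decide +kernel
  -- action of `g`
  have gv := hg.cv h
  have gp : ∀ k, C g (nf i t F false false (tp k)) (nf i t F true true (tp k)) := by
    intro k
    have h1 := (gv true false).mul (hg.cs k)
    rw [← nf_sg] at h1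
    have h2 : t * nf i t F false false (tp k) = nf i t F true false (tp k) := by
      nth_rewrite 1 [← nf_t (i := i) (t := t) (F := F)]
      rw [nf_mul h, one_mul]; rfl
    rw [h2, nf_mul h, nf_mul h, one_mul] at h1
    exact h1
  -- action of `e`
  have et : C (i F.e) (nf i t F true false 1) (nf i t F true false 1) := by rw [nf_t]; exact h.comm _
  have ey : C (i F.e) (nf i t F false true 1) (nf i t F false true (tp 0 * tp 3)) := by
    apply C.of_eq
    have h1 : (i F.e)⁻¹ = i F.e := by rw [inv_eq_iff_mul_eq_one, ← map_mul, F.ee, map_one]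
    rw [h1, nf_y, ← map_mul, ← map_mul, F.ey]
    simp [nf, Frame.ym]
  have ep : C (i F.e) (nf i t F false false (tp 0)) (nf i t F false false (tp 0)) := by
    show _ = _
    rw [nf_sg, ← map_mul, ← map_mul, F.ep]
  have es : C (i F.e) (nf i t F false false (tp 3)) (nf i t F false false (tp 3)) := by
    show _ = _
    rw [nf_sg, ← map_mul, ← map_mul, F.es]
  -- action of `eg`
  have eps : C (i F.e) (nf i t F false false (tp 0 * tp 3)) (nf i t F false false (tp 0 * tp 3)) := by
    have := ep.mul es
    rwa [nf_mul h] at this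
  have gps : C g (nf i t F false false (tp 0 * tp 3)) (nf i t F false false (tp 0 * tp 3)) := by
    have := (gp 0).mul (gp 3)
    rwa [nf_mul h, nf_mul h] at this
  have at_ : C (i F.e * g) (nf i t F true false 1) (nf i t F false true 1) := et.comp (gv true false)
  have ay : C (i F.e * g) (nf i t F false true 1) (nf i t F true true (tp 0 * tp 3)) := by
    have h1 := (gv false true).mul gps
    rw [nf_mul h, nf_mul h] at h1
    exact ey.comp (by simpa using h1)
  have ap : C (i F.e * g) (nf i t F false false (tp 0)) (nf i t F true true (tp 0)) := ep.comp (gp 0)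
  have as : C (i F.e * g) (nf i t F false false (tp 3)) (nf i t F true true (tp 3)) := es.comp (gp 3)
  -- the general formula
  have agen : ∀ v : Bool × Bool × Bool × Bool, C (i F.e * g) (vec i t F v) (vec i t F (stp v)) := by
    have one : C (i F.e * g) (nf i t F false false 1) (nf i t F false false 1) := by
      show _ = _; rw [nf_one, one_mul, mul_one]
    rintro ⟨a, b, c, d⟩
    have ha : C (i F.e * g) (nf i t F a false 1) (nf i t F false a 1) := by cases a <;> assumption
    have hb : C (i F.e * g) (nf i t F false b 1)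
        (nf i t F b b ((bif b then tp 0 else 1) * (bif b then tp 3 else 1))) := by
      cases b
      · simpa using one
      · exact ay
    have hc : C (i F.e * g) (nf i t F false false (bif c then tp 0 else 1))
        (nf i t F c c (bif c then tp 0 else 1)) := by cases c <;> assumption
    have hd : C (i F.e * g) (nf i t F false false (bif d then tp 3 else 1))
        (nf i t F d d (bif d then tp 3 else 1)) := by cases d <;> assumption
    have h1 := ((ha.mul hb).mul hc).mul hd
    simp only [nf_mul h] at h1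
    have h2 : ∀ b c d : Bool, 1 * ((bif b then tp 0 else 1) * (bif b then tp 3 else 1)) *
        (bif c then tp 0 else 1) * (bif d then tp 3 else 1) =
        ((bif xor b c then tp 0 else 1) * (bif xor b d then tp 3 else 1) : P5) := by decide +kernel
    rw [h2] at h1
    have e1 : ∀ a b c d : Bool, xor (xor (xor a false) false) false = a ∧
      xor (xor (xor false b) false) false = b ∧
      xor (xor (xor false b) c) d = xor b (xor c d) ∧ xor (xor (xor a b) c) d = xor a (xor b (xor c d)) := by
      decide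
    obtain ⟨e2, e3, e4, e5⟩ := e1 a b c d
    rw [e2, e3, e4, e5, one_mul, one_mul] at h1
    exact h1
  set u := (i F.e * g) * (i F.e * g) * (i F.e * g) with hu
  have ufix : ∀ v : Bool × Bool × Bool × Bool, C u (vec i t F v) (vec i t F v) := by
    intro v
    have h1 := ((agen v).comp (agen _)).comp (agen _)
    rwa [stp_stp_stp] at h1
  have hut : C u t t := by
    have := ufix (true, false, false, false)
    rwa [show vec i t F (true, false, false, false) = nf i t F true false 1 by simp [vec], nf_t] at this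
  have huy : C u (i F.y) (i F.y) := by
    have := ufix (false, true, false, false)
    rwa [show vec i t F (false, true, false, false) = nf i t F false true 1 by simp [vec], nf_y] at this
  have hup : C u (nf i t F false false (tp 0)) (nf i t F false false (tp 0)) := by
    have := ufix (false, false, true, false)
    rwa [show vec i t F (false, false, true, false) = nf i t F false false (tp 0) by simp [vec]] at this
  have hus : C u (nf i t F false false (tp 3)) (nf i t F false false (tp 3)) := by
    have := ufix (false, false, false, true)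
    rwa [show vec i t F (false, false, false, true) = nf i t F false false (tp 3) by simp [vec]] at this
  obtain ⟨a, b, w, he⟩ := exists_nf (F := F) h (x := u) (Eq.symm hut) (Eq.symm huy)
  have hwp : w * tp 0 = tp 0 * w := by
    have h1 : nf i t F false false (tp 0) * u = u * nf i t F false false (tp 0) := hup
    rw [he, nf_mul h, nf_mul h] at h1
    exact (nf_inj h h1).2.2.symm
  have hws : w * tp 3 = tp 3 * w := by
    have h1 : nf i t F false false (tp 3) * u = u * nf i t F false false (tp 3) := hus
    rw [he, nf_mul h, nf_mul h] at h1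
    exact (nf_inj h h1).2.2.symm
  have hw : ∃ c d : Bool, w = (bif c then tp 0 else 1) * (bif d then tp 3 else 1) := by
    rcases cent_ps w hwp hws with h1 | h1 | h1 | h1
    · exact ⟨false, false, by rw [h1]; rfl⟩
    · exact ⟨true, false, by rw [h1]; rfl⟩
    · exact ⟨false, true, by rw [h1]; rfl⟩
    · exact ⟨true, true, by rw [h1]; rfl⟩
  obtain ⟨c, d, rfl⟩ := hw
  have h1 := agen (a, b, c, d)
  rw [show vec i t F (a, b, c, d) = u from he.symm] at h1
  have h2 : C (i F.e * g) u u := by show _ = _; rw [hu]; group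
  have h3 := h2.uniq h1
  rw [he] at h3
  obtain ⟨h4, h5, h6⟩ := nf_inj h h3
  have key : ∀ a b c d : Bool, a = (stp (a, b, c, d)).1 → b = (stp (a, b, c, d)).2.1 →
      ((bif c then tp 0 else 1) * (bif d then tp 3 else 1) : P5) =
        ((bif (stp (a, b, c, d)).2.2.1 then tp 0 else 1) * (bif (stp (a, b, c, d)).2.2.2 then tp 3 else 1)) →
      (b = false ∧ a = xor c d) := by decide +kernel
  obtain ⟨h7, h8⟩ := key a b c d h4 h5 h6
  rw [he, h8, h7]
  cases c <;> cases d
  · left; exact nf_one
  · right; right; left; simp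
  · right; left; simp
  · right; right; right; simp

/-- (B5): we may assume `(eg)³ ∈ {1, tp}`. -/
theorem Good.exists_good (h : Ctx i t) {g : G} (hg : Good i t F g) :
    ∃ g', (g' = g ∨ g' = i F.y * g * i F.y) ∧ Good i t F g' ∧
      ((i F.e * g') * (i F.e * g') * (i F.e * g') = 1 ∨
        (i F.e * g') * (i F.e * g') * (i F.e * g') = t * i (F.sg (tp 0))) := by
  have h33 : tp 3 * tp 3 = 1 := by decide +kernel
  have h4 : tp 3 * (tp 0 * tp 3) = tp 0 := by decide +kernel
  have h5 : (tp 0 * tp 3) * (tp 0 * tp 3) = 1 := by decide +kernel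
  have htp : nf i t F true false (tp 0) = t * i (F.sg (tp 0)) := by simp [nf, Frame.ym]
  -- the element for `g^y`
  set ps := nf i t F false false (tp 0 * tp 3) with hps
  have hY : i F.y * i F.y = 1 := by rw [← map_mul, F.yy, map_one]
  have hee : i F.e * i F.e = 1 := by rw [← map_mul, F.ee, map_one]
  have hpsg : ps * g = g * ps := by
    have gp : ∀ k, C g (nf i t F false false (tp k)) (nf i t F true true (tp k)) := by
      intro k
      have h1 := (hg.cv h true false).mul (hg.cs k)
      rw [← nf_sg] at h1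
      have h2 : t * nf i t F false false (tp k) = nf i t F true false (tp k) := by
        nth_rewrite 1 [← nf_t (i := i) (t := t) (F := F)]
        rw [nf_mul h, one_mul]; rfl
      rw [h2, nf_mul h, nf_mul h, one_mul] at h1
      exact h1
    have := (gp 0).mul (gp 3)
    rw [nf_mul h, nf_mul h] at this
    exact this
  have hpse : ps * i F.e = i F.e * ps := by
    rw [hps, nf_sg, ← map_mul, ← map_mul]
    congr 1
    rw [map_mul, mul_assoc, ← F.es, ← mul_assoc, ← F.ep, mul_assoc]
  have hpsY : ps * i F.y = i F.y * ps := by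
    rw [hps, ← nf_y, nf_comm h]
  have hpsps : ps * ps = 1 := by
    rw [hps, nf_mul h, h5]; exact nf_one
  have hYeY : i F.y * i F.e * i F.y = i F.e * ps := by
    have h1 : i F.e * i F.y * i F.e = i F.y * ps := by
      rw [← map_mul, ← map_mul, F.ey, map_mul, hps, nf_sg, map_mul F.sg]
    calc i F.y * i F.e * i F.y = i F.e * (i F.e * i F.y * i F.e) * i F.y := by
          rw [mul_assoc (i F.e) (i F.y), ← mul_assoc (i F.e) (i F.e), hee, one_mul]
      _ = i F.e * (ps * i F.y) * i F.y := by rw [h1, hpsY]
      _ = i F.e * ps := by rw [mul_assoc, mul_assoc, hY, mul_one]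
  have hcube : (i F.e * (i F.y * g * i F.y)) * (i F.e * (i F.y * g * i F.y)) * (i F.e * (i F.y * g * i F.y)) =
      i F.y * (((i F.e * g) * (i F.e * g) * (i F.e * g)) * ps) * i F.y := by
    have h1 : i F.e * (i F.y * g * i F.y) = i F.y * (i F.e * g * ps) * i F.y := by
      calc i F.e * (i F.y * g * i F.y) = i F.y * (i F.y * i F.e * i F.y) * g * i F.y := by
            rw [← mul_assoc (i F.y) (i F.y * i F.e), ← mul_assoc (i F.y) (i F.y), hY, one_mul]; group
        _ = i F.y * (i F.e * (ps * g)) * i F.y := by rw [hYeY]; group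
        _ = _ := by rw [hpsg]; group
    have h2 : ps * (i F.e * g) = (i F.e * g) * ps := by
      rw [← mul_assoc, hpse, mul_assoc, hpsg, mul_assoc]
    have h3 : (i F.e * g * ps) * (i F.e * g * ps) * (i F.e * g * ps) =
        ((i F.e * g) * (i F.e * g) * (i F.e * g)) * ps := by
      calc (i F.e * g * ps) * (i F.e * g * ps) * (i F.e * g * ps)
          = (i F.e * g) * (ps * (i F.e * g)) * ps * (i F.e * g) * ps := by group
        _ = (i F.e * g) * (i F.e * g) * (ps * ps) * (i F.e * g) * ps := by rw [h2]; group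
        _ = _ := by rw [hpsps]; group
    rw [h1]
    calc i F.y * (i F.e * g * ps) * i F.y * (i F.y * (i F.e * g * ps) * i F.y) *
          (i F.y * (i F.e * g * ps) * i F.y)
        = i F.y * (i F.e * g * ps) * (i F.y * i F.y) * (i F.e * g * ps) * (i F.y * i F.y) *
          (i F.e * g * ps) * i F.y := by group
      _ = i F.y * ((i F.e * g * ps) * (i F.e * g * ps) * (i F.e * g * ps)) * i F.y := by rw [hY]; group
      _ = _ := by rw [h3]
  rcases hg.cube_eg h with h1 | h1 | h1 | h1
  · exact ⟨g, Or.inl rfl, hg, Or.inl h1⟩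
  · exact ⟨g, Or.inl rfl, hg, Or.inr (by rw [h1, htp])⟩
  · refine ⟨i F.y * g * i F.y, Or.inr rfl, hg.conj_y h, Or.inr ?_⟩
    rw [hcube, h1, hps, nf_mul h, h4, ← nf_y, nf_mul h, nf_mul h, one_mul, mul_one]
    exact htp
  · refine ⟨i F.y * g * i F.y, Or.inr rfl, hg.conj_y h, Or.inl ?_⟩
    rw [hcube, h1, hpsps, mul_one, hY]

end Cfsg.Agent.CoThreeStd.RelB
end

-- part: CoThreeStd/RelTwist
section
/-!
# Relations for S1750, part [B]: the twisted frame and the final list
-/

set_option autoImplicit false

namespace Cfsg.Agent.CoThreeStd.RelB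

open Equiv Cfsg.Agent.SporRec.Co3 Cfsg.Agent.SporRec.Co3.FiveHom

/-- The permutation is odd. -/
def od (w : P5) : Bool := decide (Perm.sign w = -1)

theorem od_mul (w w' : P5) : od (w * w') = xor (od w) (od w') := by
  unfold od
  rw [Perm.sign_mul]
  rcases Int.units_eq_one_or (Perm.sign w) with h | h <;>
    rcases Int.units_eq_one_or (Perm.sign w') with h' | h' <;> rw [h, h'] <;> decide

theorem od_tp : ∀ k, od (tp k) = true := by decide +kernel

namespace Frame

variable {M : Type*} [Group M] (F : Frame M)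

theorem ym_comm (b : Bool) (w : P5) : F.ym b * F.sg w = F.sg w * F.ym b := by
  cases b
  · simp [ym]
  · exact F.comm w

/-- The twisted embedding of the symmetric group. -/
def tw : P5 →* M := MonoidHom.mk' (fun w => F.ym (od w) * F.sg w) (by
  intro w w'
  rw [od_mul, ← F.ym_mul, map_mul]
  calc F.ym (od w) * F.ym (od w') * (F.sg w * F.sg w') = F.ym (od w) * (F.ym (od w') * F.sg w) * F.sg w' := by
        group
    _ = _ := by rw [F.ym_comm]; group)

theorem tw_apply (w : P5) : F.tw w = F.ym (od w) * F.sg w := rfl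

theorem tw_tp (k : Fin 4) : F.tw (tp k) = F.y * F.sg (tp k) := by rw [tw_apply, od_tp]; rfl

theorem sg_ne_y_mul (w w' : P5) : F.sg w ≠ F.y * F.sg w' := by
  intro h
  apply F.nmem (w * w'⁻¹)
  rw [map_mul, map_inv, h, mul_inv_cancel_right]

/-- The twisted frame. -/
def twist (e' : M) (ee : e' * e' = 1) (ep : e' * (F.y * F.sg (tp 0)) = (F.y * F.sg (tp 0)) * e')
    (es : e' * (F.y * F.sg (tp 3)) = (F.y * F.sg (tp 3)) * e')
    (ey : e' * F.y * e' = F.y * (F.sg (tp 0) * F.sg (tp 3))) : Frame M where
  sg := F.tw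
  y := F.y
  e := e'
  d := F.d⁻¹
  inj := by
    intro w w' h
    rw [tw_apply, tw_apply] at h
    cases hw : od w <;> cases hw' : od w' <;> rw [hw, hw'] at h
    · exact F.inj (mul_left_cancel h)
    · exact absurd (by simpa [ym] using h) (F.sg_ne_y_mul w w')
    · exact absurd (by simpa [ym] using h.symm) (F.sg_ne_y_mul w' w)
    · exact F.inj (mul_left_cancel h)
  yy := F.yy
  comm := by
    intro w
    rw [tw_apply, ← mul_assoc]
    cases od w
    · simp only [ym, cond_false, mul_one, one_mul]; exact F.comm w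
    · simp only [ym, cond_true]; rw [F.yy, one_mul, mul_assoc, ← F.comm, ← mul_assoc, F.yy, one_mul]
  nmem := by
    intro w h
    rw [tw_apply] at h
    cases hw : od w <;> rw [hw] at h
    · exact F.nmem w (by simpa [ym] using h)
    · have h1 : F.sg w = F.sg 1 := by
        simp only [ym, cond_true] at h
        rw [map_one]
        exact mul_left_cancel (h.trans (mul_one _).symm)
      rw [F.inj h1] at hw
      exact absurd hw (by decide +kernel)
  cent := by
    intro m hm
    obtain ⟨w, h⟩ := F.cent m hm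
    refine ⟨w, ?_⟩
    rw [tw_apply]
    cases od w <;> simp only [ym, cond_true, cond_false, one_mul]
    · exact h
    · rw [← mul_assoc, F.yy, one_mul]; exact h.symm
  dy := by
    rw [tw_tp, inv_inv]
    have h1 : F.d⁻¹ * (F.y * F.sg (tp 3)) * F.d = F.y := by
      calc F.d⁻¹ * (F.y * F.sg (tp 3)) * F.d = (F.d⁻¹ * F.y * F.d) * (F.d⁻¹ * F.sg (tp 3) * F.d) := by group
        _ = F.sg (tp 3) * (F.y * F.sg (tp 3)) := by rw [F.dy, F.ds]
        _ = F.y * F.sg (tp 3 * tp 3) := by rw [← mul_assoc, ← F.comm, map_mul, mul_assoc]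
        _ = F.y := by rw [show tp 3 * tp 3 = 1 by decide +kernel, map_one, mul_one]
    nth_rewrite 1 [← h1]
    group
  ds := by
    rw [tw_tp, inv_inv]
    have h1 : F.y * (F.y * F.sg (tp 3)) = F.sg (tp 3) := by rw [← mul_assoc, F.yy, one_mul]
    rw [h1, ← F.ds]
    group
  ee := ee
  ep := by rw [tw_tp]; exact ep
  es := by rw [tw_tp]; exact es
  ey := by
    rw [tw_tp, tw_tp, ey]
    congr 1
    rw [F.comm (tp 0), mul_assoc, ← mul_assoc F.y F.y, F.yy, one_mul]

end Frame

end Cfsg.Agent.CoThreeStd.RelB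
end

-- part: CoThreeStd/RelMain
section
/-!
# S1750, part [B]: the relations, final form

`RelMain.main`: from `C_G(t) = ⟨t⟩ × ι(M₁₂)` and `g₀ : t ↦ y ↦ ty` we get `h : Fin 8 → G` (letters
`t x s₁ s₂ s₃ s₄ e d`) satisfying all words `w` with `okR w = true`, and `(ed)³ ∈ {1, t s₁}`.
-/

set_option autoImplicit false

namespace Cfsg.Agent.CoThreeStd.RelMain

open Cfsg Equiv Cfsg.Agent.SporRec.Co3 Cfsg.Agent.SporRec.Co3.FiveHom Cfsg.Agent.CoThreeStd.RelB
  Cfsg.Agent.CoThreeStd.MTwelve

/-- The first frame in `M₁₂`. -/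
noncomputable def F1 : Frame H where
  sg := w
  y := y
  e := wd [0, 5, 0, 2, 3, 2, 5, 0]
  d := wd [5, 0, 5, 4, 3, 5, 0, 5]
  inj := w_injective
  yy := y_sq
  comm := y_comm
  nmem := fun σ h => y_ne_w σ h.symm
  cent := fun m hm => cent_y m hm
  dy := by
    rw [w_tp, ← wd_y, ← wd_cj, show cox 3 = wd [4] from wd_s.symm]
    exact wd_eq (by decide +kernel)
  ds := by
    rw [w_tp, show cox 3 = wd [4] from wd_s.symm, ← wd_y, ← wd_cj, ← wd_append]
    exact wd_eq (by decide +kernel)
  ee := by
    rw [← wd_append, ← wd_nil]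
    exact wd_eq (by decide +kernel)
  ep := by
    rw [w_tp, show cox 0 = wd [1] from wd_p.symm, ← wd_append, ← wd_append]
    exact wd_eq (by decide +kernel)
  es := by
    rw [w_tp, show cox 3 = wd [4] from wd_s.symm, ← wd_append, ← wd_append]
    exact wd_eq (by decide +kernel)
  ey := by
    rw [w_tp, w_tp, show cox 3 = wd [4] from wd_s.symm, show cox 0 = wd [1] from wd_p.symm, ← wd_y,
      ← wd_append, ← wd_append, ← wd_append, ← wd_append]
    exact wd_eq (by decide +kernel)

theorem tp_sq : ∀ k, tp k * tp k = 1 := by decide +kernel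

theorem F1_tp (k : Fin 4) : F1.sg (tp k) = wd [k.val + 1] := by
  show w (tp k) = _
  rw [w_tp]
  simp [cox, wd]

theorem F1_y : F1.y = wd [0] := wd_y.symm

/-- The second frame in `M₁₂`. -/
noncomputable def F2 : Frame H := F1.twist (wd [5, 1, 2, 3, 4, 3, 2, 1, 5])
  (by rw [← wd_append, ← wd_nil]; exact wd_eq (by decide +kernel))
  (by rw [F1_tp, F1_y, ← wd_append, ← wd_append, ← wd_append]; exact wd_eq (by decide +kernel))
  (by rw [F1_tp, F1_y, ← wd_append, ← wd_append, ← wd_append]; exact wd_eq (by decide +kernel))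
  (by rw [F1_tp, F1_tp, F1_y, ← wd_append, ← wd_append, ← wd_append, ← wd_append]
      exact wd_eq (by decide +kernel))

theorem F2_tp (k : Fin 4) : F2.sg (tp k) = wd [0, k.val + 1] := by
  show F1.tw (tp k) = _
  rw [Frame.tw_tp, F1_tp, F1_y, ← wd_append]
  rfl

/-- Words for the letters `1 .. 6 = x s₁ s₂ s₃ s₄ e`, first choice. -/
def sub1 : ℕ → List ℕ
  | 1 => [0]
  | 2 => [1]
  | 3 => [2]
  | 4 => [3]
  | 5 => [4]
  | 6 => [0, 5, 0, 2, 3, 2, 5, 0]
  | _ => []

/-- Words for the letters `1 .. 6 = x s₁ s₂ s₃ s₄ e`, second choice. -/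
def sub2 : ℕ → List ℕ
  | 1 => [0]
  | 2 => [0, 1]
  | 3 => [0, 2]
  | 4 => [0, 3]
  | 5 => [0, 4]
  | 6 => [5, 1, 2, 3, 4, 3, 2, 1, 5]
  | _ => []

/-- A frame with words for its letters. -/
structure Sub (s : ℕ → List ℕ) (F : Frame H) : Prop where
  y : F.y = wd (s 1)
  tp : ∀ k : Fin 4, F.sg (tp k) = wd (s (k.val + 2))
  e : F.e = wd (s 6)
  b : ∃ l : List ℕ, (∀ k ∈ l, 1 ≤ k ∧ k ≤ 6) ∧ wd (l.flatMap s) = wd [5]
  l : ∀ k < 5, ∃ l : List ℕ, (∀ k ∈ l, 1 ≤ k ∧ k ≤ 6) ∧ wd (l.flatMap s) = wd [k]
  cases : s = sub1 ∨ s = sub2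

theorem sub_one : Sub sub1 F1 where
  y := F1_y
  tp k := by rw [F1_tp]; fin_cases k <;> rfl
  e := rfl
  b := ⟨[3, 4, 5, 6, 4, 3, 6, 3, 4, 5, 6, 4, 3], by decide, wd_eq (by decide +kernel)⟩
  l := by
    intro k hk
    interval_cases k
    exacts [⟨[1], by decide, rfl⟩, ⟨[2], by decide, rfl⟩, ⟨[3], by decide, rfl⟩, ⟨[4], by decide, rfl⟩,
      ⟨[5], by decide, rfl⟩]
  cases := Or.inl rfl

theorem sub_two : Sub sub2 F2 where
  y := F1_y
  tp k := by rw [F2_tp]; fin_cases k <;> rfl
  e := rfl
  b := ⟨[2, 4, 6, 4, 3, 6, 4, 3, 5, 6, 4, 3, 6], by decide, wd_eq (by decide +kernel)⟩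
  l := by
    intro k hk
    interval_cases k
    exacts [⟨[1], by decide, rfl⟩, ⟨[1, 2], by decide, wd_eq (by decide +kernel)⟩,
      ⟨[1, 3], by decide, wd_eq (by decide +kernel)⟩, ⟨[1, 4], by decide, wd_eq (by decide +kernel)⟩,
      ⟨[1, 5], by decide, wd_eq (by decide +kernel)⟩]
  cases := Or.inr rfl

variable {G : Type*} [Group G] {ι : H →* G} {t : G}

/-- The letters in `G`. -/
def lets (ι : H →* G) (t : G) (s : ℕ → List ℕ) (g : G) (k : Fin 8) : G :=
  if k = 0 then t else if k = 7 then g else ι (wd (s k.val))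

theorem lets_zero (s : ℕ → List ℕ) (g : G) : lets ι t s g 0 = t := rfl
theorem lets_seven (s : ℕ → List ℕ) (g : G) : lets ι t s g 7 = g := rfl

theorem lets_mid (s : ℕ → List ℕ) (g : G) {k : Fin 8} (h0 : k ≠ 0) (h7 : k ≠ 7) :
    lets ι t s g k = ι (wd (s k.val)) := by
  unfold lets
  rw [if_neg h0, if_neg h7]

/-- All letters are in `M₁₂`. -/
def midW (w : List (Fin 8)) : Bool := w.all fun k => !(k == 0) && !(k == 7)

/-- A relator of `M₁₂` (in both frames). -/
def mchk (w : List (Fin 8)) : Bool :=
  midW w && eqW ((w.map Fin.val).flatMap sub1) [] && eqW ((w.map Fin.val).flatMap sub2) []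

theorem prod_mid (s : ℕ → List ℕ) (g : G) {w : List (Fin 8)} (h : midW w = true) :
    (w.map (lets ι t s g)).prod = ι (wd ((w.map Fin.val).flatMap s)) := by
  induction w with
  | nil => simp [wd]
  | cons k w ih =>
    unfold midW at h ih
    rw [List.all_cons, Bool.and_eq_true] at h
    have h1 := h.1
    simp only [Bool.and_eq_true, Bool.not_eq_true', beq_eq_false_iff_ne, ne_eq] at h1
    rw [List.map_cons, List.prod_cons, ih h.2, lets_mid s g h1.1 h1.2, List.map_cons,
      List.flatMap_cons, wd_append, map_mul]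

theorem prod_of_mchk {s : ℕ → List ℕ} (hs : s = sub1 ∨ s = sub2) (g : G) {w : List (Fin 8)}
    (h : mchk w = true) : (w.map (lets ι t s g)).prod = 1 := by
  unfold mchk at h
  rw [Bool.and_eq_true, Bool.and_eq_true] at h
  rw [prod_mid s g h.1.1]
  rcases hs with rfl | rfl
  · rw [wd_eq h.1.2, wd_nil, map_one]
  · rw [wd_eq h.2, wd_nil, map_one]

/-- The relators which are not words in `M₁₂`. -/
def R0 : List (List (Fin 8)) :=
  [[0, 0], [0, 1, 0, 1], [0, 2, 0, 2], [0, 3, 0, 3], [0, 4, 0, 4], [0, 5, 0, 5], [0, 6, 0, 6], [7, 7, 7],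
    [7, 7, 0, 7, 1], [7, 7, 1, 7, 1, 0], [7, 7, 0, 2, 7, 2, 0], [7, 7, 0, 3, 7, 3, 0],
    [7, 7, 0, 4, 7, 4, 0], [7, 7, 0, 5, 7, 5, 0]]

-- the relators of the form `[0, k, 0, k]` are also covered by `cchk`

/-- A relator of `⟨t⟩ × M₁₂`. -/
def cchk (w : List (Fin 8)) : Bool :=
  mchk (w.filter fun k => !(k == 0)) && Nat.beq ((w.count 0) % 2) 0

/-- The relator is known. -/
def okR (w : List (Fin 8)) : Bool := cchk w || R0.contains w

/-- The result of part [B]. -/
structure Out (t : G) (ι : H →* G) (g0 : G) (h : Fin 8 → G) : Prop where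
  zero : h 0 = t
  rel : ∀ w, okR w = true → (w.map h).prod = 1
  alt : ([6, 7, 6, 7, 6, 7].map h).prod = 1 ∨ ([6, 7, 6, 7, 6, 7, 2, 0].map h).prod = 1
  cl : Subgroup.closure (Set.range h) = Subgroup.closure (insert g0 {x | x * t = t * x})
  le : ∀ m, ι m ∈ Subgroup.closure (Set.range h)
  /-- the letters `1, …, 6` are faithful -/
  sub : ∃ s : ℕ → List ℕ, (s = sub1 ∨ s = sub2) ∧ ∀ k : Fin 8, k ≠ 0 → k ≠ 7 → h k = ι (wd (s k.val))

theorem ctx_of {t : G} {ι : H →* G} (c : Fusion.Ctx t ι) : RelB.Ctx ι t :=
  ⟨c.inj, c.tt, fun m => (c.comm m).symm, c.nmem, c.cent⟩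

theorem lets_sq {s : ℕ → List ℕ} (hs : s = sub1 ∨ s = sub2) (g : G) {k : Fin 8} (h0 : k ≠ 0) (h7 : k ≠ 7) :
    lets ι t s g k * lets ι t s g k = 1 := by
  have h : ∀ k : Fin 8, k ≠ 0 → k ≠ 7 → mchk [k, k] = true := by decide +kernel
  have := prod_of_mchk (ι := ι) (t := t) hs g (h k h0 h7)
  simpa using this

theorem prod_of_cchk (c : Fusion.Ctx t ι) {s : ℕ → List ℕ} (hs : s = sub1 ∨ s = sub2) (g : G)
    {w : List (Fin 8)} (h : cchk w = true) : (w.map (lets ι t s g)).prod = 1 := by
  unfold cchk at h
  rw [Bool.and_eq_true] at h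
  have key : ∀ w : List (Fin 8), midW (w.filter fun k => !(k == 0)) = true →
      (w.map (lets ι t s g)).prod =
        t ^ (w.count 0) * ((w.filter fun k => !(k == 0)).map (lets ι t s g)).prod := by
    intro w
    induction w with
    | nil => intro _; simp
    | cons k w ih =>
      intro hw
      by_cases hk : k = 0
      · subst hk
        rw [List.filter_cons_of_neg (by simp)] at hw ⊢
        rw [List.map_cons, List.prod_cons, ih hw, List.count_cons_self, pow_succ', lets_zero, mul_assoc]
      · rw [List.filter_cons_of_pos (by simpa using hk)] at hw ⊢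
        have hw' := hw
        unfold midW at hw'
        rw [List.all_cons, Bool.and_eq_true] at hw'
        have h7 : k ≠ 7 := by
          have := hw'.1
          simp only [Bool.and_eq_true, Bool.not_eq_true', beq_eq_false_iff_ne, ne_eq] at this
          exact this.2
        rw [List.map_cons, List.prod_cons, ih hw'.2, List.count_cons_of_ne hk, List.map_cons,
          List.prod_cons, lets_mid s g hk h7, ← mul_assoc, ← mul_assoc]
        congr 1
        have h1 : Commute (ι (wd (s k.val))) t := c.comm _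
        exact (h1.pow_right _).eq
  have h2 := h.1
  have hmid : midW (w.filter fun k => !(k == 0)) = true := by
    unfold mchk at h2
    rw [Bool.and_eq_true, Bool.and_eq_true] at h2
    exact h2.1.1
  rw [key w hmid, prod_of_mchk hs g h2, mul_one]
  have h3 := Nat.eq_of_beq_eq_true h.2
  obtain ⟨n, hn⟩ := Nat.dvd_of_mod_eq_zero h3
  rw [hn, pow_mul, pow_two, c.tt, one_pow]

theorem rel_of_good (c : Fusion.Ctx t ι) {s : ℕ → List ℕ} {F : Frame H} (hs : Sub s F) {g : G}
    (hg : Good ι t F g) (w : List (Fin 8)) (hw : okR w = true) : (w.map (lets ι t s g)).prod = 1 := by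
  unfold okR at hw
  rw [Bool.or_eq_true] at hw
  rcases hw with hw | hw
  · exact prod_of_cchk c hs.cases g hw
  set h := lets ι t s g with hh
  have l0 : h 0 = t := rfl
  have l7 : h 7 = g := rfl
  have l1 : h 1 = ι F.y := by rw [hs.y]; rfl
  have ltp : ∀ k : Fin 4, h ⟨k.val + 2, by omega⟩ = ι (F.sg (tp k)) := by
    intro k
    rw [hs.tp k, hh, lets_mid]
    · intro h; exact absurd (congrArg Fin.val h) (by simp)
    · intro h; exact absurd (congrArg Fin.val h) (by simp; omega)
  have l2 : h 2 = ι (F.sg (tp 0)) := ltp 0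
  have l3 : h 3 = ι (F.sg (tp 1)) := ltp 1
  have l4 : h 4 = ι (F.sg (tp 2)) := ltp 2
  have l5 : h 5 = ι (F.sg (tp 3)) := ltp 3
  have l6 : h 6 = ι F.e := by rw [hs.e]; rfl
  have sq : ∀ k : Fin 8, k ≠ 0 → k ≠ 7 → h k * h k = 1 := fun k h0 h7 => lets_sq hs.cases g h0 h7
  have cm : ∀ k : Fin 8, k ≠ 0 → k ≠ 7 → h 0 * h k = h k * h 0 := by
    intro k h0 h7
    rw [l0, hh, lets_mid s g h0 h7, c.comm]
  have hcm : ∀ k : Fin 8, k ≠ 0 → k ≠ 7 → h 0 * (h k * (h 0 * h k)) = 1 := by
    intro k h0 h7
    rw [cm k h0 h7, ← mul_assoc (h k), sq k h0 h7, one_mul, l0, c.tt]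
  have h77 : h 7 * h 7 = (h 7)⁻¹ := by
    rw [eq_inv_iff_mul_eq_one, l7]; exact hg.cube
  have e1 : g⁻¹ * t * g = ι F.y := hg.ct.eq
  have e2 : g⁻¹ * ι F.y * g = t * ι F.y := hg.cy.eq
  have hyy : ι F.y * ι F.y = 1 := by rw [← map_mul, F.yy, map_one]
  have hs' : ∀ k : Fin 4, h 7 * (h 7 * (h 0 * (h ⟨k.val + 2, by omega⟩ * (h 7 *
      (h ⟨k.val + 2, by omega⟩ * h 0))))) = 1 := by
    intro k
    rw [ltp, ← mul_assoc (h 7) (h 7), h77, l0, l7]
    have h1 : g⁻¹ * (t * ι (F.sg (tp k))) * g = t * ι (F.sg (tp k)) := (hg.cs k).eq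
    have h2 : ι (F.sg (tp k)) * ι (F.sg (tp k)) = 1 := by
      rw [← map_mul, ← map_mul, tp_sq, map_one, map_one]
    calc g⁻¹ * (t * (ι (F.sg (tp k)) * (g * (ι (F.sg (tp k)) * t))))
        = (g⁻¹ * (t * ι (F.sg (tp k))) * g) * (ι (F.sg (tp k)) * t) := by group
      _ = t * (ι (F.sg (tp k)) * ι (F.sg (tp k))) * t := by rw [h1]; group
      _ = 1 := by rw [h2, mul_one, c.tt]
  have hw' : w ∈ R0 := by simpa using hw
  simp only [R0, List.mem_cons, List.not_mem_nil, or_false] at hw'
  rcases hw' with rfl | rfl | rfl | rfl | rfl | rfl | rfl | rfl | rfl | rfl | rfl | rfl | rfl | rfl <;>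
    simp only [List.map_cons, List.map_nil, List.prod_cons, List.prod_nil, mul_one]
  · rw [l0, c.tt]
  · exact hcm 1 (by decide) (by decide)
  · exact hcm 2 (by decide) (by decide)
  · exact hcm 3 (by decide) (by decide)
  · exact hcm 4 (by decide) (by decide)
  · exact hcm 5 (by decide) (by decide)
  · exact hcm 6 (by decide) (by decide)
  · rw [← mul_assoc, l7]; exact hg.cube
  · rw [← mul_assoc (h 7) (h 7), h77, l0, l1, l7]
    calc g⁻¹ * (t * (g * ι F.y)) = (g⁻¹ * t * g) * ι F.y := by group
      _ = 1 := by rw [e1, hyy]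
  · rw [← mul_assoc (h 7) (h 7), h77, l0, l1, l7]
    calc g⁻¹ * (ι F.y * (g * (ι F.y * t))) = (g⁻¹ * ι F.y * g) * (ι F.y * t) := by group
      _ = t * (ι F.y * ι F.y) * t := by rw [e2]; group
      _ = 1 := by rw [hyy, mul_one, c.tt]
  · exact hs' 0
  · exact hs' 1
  · exact hs' 2
  · exact hs' 3

theorem out_of_good (c : Fusion.Ctx t ι) {s : ℕ → List ℕ} {F : Frame H} (hs : Sub s F) {g g0 : G}
    (hg : Good ι t F g)
    (ha : (ι F.e * g) * (ι F.e * g) * (ι F.e * g) = 1 ∨
        (ι F.e * g) * (ι F.e * g) * (ι F.e * g) = t * ι (F.sg (tp 0)))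
    (hg0 : ∃ a b : H, g = ι a * g0⁻¹ * ι b) : Out t ι g0 (lets ι t s g) := by
  set h := lets ι t s g with hh
  have l0 : h 0 = t := rfl
  have l7 : h 7 = g := rfl
  have l2 : h 2 = ι (F.sg (tp 0)) := by rw [hs.tp 0]; rfl
  have l6 : h 6 = ι F.e := by rw [hs.e]; rfl
  have hle : ∀ m, ι m ∈ Subgroup.closure (Set.range h) := by
    have hword : ∀ l : List ℕ, (∀ k ∈ l, 1 ≤ k ∧ k ≤ 6) →
        ι (wd (l.flatMap s)) ∈ Subgroup.closure (Set.range h) := by
      intro l
      induction l with
      | nil => intro _; rw [List.flatMap_nil, wd_nil, map_one]; exact one_mem _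
      | cons k l ih =>
        intro hk
        have h1 := hk k (by simp)
        rw [List.flatMap_cons, wd_append, map_mul]
        refine mul_mem ?_ (ih fun k hk' => hk k (by simp [hk']))
        have h2 : h ⟨k, by omega⟩ = ι (wd (s k)) := by
          rw [hh, lets_mid]
          · intro h; have := congrArg Fin.val h; simp at this; omega
          · intro h; have := congrArg Fin.val h; simp at this; omega
        rw [← h2]
        exact Subgroup.subset_closure ⟨_, rfl⟩
    have hgen : ∀ k, ι (gen k) ∈ Subgroup.closure (Set.range h) := by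
      intro k
      have e1 : gen k = wd [k] := by simp [wd]
      rw [e1]
      rcases Nat.lt_trichotomy k 5 with hk | rfl | hk
      · obtain ⟨l, hl, hl'⟩ := hs.l k hk
        rw [← hl']; exact hword l hl
      · obtain ⟨l, hl, hl'⟩ := hs.b
        rw [← hl']; exact hword l hl
      · have h6 : gen k = 1 := by
          obtain ⟨j, rfl⟩ := Nat.exists_eq_add_of_le (show 6 ≤ k from hk)
          rw [Nat.add_comm]; rfl
        rw [← e1, h6, map_one]; exact one_mem _
    intro m
    obtain ⟨l, rfl⟩ := mem_wd m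
    induction l with
    | nil => rw [wd_nil, map_one]; exact one_mem _
    | cons k l ih => rw [wd_cons, map_mul]; exact mul_mem (hgen k) ih
  have hC : ∀ x, x * t = t * x → x ∈ Subgroup.closure (Set.range h) := by
    intro x hx
    obtain ⟨m, rfl | rfl⟩ := c.cent x hx
    · exact hle m
    · exact mul_mem (Subgroup.subset_closure ⟨0, rfl⟩) (hle m)
  obtain ⟨a, b, hab⟩ := hg0
  refine ⟨rfl, rel_of_good c hs hg, ?_, ?_, hle, s, hs.cases, fun k h0 h7 => lets_mid s g h0 h7⟩
  · rcases ha with ha | ha
    · left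
      simp only [List.map_cons, List.map_nil, List.prod_cons, List.prod_nil, mul_one]
      rw [l6, l7, ← ha]
      group
    · right
      simp only [List.map_cons, List.map_nil, List.prod_cons, List.prod_nil, mul_one]
      rw [l6, l7, l2, l0]
      have h2 : ι (F.sg (tp 0)) * ι (F.sg (tp 0)) = 1 := by
        rw [← map_mul, ← map_mul, show tp 0 * tp 0 = 1 by decide +kernel, map_one, map_one]
      calc _ = ((ι F.e * g) * (ι F.e * g) * (ι F.e * g)) * (ι (F.sg (tp 0)) * t) := by group
        _ = t * (ι (F.sg (tp 0)) * ι (F.sg (tp 0))) * t := by rw [ha]; group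
        _ = 1 := by rw [h2, mul_one, c.tt]
  · apply le_antisymm
    · rw [Subgroup.closure_le]
      have hι : ∀ m, ι m ∈ Subgroup.closure (insert g0 {x | x * t = t * x}) := fun m =>
        Subgroup.subset_closure (Or.inr (c.comm m))
      rintro _ ⟨k, rfl⟩
      by_cases h0 : k = 0
      · subst h0; exact Subgroup.subset_closure (Or.inr rfl)
      by_cases h7 : k = 7
      · subst h7
        show h 7 ∈ _
        rw [l7, hab]
        exact mul_mem (mul_mem (hι a) (inv_mem (Subgroup.subset_closure (Or.inl rfl)))) (hι b)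
      · show h k ∈ _
        rw [hh, lets_mid s g h0 h7]
        exact hι _
    · rw [Subgroup.closure_le]
      rintro x (rfl | hx)
      · show x ∈ Subgroup.closure (Set.range h)
        have h1 : x = ι b * g⁻¹ * ι a := by rw [hab]; group
        rw [h1]
        exact mul_mem (mul_mem (hle b) (inv_mem (Subgroup.subset_closure ⟨7, rfl⟩))) (hle a)
      · exact hC x hx

/-- **Part [B]**: the relations. -/
theorem main (c : Fusion.Ctx t ι) {g0 : G} (h1 : g0 * t * g0⁻¹ = ι y) (h2 : g0 * ι y * g0⁻¹ = t * ι y) :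
    ∃ h : Fin 8 → G, Out t ι g0 h := by
  have hc := ctx_of c
  have hT : ∀ F : Frame H, F.y = y → Tri ι t F g0⁻¹ := by
    intro F hF
    refine ⟨C.of_eq ?_, C.of_eq ?_⟩
    · rw [inv_inv, hF]; exact h1
    · rw [inv_inv, hF]; exact h2
  obtain ⟨cc, hg, hcube, halt⟩ := exists_g hc (hT F1 rfl)
  have key : ∀ (s : ℕ → List ℕ) (F : Frame H), Sub s F → Good ι t F (g0⁻¹ * ι (F1.sg cc)) →
      ∃ h : Fin 8 → G, Out t ι g0 h := by
    intro s F hs hgood
    obtain ⟨g', hg', hgood', ha⟩ := hgood.exists_good hc
    refine ⟨_, out_of_good c hs hgood' ha ?_⟩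
    rcases hg' with rfl | rfl
    · exact ⟨1, F1.sg cc, by rw [map_one, one_mul]⟩
    · exact ⟨F.y, F1.sg cc * F.y, by rw [map_mul]; group⟩
  rcases halt with h | h
  · exact key sub1 F1 sub_one ⟨hg, hcube, h⟩
  · refine key sub2 F2 sub_two ⟨?_, hcube, ?_⟩
    · exact ⟨hg.ct, hg.cy⟩
    · intro k
      have := h k
      rw [show F2.sg (tp k) = F1.y * F1.sg (tp k) from F1.tw_tp k]
      exact this

end Cfsg.Agent.CoThreeStd.RelMain
end

-- part: CoThreeStd/ColData
section
set_option autoImplicit false
set_option maxRecDepth 100000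

namespace Cfsg.Agent.CoThreeStd.ColData

open Cfsg.Agent.SporadicRecognition.CosetCert

noncomputable def tree : Tr := (.N 112 (.N 48 (.N 16 (.L 0xffffffffffffffffff1544fffff16450c134ffffc4c062b8b87fffffffffffffffffc4b0f2f8c8ba312d8c0b12f2b4b849060ffffffffffffffffff2a0b44705290b0a12b27ca89d29268a17ffffffffffffffffffffff11413ffffffffc9726ffffc95255ffffffffffffffffffffffc93242388c410422c88440c10c30ffffffffffffff0f82fffff22487ffff210803c042007c3f0b2ffffc33030d810380a0e8147e1effffc761a1ac63ffff0dc2a7ffffffffffffffffffffff0c40fffffffffc7c1d1e870781b5fffffffff1cc683008fffffffffffffc2d031bc67ffff0bc20fffff1002c68180a81fffff1985c2b07188582803170542c072ffffffffffffffffff1605026021504c511213c444d101283d7ffffffffc1d0108014390a1203825050901423050881421058ffffc350a05c0c19040ec10460d07010420c0f42c1b040681233f0206010340a04c0c11020c82414030b82029070540c16036ffffc090107c140c020480c2706040080f02038080d0202c0a7ffff078140a0200404080101c04060101404040100c040201f) (.N 32 (.L 0xfffffffffffffc8620ffffd2350ffffc830b46d3d174d21480fff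ffffffffffffffffffff4653bffff45534821f1fc2c811f1ffffffffffffffffffffffc7d0afffffffff44d31114b43d297ffffffffffffffffffffff40117ffff2d0bc7b09ffffcc8362ffffffffffffffffffffffffffffffffffff43524790942d207fffffffffffffffffffffffffffffff340e0c9364292077090ffffc7208ffffc751affffffffffffffffff4211fffff1d06a7ffffffffd05471c067ffffaa5a3ffff3c5006e08ffffc71192ffffc6707ffffc6a18ffffd03461b460fb431b028ea3f1a4627ffffffffffffffffffffff1941fffffffffcff45ffffcfd445ffffc87203e10c6416fffffffff3d10461073b900e33d18c58fffffffffce73f17857ffffffffc5f15388f4601516c1c5d151ffffffffffffffffff15c1bfffffffffffff378f3ffff35cedbfffffffffffffffffc5610ffffc5306350e8cd3716850bb314ffffffffffffffffffffffc5212348e4500633ce0c2342dcc0fffffffffffffffffffffffffffccc3731cd84e06310d4b22f2) (.L 0xffffffffffffffffff5f5b7ffff5e5b0b50fffffd6d682e048fffffffffffffffffffffff5ddad726affffcb00fffffcb3112ffffffffffffffffffffffd7069360ed6a68ffffcac0f2bc407fffffffffffffffffca70efffffffffffffd66672acb163666ffffffffffffffffff298a7ffff28c395f6556188aa2dffffd3fffffffff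fffffffffffff288ad5d64280395a635317d455c3fffffffffffffffffffffffffff55d895261278394f605016cbfffffffffffffffffca52cffffca92d52d7fffff2703b00b51ffffffffffffffffff26ca1485dffffd445c4fd6f01b5264383ffffffffffffffffffffff4c95fffff260353a59ffffd39593fffffffffffffffffffffffffffffffd365825837ffffffffcbfffffffffffffffffd3d5afffffffff4e1653558ffffc940d0ffffffffffffffffffffffc920cffffd3157ffffd2f564b5557ffffffffffffffffffffff4ad508d0c2448fffff23c8c90234cf033fffffffffffffffffd2953ffffd204f22833ffff23088bffffffffffffffffffffff2202d2752fffffffffffffd25515))) (.N 80 (.N 64 (.L 0xcf80d1e4f689f4ef40681f2aaa4c29ecf2193b4599d7b3c100bffff39857ffff3a4fffffffffffffffffffcec3f3ac60e83f9ffffffffffffffffffffffce515fffffffff669e7ffff65ddd7fffffffffffffffffffffffffffffff3845595763905bffff3fffffffffffffffffffffffffff380cd826f37453ffffffffcbffffffffffffffffffffff370ecd92effffd937536cc4d6140fffffffffffffffffffffffffffffffcd313645d3ffffffffcffffffffffffffffffd8e73354e8d112fffffffffffffd7a6c4ffffffffffffffffffffffffffffffffffff3384bffffffffcbffffffffffffffffffffffffffccb11631cbffffffffd736a4fffffffffffffffffffffffffffffffcc6113286d8a71ffffcffffffffffffffffffffffffffffffff625c7ffff30c47ffff1ffffffffffffffffff615c3ffffffffcc010fffffffff5ada0fffffffffffffffffffffff314d4df3cffffcbf10fffffffff2ffffffffffffffffffffffcbd0ffffffffff605bfffffffffd7ffffffffffffffffffffffffffcb90fffffd746a368ecbc134)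 (.L 0xffffffffffffffffff742392220ffffffffffffffffff7323173d0468df51f404713dc98bc4f0bffff484891a20ffffd1d4f2ffffffffffffffffffffffd181f71e2bfffffffffffff716257fffffffffffffffffffffffffffffff4507dc188ffffd164d3ffffffffffffffffffffffdae81ffffd425b4487bffff54d84bfffffffffffffffffffffffffffffffffffdbf8744079bc851fffffffffffffffffffffffffffffffd5b6355185bb85438783ffffffffffffffffffffff6de13ffffffffd0c1cffffdb4832ffffffffffffffffffffffffffffffffffff6ce0d091bffffc7ffff41067ffff41d1fffff6c60bffff69df7ffffffffd06479ffffffffffffffffffffffd0218fffffffff6b607ffffbee797ffffffffffffffffffffff404758670ffffcfe1763dcd7e6d2ffffffffffffffffffffffffffffffffffffffffdaa7f3f05c3ffff3dc5bffff3e90ffffffffffffffffffda67dffffcf9439ffffffffffffffffffffffcf616fffffffffab0c7ffffffffd7ffffffffffffffffffffffffffcf3163d5070b7bc39dbffff4)) (.N 96 (.L 0xfffffffffffffffffffffffffffffffdfb9fffffd4e2affffc7fffffffffffffffffdf79efffffffff528a7ffff534aefc823ffffffffffffffffffffffd506059d9fffff524a7ffffffffcbffffffffffffffffffffff51ca3ffffffffdf39dff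fffffff5ffffffffffffffffff7c273ffff7b66d4328ffffefe82518acfffffffffffffffffffffff7ae69e899ffffd3e28ffffd412a2ffffffffffffffffff4f097ffffffffde698fffffffffc5709bfffffffffffffffffffffffffffffff4dc953b27fffffffff3ffffffffffffffffffffffffffffffffffff4d097ffffffffcbffffffffffffffffffffff4cc9de3964c093ffffce557ffff3fffffffffffffffffffffffffff7463bffffffffd2e24cdd5c7fffffffffffffffffdcd8cffffffffffffffffffce15d2c240ffffffffffffffffffffffd2a2378657ffffffffdde937724973b24ffffffffffffffffff4a08bfffffffffffff76645d6905ffffffffffffffffff76247ffff49887fffffffffffffffffd3fffffffffffffffffdd590ffffffffffffffffff74e3d24210) (.L 0xa9d13fffffffffffff610d21caa61d17fffffffffffff86aa5bffffffffffffffffffffff8429bffff60cf18032fffffffff2ffffffffffffffffffffffd7f31fffffffff82693ffffffffd7fffffffffffffffffd7c30fffffffffffffffffffffffffff6ffffffffffffffffff866a7ffff5e0c3fffffffffffff5ece53ffffffffffffffffffffff5d8be17a884e9e0fa6fffffffff5aad0bffffffffffffffffffffff5c4be0ca55d4c7ffffffffd3ffffffffffffffffffffff5bcbbffff8229205a3ffffe04a35ffffffffffffffffffffffea819ffffd692effffd6e305b0d0fffffffffffffffffffffffffffd685e7d275652dfffffffff2ffffffffffffffffffffffd6466ffffffffffffffffff588b43ffffffffffffffffffffff58593ffff578b3fffffffffffff3ffffffffffffffffff802856065570affffffffffffff7ba6d3fffffffffffffffffffffffffffffffffffd592bfffffffff2fffffffffffffffffffffffffff558a9fea0fffffffff7a6653fffffffffffffffffffffffffffffff544a9554a7f27fffff3))))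 (.N 176 (.N 144 (.N 128 (.L 0xffffffffffffffffffffffe14a7ffffdab45fffffffffffffcfffffffffffffffffffffffffffffffffffffffff6a513ffff1ffffffffffffffffffffffffffffffffffffababda842ffffc7ffff68501a44ffffff057d8d2cffffffffffffffffffda57d9c4503068bfffffffff67d03ffffffffffffffffffffffc21f1bffffffffffffffffff107bc3def0940fffff0c41671019e7b1ffffffffffffffffffffffd9b3ffffffffff8cacbffff8bec17ffffffffffffffffffffffffffea0b7ffffd993e6e213ffff2ffffffffffffffffffffffffffffffffffff8aab9983effffc7ffffffffffffffffffffffffffea4b8ffffea3b9ffffd963e0ffffffffffffffffffffffe2daffffffffff650f70d41ffffcbfffffffffffffffffffffffffffffffffffd923bab6bfffff2fffffffffffffffffffffffffffffffe24ad640ebffffffffcbfffffffffffffffffd8d398a6baa67fffffffffffffffffff6fffffffffffffffffffffffffffffffd8b3788eb7ffff83694fffffffffffffffffffffffffffe21ac620d61eabfffffffff3) (.L 0xffffffffffffffffff75147fffffffff23e5ffffe5dc6ffffdbfffffffffffffffffe5cc6ffffffffffffffffff74947ffff1ffffffffffffffffff73d43ffffffffffffffffffffff96b15bffffffffffffffffffffffc632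bffffffffdce50ffffe57c32ffffffffffffffffffffffffffffffffffff95b0fffff72d403124ffffff077c72a2dc84f9530bffffffffffffffffffffff6ffffffffffffffffff94707ffff7193bfffffffffffffffffd3fffffffffffffffffe4ec0ffffffffffffffffff932fdc44e0ffffffffffffffffffffffe4abeffffdc38870137ffff70a20bffffffffffffffffffffff91ef7ffffffffdbe4bffffe41ba2ffffffffffffffffff6f52bffffffffe45bcfffffffff8d6cdbfffffffffffffffffffffffffffffffffffe40ba6e92bffff1ffffffffffffffffffffffdb6498fae7ffff8eee1b979ffffd7fffffffffffffffffffffffffffffffffffdb24887eadb5492ffffffffffffffffffffffdb047ffffffffffffffffffbf57d7ffffffffffffffffffffff6bd31f89effffdac4680685f19c2)) (.N 160 (.L 0xfffffffffffffffffffffffffffffffdfd62a0f4fffff9b330fffffffffffffffffffffffffffe81d27e9827ed1fffffffff3ffffffffffffffffff7d97e87cc7e607fffffffffffff9ef41bffffffffffffffffffffff9c337ffff7d59df25dfffffffff2ffffffffffffffffff7bd73ffff9eb43fffffffffffffffffdbfffffffffffffffffe79d0ffffdec5cffffffffffffffffff4ffffffffffffffffffffffdea5b9df3e73ce9bf37ffffffffd7ffffffffffffffffffffffffffde75b9af33fffffffffffff4fffffffffffffffffffffffffffffffde55a9a72fffffffffcffffffffffffffffffffffffffffffffffffde45afffff1aca2fffffffffffffffffffffffffff7895ffffffffffffffffffd3ffffffffffffffffffffffffffde054ffffffffffffffffff4fffffffffffffffffffffffffffccfa5df54ffffe66c9ffffcffffffffffffffffffffffffffffffff99727ffff7755263c81ffffffffffffffffffffffffffffffffffffffffe62c876d5033a56fffffffffffffdd752ffffffffffffffffff7694e5fc66)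 (.L 0xffffffffffffffffffffffffffffffffffffacf66b1d88b9e83ffffffffffffffffffffff8b1dbffffffffeaf7efffffffff5ffffffffffffffffffffffe2873fffffffff8ade23cb8ffffd7fffffffffffffffffffffffffffffffffffe2272fffffffff2ffffffffffffffffffffffe99d7881c7ffffa5b5bffffffffd3ffffffffffffffffffffffffffe93d6ffffe1d71fffffffff289697fffffffffffffffffe1b70ffffffffffffffffffffffd7fffffffffffffffffe186cfffffffffffffffffffffffffff6fffffffffffffffffffffffffff859ae27a8a4357ffffffffd3ffffffffffffffffffffff8560226a7849affffffffffffff3ffffffffffffffffffffffe116fa3f57ffff839afffffffffcbfffffffffffffffffffffffffffffff82dabfffffffffffff3fffffffffffffffffffffffffffffffe0769829bbffffffffcffffffffffffffffffffffffffffffffffffe0669ffffe03690fffffffffffffffffffffffffffffffe84d380997ffffffffcbfffffffffffffffffdff64a2f53ffffffffffffffffffffff6))) (.N 208 (.N 192 (.L 0xffffffffffffffffff93627ffffffffecde2ffffecae1ffffdbfffffffffffffffffec9e1ffffffffffffffffff92e27ffff1ffffffffffffffffffffffe4988ffffec6e0ffffe52c193f017ffffffffffffffffffffff91a1ef8d9f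fffec3dfffffec0de5fffffffffffffffffffffffffffffffe4486afb77ffffae368ffffffffffffffffffffffffffffffffffffe4386fffffffff2ffffffffffffffffffffffffffffffffffff8fe167fd190a1cbffffffffffffffffffffffffffe3d84ffffea277a7edfffff4fffffffffffffffffffffffffffa95dfffff8ea13ffffffffcbffffffffffffffffffffffffffea179fffffffffa7ae639840fffffffffffffffffffffffffff8e20fffffffffe94d6ffffd3ffffffffffffffffffffffae76bffff8de0bffffffffeff293ffffffffffffffffffffffe74ceffffe3681fffffffffffffcfffffffffffffffffffffff8cdf7ffffadf6b04dcfffffffff5ffffffffffffffffffffffffffffffffffff8c5ea48bdad364bfffffffffffffffffffffffffffffffffffe8cd48c1ebffff1) (.L 0xbe91bfffffffffffff9e26fffffffffffffffffffffff9f279bffffffffffffffffffffffffffe769aa273ee9ecfffffffff4ffffffffffffffffffffffe75b4a233a729afffffffffffffcfffffffffffffffffffffff9c676e8ecffffe6e9afffffffff2ffffffffffffffffffffffe869effffe6a99fffffffff9b680ffffffffffffffffffffffffffffffffc770a6898fffff1e982fffffffffffffffffffffff198dffffe6797c5b0bffffc6e5cfffffffffffffffffffffffb97abffff9924fffffffffee3e93fffffffffffffffffffffffffffb6f9ae2e9ffffe6192ffffc7fffffffffffffffffffffffffffffff98247ffffc9baedfe73ffffffffffffffffff96e3fffffffffedee7ffffe5e90ffffdb3696ffffffffffffffffffb6b9bfffffffffffffffffe598e0ffffffffffffffffffffffed2e3fffffffffffffe588db57907fffffffffffffffffed8e5fffffffffffffe558cb5393ffff2ffffffffffffffffffffffe538bfffff1ccbc5f2bffffc51697fffffffffffffffffe508afffffffffffffed1e3ffffecbe16))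 (.N 224 (.L 0xffffffffffffffffffffffec7e0ffffec5befffffffffb3b88ffffffffffffffffffffffffffffffffffffec2bdfffffffff2fffffffffffffffffffffffffffffffffffffffffffffafef4302dafffffffffffffffffffffffffffffffebdbcfffffffff2fffffffffffffffffffffffffffffffebcbbc0ecfffffffffcfffffffffffffffffffffffffffebbbafffffffffbb7b7ffff4ffffffffffffffffffffffebab5ffffeb6b3fffffffffffffcfffffffffffffffffffffffffffef7bdffffeb2b0b077ab5b22ffffffffffffffffffffffffffffffffffffffffeb0b0ffffc7ffffffffffffffffffffffa62b3ffffa6f569cd7fffffffff5ffffffffffffffffffffffe9dd6a4aafffffa5eb295b6ffffd3ffffffffffffffffffffffffffe8ea6a6b5e91a8fffffffff4ffffffffffffffffffffffe8aa1be763ffffa36c6c4dfffffd7fffffffffffffffffffffffffffffffa168a82a0fffffffff2ffffffffffffffffffffffef2eea027fffffbbfb7ffffffffd3ffffffffffffffffffffffffffeecedffffe7d9ffffffffff2) (.L 0xfffffffffffffffffffffffffffcc7ab2be1cc3a32ee2ffffcfffffffffffffffffffffffffffffffffffff28e1fffffffff2ffffffffffffffffffffffef1d2ffffef4ecbd7bbffffffffd7ffffffffffffffffffffffbdbb6ebd1ffffef0d2bb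b6fffff4fffffffffffffffffffffffffffb9f36f3eebab3fffffffffd3ffffffffffffffffffffffb9b2fffffc854ffffffffff1fe55ffffffffffffffffffffffee4c9ccbc3fffffffffffffffffd7fffffffffffffffffffffffffff3494b8723fffffffffffff3ffffffffffffffffffffffee0c7fffffffffcbfc3ffffffffd7ffffffffffffffffff27e4fffffffffb771bffffc9797ffff3ffffffffffffffffffffffed9c5b73233595fffffffffffffd7fffffffffffffffffed7c3fffffffffc8a43ffffc939f20eb6ffffffffffffffffffffffffffffffffffffffffed3c3b5b107fffffffffffffffffffffffffffffffffffed0c1fffff2aef2fffffffffffffffffffffffffffffffeccc0fffff2df0b3f80ffffffffffffffffffec8bffffffffffcb3c329effffffffff6)))))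

noncomputable def wtree : WT := (.N 48 (.N 24 (.N 12 (.N 6 (.N 3 (.N 1 (.L 6 [0,5,0,2,3,2,5,0]) (.N 2 (.L 0 [9,7,8]) (.L 7 [0,9,0,8]))) (.N 4 (.L 1 [7,9,7,1,8]) (.N 5 (.L 2 [7,9,7,2,8]) (.L 3 [7,9,7,3,8])))) (.N 9 (.N 7 (.L 4 [7,9,7,4,8]) (.N 8 (.L 7 [6,7,6]) (.L 4 [6,4,6]))) (.N 10 (.L 1 [6,1,6]) (.N 11 (.L 0 [6,0,1,6,4]) (.L 7 [8,0,9]))))) (.N 18 (.N 15 (.N 13 (.L 0 [8,7,0,9]) (.N 14 (.L 1 [7,8,7,1,9]) (.L 4 [7,8,7,4,9]))) (.N 16 (.L 8 [9,9]) (.N 17 (.L 2 [7,8,7,2,9]) (.L 3 [7,8,7,3,9])))) (.N 21 (.N 19 (.L 7 [2,7,2]) (.N 20 (.L 4 [2,4,2]) (.L 0 [2,0,2]))) (.N 22 (.L 0 [3,0,3]) (.N 23 (.L 7 [3,7,3]) (.L 9 [8,8])))))) (.N 36 (.N 30 (.N 27 (.N 25 (.L 6 [8,6,8,6,8]) (.N 26 (.L 9 [7,2,9,2,7]) (.L 1 [3,1,3]))) (.N 28 (.L 6 [0,5,2,3,2,0,5,0]) (.N 29 (.L 5 [3,5,3,5,3]) (.L 6 [1,0,6,0,4])))) (.N 33 (.N 31 (.L 0 [1,0,1]) (.N 32 (.L 7 [1,7,1]) (.L 4 [1,4,1]))) (.N 34 (.L 2 [1,2,1,2,1]) (.N 35 (.L 9 [7,3,9,3,7]) (.L 1 [4,1,4]))))) (.N 42 (.N 39 (.N 37 (.L 0 [4,0,4]) (.N 38 (.L 3 [4,3,4,3,4]) (.L 3 [2,5,0,6,0,5,0,2])))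 (.N 40 (.L 5 [2,1,5,2,1,5,2,1]) (.N 41 (.L 2 [0,2,3,0,3]) (.L 2 [4,2,4])))) (.N 45 (.N 43 (.L 3 [2,3,2,3,2]) (.N 44 (.L 5 [4,3,5,4,3,5,4,3]) (.L 4 [0,4,0]))) (.N 46 (.L 1 [0,1,0]) (.N 47 (.L 5 [4,1,0,5,0,1,4,5,1,4,0]) (.L 5 [2,5,2,5,2]))))))) (.N 72 (.N 60 (.N 54 (.N 51 (.N 49 (.L 2 [3,2,3,2,3]) (.N 50 (.L 5 [0,1,4,5,1,4,0,5,4,1,0]) (.L 0 [5,0,2,3,2,5,0,6]))) (.N 52 (.L 3 [2,0,5,0,6,0,5,2]) (.N 53 (.L 4 [0,6,0,1,6]) (.L 1 [0,6,0,4,6])))) (.N 57 (.N 55 (.L 1 [2,5,1,2,5,1,2,5]) (.N 56 (.L 4 [1,0,6,0,6]) (.L 2 [5,0,1,5,2,0,5,0,1,5,0]))) (.N 58 (.L 2 [5,0,6,0,5,0,2,3]) (.N 59 (.L 0 [6,0,1,4,6]) (.L 1 [2,1,2,1,2]))))) (.N 66 (.N 63 (.N 61 (.L 10 [5,0,6,0,5,2,3,2,0]) (.N 62 (.L 4 [5,3,4,5,3,4,5,3]) (.L 2 [1,5,2,1,5,2,1,5]))) (.N 64 (.L 0 [6,0,5,0,2,3,2,5]) (.N 65 (.L 0 [6,4,0,1,6]) (.L 0 [6,1,0,4,6])))) (.N 69 (.N 67 (.L 5 [0,2,3,2,5,0,6,0]) (.N 68 (.L 3 [4,5,3,4,5,3,4,5]) (.L 1 [0,5,0,1,4,5,1,4,0,5,4]))) (.N 70 (.L 2 [1,0,1,2,0]) (.N 71 (.L 4 [2,1,4,1,2]) (.L 4 [5,1,4,0,5,4,1,0,5,0,1])))))) (.N 84 (.N 78 (.N 75 (.N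 73 (.L 10 [4,1,4,1]) (.N 74 (.L 5 [0,6,0,5,0,2,3,2]) (.L 10 [5,2,5,2,5,2]))) (.N 76 (.L 5 [1,2,5,1,2,5,1,2]) (.N 77 (.L 4 [1,0,5,0,1,4,5,1,4,0,5]) (.L 4 [1,2,4,2,1])))) (.N 81 (.N 79 (.L 10 [0,4,1,5,4,1,0,5,0,1,4,5]) (.N 80 (.L 0 [6,0,5,2,3,2,0,5]) (.L 1 [6,4,0,6,0]))) (.N 82 (.L 1 [3,1,0,3,0]) (.N 83 (.L 10 [2,0,5,0,1,5,0,2,5,0,1,5]) (.L 9 [6,8,6,8,6]))))) (.N 90 (.N 87 (.N 85 (.L 10 [4,6,2,4,2,6]) (.N 86 (.L 2 [3,2,0,5,0,6,0,5]) (.L 0 [3,2,0,2,3]))) (.N 88 (.L 3 [5,3,5,3,5]) (.N 89 (.L 3 [0,3,0]) (.L 1 [0,3,1,0,3])))) (.N 93 (.N 91 (.L 1 [3,0,3,1,0]) (.N 92 (.L 6 [3,1,3,6,1]) (.L 4 [2,5,1,3,5,2,4,5,1,3,5]))) (.N 95 (.N 94 (.L 4 [1,5,4,1,0,5,0,1,4,5,0]) (.L 10 [5,3,4,5,3,4,5,3,4])) (.N 96 (.L 1 [0,1,4,0,4]) (.L 10 [0,5,0,2,5,1,0,5,2,0,5,1]))))))))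

noncomputable def stree : ST := (.N 3 (.N 1 (.L 7 [] []) (.N 2 (.L 0 [] []) (.L 1 [] []))) (.N 5 (.N 4 (.L 2 [] []) (.L 3 [] [])) (.N 6 (.L 4 [] []) (.L 5 [] []))))

noncomputable def C : Cert where
  data := tree
  lm := 15
  rb := 202
  fb := 18
  mask := 262143
  B := 256
  k := 10
  N := 240
  inv := fun x => bif Nat.beq x 0 then 0 else bif Nat.beq x 1 then 1 else bif Nat.beq x 2 then 2 else bif Nat.beq x 3 then 3 else bif Nat.beq x 4 then 4 else bif Nat.beq x 5 then 5 else bif Nat.beq x 6 then 6 else bif Nat.beq x 7 then 7 else bif Nat.beq x 8 then 9 else bif Nat.beq x 9 then 8 else x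
  words := wtree
  subs := stree

/-- letters: 0 = x, 1 = p, 2 = q, 3 = r, 4 = s, 5 = b, 6 = e, 7 = t, 8 = d, 9 = D -/
def rels : List (List Nat) := [[8,8,8], [6,1,6,1], [6,4,6,4], [1,3,1,3], [1,4,1,4], [1,0,1,0], [2,4,2,4], [2,0,2,0], [3,0,3,0], [4,0,4,0], [7,0,7,0], [7,1,7,1], [7,2,7,2], [7,3,7,3], [7,4,7,4], [7,5,7,5], [7,6,7,6], [9,7,8,0], [9,0,8,0,7], [5,2,5,2,5,2], [5,3,5,3,5,3], [6,1,6,3,1,3], [6,1,4,0,6,0], [6,1,0,6,4,0], [6,1,0,6,0,4], [6,1,0,4,6,0], [6,2,4,2,6,4], [6,4,1,0,6,0], [1,2,1,2,1,2], [1,2,4,2,1,4], [1,2,0,2,1,0], [1,3,1,0,3,0], [1,3,4,1,4,3], [1,3,0,1,3,0], [1,3,0,3,1,0], [1,4,1,0,4,0], [1,4,0,1,4,0], [1,4,0,4,1,0], [2,3,2,3,2,3], [2,3,0,3,2,0], [2,4,2,0,4,0], [2,4,0,2,4,0], [2,4,0,4,2,0], [3,4,3,4,3,4], [3,4,0,4,3,0], [5,2,5,2,5,2], [5,3,5,3,5,3], [9,7,1,8,1,7], [9,7,2,8,2,7], [9,7,3,8,3,7], [9,7,4,8,4,7], [6,8,6,8,6,8], [5,1,2,5,1,2,5,1,2], [5,3,4,5,3,4,5,3,4], [6,0,5,0,2,3,2,5,0], [5,1,3,5,2,4,5,1,3,5,4,2], [5,1,4,0,5,4,1,0,5,0,1,4], [5,1,0,5,2,0,5,1,0,5,0,2]]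

def subw : List (List Nat) := [[7], [0], [1], [2], [3], [4], [5], [6]]

/-- targets:  deD -/
def targets : List (List Nat) := [[8,6,9]]

end Cfsg.Agent.CoThreeStd.ColData
end

-- part: CoThreeStd/ColChk0
section
set_option autoImplicit false
set_option maxRecDepth 100000

namespace Cfsg.Agent.CoThreeStd.ColChk0

open Cfsg.Agent.SporadicRecognition.CosetCert Cfsg.Agent.Lib.CosetPartial Cfsg.Agent.CoThreeStd.ColData

theorem c0 : PartP C 0 64 := runP_sound C (by decide +kernel : runP C 12 4095 0x1930021230021c30020020010021430010000230000000000000430020130000000000000010000000020000020000000000000000000010020020000000000000000000023330010000000000000000002e30020000020020010000000000000000000010020000000000000000022b30010000000002430000000000000000000000010000000000000000000000010020000002430000000000000000000010021a30000000000000000000000020000010000000000000020000000010000001530000000000002731330000010000000000000000000010000000020000000000000000000000010002932d30020000000000020000020010001a300200000000000000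20020000010000020000000000000022c30020000010020000000000010000000000020020020000000000020000010022930930000000000000001c30020010021a31530000000000000000020020010021430000000001d30000830020000010020000000001b30020000020025130010000000000001c30000013030001530000000000000000002630010000000000000000020000000020020000010000000000000010000020000020020000000000000020012530002332430000000000000020002a30010001430000000000000010020000000000020000001630000020000010021a31530000000000000020000022130011e30000000000000010000000020020020000000000002f30002630010001530000000000000000000000020011e30000000000000000002a32830020010010000230000000000000430000130000021230000020002a30010001430010000230000020630530020330130000000000000010000000020000022230021630000000020010021a31530000021f30000002030022130011e30000000000010000000000020000020000000000020000010022930932430000000000001c30020010021a31530000000000000000020020010021430000000001d30000830020000011e30000000001b30020020020020020010000000000020010020020020020020000000000000010000000020000020000000000000020020010021a31530000001230000020000020010021430010020230020020000530430000130000000000000010000000020020020000021630000000000010020001531930021230000021330020010021430000000000020010020020020020020000010b31830020e31131030d30c31730010b31830020e30020020d30c30020020730010020830020020930a30010f3023002002063053043033013002002005003065055045035025015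 23 8388607 0x69d0e000000000000000000000000000000000000000000000000000000000000000000000000000000000000000000000000000000000000000000000000000000000000000000000000000000000000000000000011a92b8000000000000000000000000000000000000000000000000000000000000000000000000000000000000000000000000000000000000000000000000000000000000000000000000000000000000000000000000000008fd9c00000000000 0 64 = true)

theorem c1 : PartP C 64 128 := runP_sound C (by decide +kernel : runP C 12 4095 0x1c30000010000000000000000000000000000000000010000000000000000000000002130010000010020001b30020000000000000135330000000010000000000000000130000000000032733730000020011e30000000000000010000000020000020000000000000002030000013630000000000000000000000003e30010000000000000000004630000020000010000000000000020000000013b30000000000000000000000000013630000000000000000000002a30010000000000000000010024730000000000000000000000000000000010020001530000000000000000020010020000000000000000010020020000000003a30000000000002f30000020010000000000000000000010000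003930000000000000000010000000000000000000000000000020000010000000000020000000000000010020020020000000000000000000000010020020000000000000000000010000023830000020000000000004930000010000020020000000000000000023330010000000000000000003130000000000000010000000000000020000010000000000000000000022b30010000000002430000000000000000000000010000000000000000000000010020000002430000000000000000000010021a30000000000000000000000020000010000000000000020000000010000024f30000000000002731330000010000000000000000000010000000020000000000000000020000020010005030020000000000000020020000010000020000000000010000000020000000020000000000000000000010020000000000000000000000000000010000000000000000000020020010000020000000000000000003730000000012430000000001b30000000000005f30010000000000000010020000000020020000000000000010000000003533230000000000020000010000000000000000000000020000000000000020010000000000020010000000000000021730021230028a40000020010001430000000000000010020000000000020000000000000000000010020001530000000000002f30002630010001530000000000000000000000020011e30000000000000000002a3283002001000000000000002000000001000143000000000000000000000002001000001000023000002000053000000013000000000000001000000002000cf4000000000000002343000001353323000000000000000000000000002001001000023000000000000043000013000000000000001000000694000000000000000000000001253293002000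 23 8388607 0xa8c0000000000000000000000000000000000000000000000000000000000000000009060000000000000000000000000000000253000000000000000000000000000000000000000000000000000000000000000000000000000000000000000000000000000000000000000000000000000000156405c000000000000000002c84dc00000000000000000000000000000000000000000000000000000000000000000000000000000000 64 64 = true)

theorem c2 : PartP C 128 192 := runP_sound C (by decide +kernel : runP C 12 4095 0x10000000020000930000000000000020000000000000010000000000000000010000020003533230000000000000010020000020000020000000000000000000010020001530000000000000000000000010000000000000000000000000000013b30020000000000000000010004530020000000000000000000020000010000000000000000000000020000004430010000000000000000010000002330000000000000001c30000010000001530000000000001c30000010000000000000000000000010000020020000000000000000000000000000013631430000000000000000000003e30010000000000000000000000000020020010000000000000010000000020000000000000000000010000000023b300000000000000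00000000000010000000000000000000020010002930000000000000000000000020000010000000000000000000010000000000000000000000000010000000000000000000000000000000000012532930000000000000000000023d30010000000000000000000000020020000010000000000000000000000000010000000000000000000000000000010020000000000000000000000000000020000010000000000000000002a30010000000000000000010020000000000000000000000000000000000010020001530000000000000000020010020000000000000000010020020000000004130000000000002f30000020010000000000000000010000830000000000000000000000020000010000000000000000000000000010020020020000000000000000000000010020000000000000000000000000000010020000000000000000000000000000010001430000000000000000010000000000000000000000000000010000000000000000000000000005d30010001a30000000000000000000000020000011e30000000000000000000000000020010000000000010000000000000024030000000000010000000020000930000000000000020000000000000010000000000000010000000000000000020000000000002f30000000010001430000000000000000000000020000010000020730010020000000000000000000000000020000010000000000000000000000020000000000000020010000000000000020002a30010001430000000000000020000000010001430000000000010000000020000003f30000000000000000000000020010000000000000000010020000020020000000000000000000000000013b3002000000000000001000000000000002000000000000002343000001353323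 23 8388607 0x1e180000000000000000000000000000000000000000000000000000000000000000000000000000000000000000000000000000000000000000000000000000000000000000000060600000000000000000000000000000fdee5c000000000000000000000000000000000000000000000000000000000 128 64 = true)

theorem c3 : PartP C 192 240 := runP_sound C (by decide +kernel : runP C 12 4095 0x5c30010020020000000000000000000000000010000000000000000000010000023030000000000000000002f30010000020020000000000000000000014330020000000000000000000010005730000003230000000000000010020000000000000000000000000000020010000000000000000000000010000003930000000000000005b30000000010000020000000000000000010022530000000000000000000010000005830005930020000000000000000000000000010020000000000000000000000010001430000000000000000000010001a30020000000000010000000020020000000000000000001c3000001000000153000000000000000000000001000000000000000000000000000000000001000000000000000000000001000000000000000000000000001303000000000000000000000001000000233000000000000000002000001000000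0000000000000000004c30000012d30020000000000000000000000000010000000000000000010000023030000000000000000002f30010000020020000000000000000000014330020000000000000000000014d30000023b30000000000000000000000020010000000000000000000020010002930000000000000000000000020000010000000000000000010000000000000000020000000000000000012532930000000000000000000023d30010000000000000000000000020020000010000000000000000004230000010000000020000000000000000000020010005630000000000000020000015530000020000000000000020000010000001530000000000000004c30020000010000000000000000000000010005a31530000000000010000000020000020000000000000000020000000000000010000000000004b30000000000011e30000000000020000000000010020000000000000000010002a3002000323000000000001000000000002000403 23 8388607 0x5230000000000000000000000000000000000000000000000000000000000000000000000009c60000000000000000000000000000000000000000000000000000000000005e300000000000000000000000 192 48 = true)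

theorem all : PartP C 0 240 := (((c0).append C c1).append C c2).append C c3

end Cfsg.Agent.CoThreeStd.ColChk0
end

-- part: CoThreeStd/Col
section
set_option autoImplicit false
set_option maxRecDepth 100000

namespace Cfsg.Agent.CoThreeStd.Col

open Cfsg.Agent.SporadicRecognition.CosetCert Cfsg.Agent.Lib.CosetPartial Cfsg.Agent.CoThreeStd.ColData

theorem part : PartP C 0 C.N := Cfsg.Agent.CoThreeStd.ColChk0.all

/-- every target word lies in `H` as soon as the relators hold and the subgroup words lie in `H` -/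
theorem mem {G : Type*} [Group G] (H : Subgroup G) (g : Nat → G)
    (hinv : ∀ x, x < 10 → g x * g (C.inv x) = 1)
    (hrel : ∀ r ∈ rels, ev g r = 1) (hsub : ∀ s ∈ subw, ev g s ∈ H) :
    ∀ w ∈ targets, ev g w ∈ H :=
  mem_of_checks C H g rels subw targets (by decide +kernel) hinv hrel hsub part (by decide +kernel)

end Cfsg.Agent.CoThreeStd.Col
end

-- part: CoThreeStd/Collapse
section
/-!
# S1750, the case `(ed)³ = 1` does not occur

The relators of part [B] together with `(ed)³ = 1` imply that `d e d⁻¹` centralises `t` (certificate `Col`), so `e`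
centralises `t^d = x`.
-/

set_option autoImplicit false

namespace Cfsg.Agent.CoThreeStd.Collapse

open Cfsg Cfsg.Agent.CoThreeStd.RelMain Cfsg.Agent.CoThreeStd.MTwelve
  Cfsg.Agent.SporadicRecognition.CosetCert

/-- The letters `x p q r s b e t d d⁻¹` of the certificate as words in the letters `t x s₁ s₂ s₃ s₄ e d`. -/
def sw : ℕ → List (Fin 8)
  | 0 => [1]
  | 1 => [2]
  | 2 => [3]
  | 3 => [4]
  | 4 => [5]
  | 5 => [3, 4, 5, 6, 4, 3, 6, 3, 4, 5, 6, 4, 3]
  | 6 => [6]
  | 7 => [0]
  | 8 => [7]
  | 9 => [7, 7]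
  | _ => []

variable {G : Type*} [Group G]

/-- The letters of the certificate. -/
def gl (h : Fin 8 → G) (k : ℕ) : G := ((sw k).map h).prod

theorem ev_gl (h : Fin 8 → G) (r : List ℕ) : ev (gl h) r = ((r.flatMap sw).map h).prod := by
  induction r with
  | nil => rfl
  | cons k r ih => rw [ev_cons, ih, List.flatMap_cons, List.map_append, List.prod_append]; rfl

/-- The relators of the certificate are relators of [B]. -/
theorem rels_ok : ColData.rels.all (fun r => okR (r.flatMap sw) || (r.flatMap sw == [6, 7, 6, 7, 6, 7])) = true := by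
  decide +kernel

theorem inv_ok : (List.range 10).all (fun k => okR (sw k ++ sw (ColData.C.inv k))) = true := by decide +kernel

theorem sub_ok : ColData.subw.all (fun r => (r.flatMap sw).all fun k => !(k == 7)) = true := by decide +kernel

variable {t g0 : G} {ι : H →* G} {h : Fin 8 → G}

theorem comm_of_mem (c : Fusion.Ctx t ι) (ho : Out t ι g0 h) {k : Fin 8} (hk : k ≠ 7) : t * h k = h k * t := by
  by_cases h0 : k = 0
  · subst h0; rw [ho.zero]
  · obtain ⟨s, -, hs⟩ := ho.sub
    rw [hs k h0 hk, c.comm]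

theorem false_of_cube (c : Fusion.Ctx t ι) (ho : Out t ι g0 h)
    (hcube : ([6, 7, 6, 7, 6, 7].map h).prod = 1) : False := by
  have hrel : ∀ r ∈ ColData.rels, ev (gl h) r = 1 := by
    intro r hr
    have h1 := List.all_eq_true.1 rels_ok r hr
    rw [ev_gl]
    rw [Bool.or_eq_true] at h1
    rcases h1 with h1 | h1
    · exact ho.rel _ h1
    · rw [beq_iff_eq] at h1
      rw [h1]; exact hcube
  have hinv : ∀ x, x < 10 → gl h x * gl h (ColData.C.inv x) = 1 := by
    intro x hx
    have h1 := List.all_eq_true.1 inv_ok x (List.mem_range.2 hx)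
    have h2 := ho.rel _ h1
    rwa [List.map_append, List.prod_append] at h2
  have hsub : ∀ r ∈ ColData.subw, ev (gl h) r ∈ Subgroup.centralizer ({t} : Set G) := by
    intro r hr
    have h1 := List.all_eq_true.1 sub_ok r hr
    rw [ev_gl, Subgroup.mem_centralizer_singleton_iff]
    revert h1
    generalize r.flatMap sw = w
    intro h1
    induction w with
    | nil => simp
    | cons k w ih =>
      rw [List.all_cons, Bool.and_eq_true] at h1
      have hk : k ≠ 7 := by simpa using h1.1
      rw [List.map_cons, List.prod_cons, mul_assoc, ih h1.2, ← mul_assoc, ← comm_of_mem c ho hk, mul_assoc]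
  have hmem := Col.mem (Subgroup.centralizer ({t} : Set G)) (gl h) hinv hrel hsub [8, 6, 9]
    (by unfold ColData.targets; simp)
  have hd : h 7 * (h 7 * h 7) = 1 := by
    have := ho.rel [7, 7, 7] (by decide +kernel)
    simpa using this
  have hx : h 7 * (h 7 * (h 0 * (h 7 * h 1))) = 1 := by
    have := ho.rel [7, 7, 0, 7, 1] (by decide +kernel)
    simpa using this
  have hxx : h 1 * h 1 = 1 := by
    have := ho.rel [1, 1] (by decide +kernel)
    simpa using this
  have he : ev (gl h) [8, 6, 9] = h 7 * h 6 * (h 7 * h 7) := by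
    simp [ev, gl, sw, mul_assoc]
  have h77 : h 7 * h 7 = (h 7)⁻¹ := by
    rw [eq_inv_iff_mul_eq_one, mul_assoc]; exact hd
  rw [he, Subgroup.mem_centralizer_singleton_iff, h77, ← ho.zero] at hmem
  have hx1 : h 1 = (h 7)⁻¹ * h 0 * h 7 := by
    have h1 : (h 7)⁻¹ * (h 0 * (h 7 * h 1)) = 1 := by rw [← h77, mul_assoc]; exact hx
    have h2 : ((h 7)⁻¹ * h 0 * h 7) * h 1 = 1 := by rw [← h1]; group
    rw [← inv_eq_of_mul_eq_one_left h2]
    exact (inv_eq_of_mul_eq_one_left hxx).symm
  have hcomm : h 6 * h 1 = h 1 * h 6 := by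
    rw [hx1]
    calc h 6 * ((h 7)⁻¹ * h 0 * h 7) = (h 7)⁻¹ * (h 7 * h 6 * (h 7)⁻¹ * h 0) * h 7 := by group
      _ = (h 7)⁻¹ * (h 0 * (h 7 * h 6 * (h 7)⁻¹)) * h 7 := by rw [hmem]
      _ = _ := by group
  obtain ⟨s, hs, hsk⟩ := ho.sub
  rw [hsk 6 (by decide) (by decide), hsk 1 (by decide) (by decide), ← map_mul, ← map_mul, ← wd_append,
    ← wd_append] at hcomm
  have h1 := c.inj hcomm
  rcases hs with rfl | rfl
  · revert h1
    exact wd_ne 4 (by norm_num) (by decide +kernel)
  · revert h1
    exact wd_ne 4 (by norm_num) (by decide +kernel)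

theorem alt_of (c : Fusion.Ctx t ι) (ho : Out t ι g0 h) : ([6, 7, 6, 7, 6, 7, 2, 0].map h).prod = 1 := by
  rcases ho.alt with h1 | h1
  · exact (false_of_cube c ho h1).elim
  · exact h1

end Cfsg.Agent.CoThreeStd.Collapse
end
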