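import Cfsg.Agent.CoThreeStd.OutAut
import Cfsg.Agent.CoThreeStd.Fusion
import Cfsg.Agent.CoThreeStd.MTwelveCent
import Cfsg.Agent.CoThreeStd.SymFive
set_option linter.all false

-- part: CoThreeStd/OutCtx
section
/-!
# S1750, centraliser of type `⟨t⟩ × M₁₂:2` (helper781)

`CtxO t c f`: `C_G(t) = ⟨t⟩ × f(M₁₂)⟨c⟩`, `c` an involution acting on `f(M₁₂)` as the outer automorphism `alpha`.
-/

set_option autoImplicit false

namespace Cfsg.Agent.CoThreeStd.OutCtx

open Cfsg.Agent.CoThreeStd.MTwelve Cfsg.Agent.CoThreeStd.OutAut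

variable {G : Type*} [Group G]

/-- `C_G(t) = ⟨t⟩ × f(M₁₂)⟨c⟩`. -/
structure CtxO (t c : G) (f : H →* G) : Prop where
  inj : Function.Injective f
  tt : t * t = 1
  t_ne : t ≠ 1
  comm : ∀ m, f m * t = t * f m
  nmem : ∀ m, f m ≠ t
  cc : c * c = 1
  ct : c * t = t * c
  act : ∀ m, c * f m * c⁻¹ = f (alpha m)
  cent : ∀ g, g * t = t * g → ∃ m, g = f m ∨ g = t * f m ∨ g = c * f m ∨ g = t * (c * f m)

variable {t c : G} {f : H →* G}

/-- `alpha` is not inner -/
theorem alpha_ne_inner (n : H) (h : ∀ m, alpha m = n * m * n⁻¹) : False := by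
  have h1 : n * y = y * n := by
    have := h y
    rw [alpha_y] at this
    exact (mul_inv_eq_iff_eq_mul.1 this.symm)
  obtain ⟨σ, hσ⟩ := cent_y n h1
  have h2 : ∀ τ : Cfsg.Agent.SporRec.Co3.P5, n * w τ * n⁻¹ = w (σ * τ * σ⁻¹) := by
    intro τ
    rcases hσ with rfl | rfl
    · rw [map_mul, map_mul, map_inv]
    · calc y * w σ * w τ * (y * w σ)⁻¹ = y * (w σ * w τ * (w σ)⁻¹) * y⁻¹ := by group
        _ = y * w (σ * τ * σ⁻¹) * y⁻¹ := by rw [map_mul, map_mul, map_inv]
        _ = _ := by rw [y_comm]; group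
  have h3 := h (w (Equiv.swap 3 4))
  rw [h2, alpha_odd (Equiv.Perm.sign_swap (by decide))] at h3
  apply y_ne_w (σ * Equiv.swap 3 4 * σ⁻¹ * (Equiv.swap 3 4)⁻¹)
  rw [map_mul, ← h3, map_inv, mul_inv_cancel_right]

namespace CtxO

theorem inv_t (h : CtxO t c f) : t⁻¹ = t := inv_eq_of_mul_eq_one_left h.tt
theorem inv_c (h : CtxO t c f) : c⁻¹ = c := inv_eq_of_mul_eq_one_left h.cc

theorem cf (h : CtxO t c f) (m : H) : c * f m = f (alpha m) * c := by
  rw [← h.act]; group

/-- `c` is not in `⟨t⟩ f(M₁₂)` -/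
theorem c_ne (h : CtxO t c f) (n : H) : c ≠ f n ∧ c ≠ t * f n := by
  constructor
  · intro h1
    apply alpha_ne_inner n
    intro m
    apply h.inj
    rw [← h.act, h1, map_mul, map_mul, map_inv]
  · intro h1
    apply alpha_ne_inner n
    intro m
    apply h.inj
    rw [← h.act, h1, map_mul, map_mul, map_inv]
    calc t * f n * f m * (t * f n)⁻¹ = t * (f n * f m * (f n)⁻¹) * t⁻¹ := by group
      _ = t * f (n * m * n⁻¹) * t⁻¹ := by rw [map_mul, map_mul, map_inv]
      _ = f (n * m * n⁻¹) * t * t⁻¹ := by rw [h.comm]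
      _ = _ := by rw [map_mul, map_mul, map_inv]; group

end CtxO

/-- the elements of `C_G(t)` -/
def El (t c : G) (f : H →* G) (x : Bool × Bool × H) : G :=
  (if x.1 then t else 1) * ((if x.2.1 then c else 1) * f x.2.2)

theorem El_comm (h : CtxO t c f) (x : Bool × Bool × H) : El t c f x * t = t * El t c f x := by
  obtain ⟨a, b, m⟩ := x
  have h1 : Commute (f m) t := h.comm m
  have h2 : Commute c t := h.ct
  show Commute ((if a then t else 1) * ((if b then c else 1) * f m)) t
  refine Commute.mul_left ?_ (Commute.mul_left ?_ h1)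
  · split_ifs
    · exact Commute.refl t
    · exact Commute.one_left t
  · split_ifs
    · exact h2
    · exact Commute.one_left t

theorem El_inj (h : CtxO t c f) : Function.Injective (El t c f) := by
  have hc := h.c_ne
  have key : ∀ m n : H, c * f m ≠ f n ∧ c * f m ≠ t * f n ∧ t * f m ≠ f n := by
    intro m n
    refine ⟨fun h1 => (hc (n * m⁻¹)).1 ?_, fun h1 => (hc (n * m⁻¹)).2 ?_, fun h1 => h.nmem (n * m⁻¹) ?_⟩
    · rw [map_mul, map_inv, ← h1, mul_inv_cancel_right]
    · rw [map_mul, map_inv, ← mul_assoc, ← h1, mul_inv_cancel_right]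
    · rw [map_mul, map_inv, ← h1, mul_inv_cancel_right]
  have tt := h.tt
  have k2 : ∀ m n : H, t * (c * f m) ≠ f n := by
    intro m n h1
    apply (key m n).2.1
    rw [← h1, ← mul_assoc, tt, one_mul]
  rintro ⟨a, b, m⟩ ⟨a', b', m'⟩ he
  cases a <;> cases a' <;> cases b <;> cases b' <;>
    simp only [El, if_true, if_false, one_mul, Bool.false_eq_true] at he
  · rw [h.inj he]
  · exact absurd he.symm (key _ _).1
  · exact absurd he (key _ _).1
  · rw [h.inj (mul_left_cancel he)]
  · exact absurd he.symm (key _ _).2.2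
  · exact absurd he.symm (k2 _ _)
  · exact absurd he (key _ _).2.1
  · exfalso
    have h1 : f m = t * f m' := by
      apply mul_left_cancel (a := c)
      rw [he, ← mul_assoc t, ← h.ct, mul_assoc]
    exact (key m' m).2.2 h1.symm
  · exact absurd he (key _ _).2.2
  · exact absurd he.symm (key _ _).2.1
  · exact absurd he (k2 _ _)
  · exfalso
    have h1 : t * f m = f m' := by
      apply mul_left_cancel (a := c)
      rw [← he, ← mul_assoc c t, h.ct, mul_assoc]
    exact (key m m').2.2 h1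
  · rw [h.inj (mul_left_cancel he)]
  · exact absurd (mul_left_cancel he).symm (key _ _).1
  · exact absurd (mul_left_cancel he) (key _ _).1
  · rw [h.inj (mul_left_cancel (mul_left_cancel he))]

theorem El_surj (h : CtxO t c f) (g : G) (hg : g * t = t * g) : ∃ x, El t c f x = g := by
  obtain ⟨m, h1 | h1 | h1 | h1⟩ := h.cent g hg
  · exact ⟨(false, false, m), by simp [El, h1]⟩
  · exact ⟨(true, false, m), by simp [El, h1]⟩
  · exact ⟨(false, true, m), by simp [El, h1]⟩
  · exact ⟨(true, true, m), by simp [El, h1]⟩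

theorem card_pred (h : CtxO t c f) (P : G → Prop) (Q : H → Prop) (hPQ : ∀ x, P (El t c f x) ↔ Q x.2.2) :
    Nat.card {g : G // g * t = t * g ∧ P g} = 4 * Nat.card {m : H // Q m} := by
  have h1 : Nat.card {g : G // g * t = t * g ∧ P g} = Nat.card (Bool × Bool × {m : H // Q m}) := by
    symm
    apply Nat.card_congr
    refine Equiv.ofBijective (fun x => ⟨El t c f (x.1, x.2.1, x.2.2.1), El_comm h _, (hPQ _).2 x.2.2.2⟩) ⟨?_, ?_⟩
    · rintro ⟨a, b, m, hm⟩ ⟨a', b', m', hm'⟩ he
      have := El_inj h (congrArg Subtype.val he)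
      simp only [Prod.mk.injEq] at this
      obtain ⟨rfl, rfl, rfl⟩ := this
      rfl
    · rintro ⟨g, hg, hP⟩
      obtain ⟨⟨a, b, m⟩, rfl⟩ := El_surj h g hg
      exact ⟨(a, b, ⟨m, (hPQ _).1 hP⟩), rfl⟩
  rw [h1, Nat.card_prod, Nat.card_prod]
  simp only [Nat.card_eq_fintype_card, Fintype.card_bool]
  ring

theorem card_cent [Finite G] (h : CtxO t c f) : Nat.card (Subgroup.centralizer ({t} : Set G)) = 4 * 95040 := by
  have h1 := card_pred h (fun _ => True) (fun _ => True) (fun _ => Iff.rfl)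
  rw [Nat.card_congr (Equiv.subtypeUnivEquiv (fun _ : H => trivial)), card_H] at h1
  rw [← h1]
  apply Nat.card_congr
  refine Equiv.subtypeEquivRight (fun g => ?_)
  rw [Subgroup.mem_centralizer_singleton_iff, and_true]

/-! ### the fixed points of `alpha` -/

theorem w_mul_inv_comm (τ : Cfsg.Agent.SporRec.Co3.P5) : w τ * y = y * w τ := (y_comm τ).symm

theorem sigma_alt : ∀ σ : Cfsg.Agent.SporRec.Co3.P5,
    σ * (Equiv.swap 0 1 * Equiv.swap 1 2) = (Equiv.swap 0 1 * Equiv.swap 1 2) * σ →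
    σ * (Equiv.swap 1 2 * Equiv.swap 2 3) = (Equiv.swap 1 2 * Equiv.swap 2 3) * σ →
    σ * (Equiv.swap 2 3 * Equiv.swap 3 4) = (Equiv.swap 2 3 * Equiv.swap 3 4) * σ → σ = 1 := by
  decide +kernel

/-- the fixed points of `alpha` commuting with `y` -/
theorem fix_cent {m : H} (h1 : alpha m = m) (h2 : m * y = y * m) :
    ∃ σ, Equiv.Perm.sign σ = 1 ∧ (m = w σ ∨ m = y * w σ) := by
  obtain ⟨σ, hσ⟩ := cent_y m h2
  refine ⟨σ, ?_, hσ⟩
  rcases Int.units_eq_one_or (Equiv.Perm.sign σ) with h3 | h3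
  · exact h3
  exfalso
  rcases hσ with rfl | rfl
  · rw [alpha_odd h3] at h1
    exact y_ne_one (mul_eq_right.1 h1)
  · rw [map_mul, alpha_y, alpha_odd h3, ← mul_assoc, y_sq, one_mul] at h1
    exact y_ne_one (mul_eq_right.1 h1.symm)

theorem card_fix_cent : Nat.card {m : H // alpha m = m ∧ m * y = y * m} = 120 := by
  have h1 : Nat.card {m : H // alpha m = m ∧ m * y = y * m} = Nat.card (Bool × alternatingGroup (Fin 5)) := by
    symm
    apply Nat.card_congr
    refine Equiv.ofBijective (fun x => ⟨(if x.1 then y else 1) * w x.2.1, ?_, ?_⟩) ⟨?_, ?_⟩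
    · have h3 := alpha_even (Equiv.Perm.mem_alternatingGroup.1 x.2.2)
      rw [map_mul, h3]
      split_ifs
      · rw [alpha_y]
      · rw [map_one]
    · have h3 := y_comm x.2.1
      split_ifs
      · rw [mul_assoc, h3]
      · rw [one_mul, h3]
    · rintro ⟨a, σ, hσ⟩ ⟨a', σ', hσ'⟩ he
      have he' : (if a then y else 1) * w σ = (if a' then y else 1) * w σ' := congrArg Subtype.val he
      cases a <;> cases a' <;> simp only [Bool.false_eq_true, if_false, if_true, one_mul] at he'
      · have := w_injective he'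
        subst this
        rfl
      · exfalso
        apply y_ne_w (σ * σ'⁻¹)
        rw [map_mul, he', map_inv, mul_inv_cancel_right]
      · exfalso
        apply y_ne_w (σ' * σ⁻¹)
        rw [map_mul, ← he', map_inv, mul_inv_cancel_right]
      · have := w_injective (mul_left_cancel he')
        subst this
        rfl
    · rintro ⟨m, hm1, hm2⟩
      obtain ⟨σ, hs, rfl | rfl⟩ := fix_cent hm1 hm2
      · exact ⟨(false, ⟨σ, Equiv.Perm.mem_alternatingGroup.2 hs⟩), by simp⟩
      · exact ⟨(true, ⟨σ, Equiv.Perm.mem_alternatingGroup.2 hs⟩), by simp⟩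
  rw [h1, Nat.card_prod, Nat.card_eq_fintype_card, Fintype.card_bool, nat_card_alternatingGroup]
  simp [Nat.factorial]

/-- the subgroup of fixed points -/
def Fix : Subgroup H where
  carrier := {m | alpha m = m}
  one_mem' := map_one alpha
  mul_mem' := by
    intro a b ha hb
    show alpha (a * b) = a * b
    rw [map_mul, show alpha a = a from ha, show alpha b = b from hb]
  inv_mem' := by
    intro a ha
    show alpha a⁻¹ = a⁻¹
    rw [map_inv, show alpha a = a from ha]

theorem mem_Fix {m : H} : m ∈ Fix ↔ alpha m = m := Iff.rfl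

theorem card_fix_ne : Nat.card {m : H // alpha m = m} ≠ 240 := by
  intro h240
  let K : Subgroup H := Fix ⊓ Subgroup.centralizer {y}
  have hK : Nat.card K = 120 := by
    rw [← card_fix_cent]
    apply Nat.card_congr
    refine Equiv.subtypeEquivRight (fun m => ?_)
    rw [Subgroup.mem_inf, mem_Fix, Subgroup.mem_centralizer_singleton_iff]
  have hF : Nat.card Fix = 240 := h240
  have hidx : (K.subgroupOf Fix).index = 2 := by
    have h1 := (K.subgroupOf Fix).card_mul_index
    rw [Nat.card_congr (Subgroup.subgroupOfEquivOfLe inf_le_left).toEquiv, hK, hF] at h1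
    omega
  have hN : (K.subgroupOf Fix).Normal := Subgroup.normal_of_index_eq_two hidx
  have hle : Fix ≤ K := by
    intro n hn
    refine Subgroup.mem_inf.2 ⟨hn, ?_⟩
    rw [Subgroup.mem_centralizer_singleton_iff]
    have hyF : y ∈ Fix := alpha_y
    have hyK : y ∈ K := Subgroup.mem_inf.2 ⟨hyF, Subgroup.mem_centralizer_singleton_iff.2 rfl⟩
    have hconj : ∀ (g : H), g ∈ Fix → ∀ k ∈ K, g * k * g⁻¹ ∈ K := by
      intro g hg k hk
      have := hN.conj_mem ⟨k, (Subgroup.mem_inf.1 hk).1⟩ (Subgroup.mem_subgroupOf.2 hk) ⟨g, hg⟩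
      exact Subgroup.mem_subgroupOf.1 this
    have h1 := hconj n hn y hyK
    obtain ⟨h2, h3⟩ := Subgroup.mem_inf.1 h1
    rw [Subgroup.mem_centralizer_singleton_iff] at h3
    obtain ⟨σ, hs, hσ⟩ := fix_cent (mem_Fix.1 h2) h3
    -- `n y n⁻¹` is central in `K`
    have hcen : ∀ τ, Equiv.Perm.sign τ = 1 → (n * y * n⁻¹) * w τ = w τ * (n * y * n⁻¹) := by
      intro τ hτ
      have h4 : w τ ∈ K := Subgroup.mem_inf.2 ⟨mem_Fix.2 (alpha_even hτ),
        Subgroup.mem_centralizer_singleton_iff.2 (y_comm τ).symm⟩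
      have h5 := hconj n⁻¹ (Fix.inv_mem hn) _ h4
      have h6 := Subgroup.mem_centralizer_singleton_iff.1 (Subgroup.mem_inf.1 h5).2
      rw [inv_inv] at h6
      calc (n * y * n⁻¹) * w τ = n * (y * (n⁻¹ * w τ * n)) * n⁻¹ := by group
        _ = n * ((n⁻¹ * w τ * n) * y) * n⁻¹ := by rw [h6]
        _ = _ := by group
    have hστ : ∀ τ, Equiv.Perm.sign τ = 1 → σ * τ = τ * σ := by
      intro τ hτ
      have h4 := hcen τ hτ
      apply w_injective
      rw [map_mul, map_mul]
      rcases hσ with h5 | h5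
      · rw [h5] at h4; exact h4
      · rw [h5] at h4
        apply mul_left_cancel (a := y)
        rw [← mul_assoc, h4, ← mul_assoc, ← mul_assoc, y_comm]
    have hσ1 : σ = 1 := sigma_alt σ (hστ _ (by decide +kernel)) (hστ _ (by decide +kernel))
      (hστ _ (by decide +kernel))
    rw [hσ1, map_one, mul_one] at hσ
    rcases hσ with h5 | h5
    · exfalso
      apply y_ne_one
      calc y = n⁻¹ * (n * y * n⁻¹) * n := by group
        _ = 1 := by rw [h5]; group
    · exact mul_inv_eq_iff_eq_mul.1 h5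
  have h1 := Subgroup.card_le_of_le hle
  rw [hF, hK] at h1
  omega

end Cfsg.Agent.CoThreeStd.OutCtx
end

-- part: CoThreeStd/GammaCx
section
/-!
# S1750, pattern γ: the part of `Ctx` used for the relations (helper781)

It holds for `C_G(t) = ⟨t⟩ × M₁₂` and for `C_G(t) = ⟨t⟩ × M₁₂:2`.
-/

set_option autoImplicit false

namespace Cfsg.Agent.CoThreeStd.Gamma

open Cfsg.Agent.CoThreeStd.MTwelve Cfsg.Agent.CoThreeStd.Fusion Cfsg.Agent.SporRec.Co3

variable {G : Type*} [Group G]

/-- the context of the relations -/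
structure Cx (t : G) (f : H →* G) : Prop where
  inj : Function.Injective f
  tt : t * t = 1
  t_ne : t ≠ 1
  comm : ∀ m, f m * t = t * f m
  nmem : ∀ m, f m ≠ t
  cent2 : ∀ g, g * t = t * g → g * f y = f y * g → ∀ σ : P5, Equiv.Perm.sign σ = -1 →
    g * f (w σ) = f (w σ) * g → ∃ m, g = f m ∨ g = t * f m

variable {t : G} {f : H →* G}

theorem Cx.inv_t (c : Cx t f) : t⁻¹ = t := inv_eq_of_mul_eq_one_left c.tt

theorem toCx (c : Ctx t f) : Cx t f where
  inj := c.inj
  tt := c.tt
  t_ne := c.t_ne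
  comm := c.comm
  nmem := c.nmem
  cent2 := fun g h _ _ _ _ => c.cent g h

end Cfsg.Agent.CoThreeStd.Gamma
end

-- part: CoThreeStd/GammaEnd
section
/-!
# S1750, pattern γ: `C(t) = ⟨t⟩ × f(M₁₂)` is not the centraliser in a group without subgroups of index two when
`f(M₁₂)` is contained in a central product `A₁ A₁^t` (helper781)
-/

set_option autoImplicit false

namespace Cfsg.Agent.CoThreeStd.Gamma

open Cfsg.Agent.CoThreeStd.MTwelve Cfsg.Agent.CoThreeStd.Fusion Cfsg.Agent.CoThreeStd.Parity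

variable {G : Type*} [Group G] {t : G} {f : H →* G}

theorem center_trivial (n : H) (h : ∀ m : H, n * m = m * n) : n = 1 := by
  obtain ⟨σ, hσ⟩ := cent_y n (h y)
  have hσ1 : σ = 1 := by
    apply perm5_central
    intro τ
    apply w_injective
    rw [map_mul, map_mul]
    have h1 := h (w τ)
    rcases hσ with rfl | rfl
    · exact h1
    · apply mul_left_cancel (a := y)
      rw [← mul_assoc, h1, ← mul_assoc, ← mul_assoc, y_comm]
  rw [hσ1, map_one, mul_one] at hσ
  rcases hσ with h1 | h1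
  · exact h1
  · exfalso
    have h2 := h b
    rw [h1, ← wd_y, ← wd_b, ← wd_append, ← wd_append] at h2
    exact absurd (eqW_of_wd h2) (by decide +kernel)

/-- `A₁ A₁^t` -/
def prodT (c : Cx t f) (A1 : Subgroup G) (hcomm : ∀ a ∈ A1, ∀ b ∈ A1, Commute a (t * b * t)) : Subgroup G where
  carrier := {g | ∃ a ∈ A1, ∃ b ∈ A1, g = a * (t * b * t)}
  one_mem' := ⟨1, A1.one_mem, 1, A1.one_mem, by rw [mul_one, one_mul, c.tt]⟩
  mul_mem' := by
    rintro _ _ ⟨a, ha, b, hb, rfl⟩ ⟨a', ha', b', hb', rfl⟩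
    refine ⟨a * a', A1.mul_mem ha ha', b * b', A1.mul_mem hb hb', ?_⟩
    have h1 := (hcomm a' ha' b hb).eq
    calc a * (t * b * t) * (a' * (t * b' * t)) = a * ((t * b * t) * a') * (t * b' * t) := by group
      _ = a * (a' * (t * b * t)) * (t * b' * t) := by rw [h1]
      _ = a * a' * (t * b * (t * t) * b' * t) := by group
      _ = _ := by rw [c.tt]; group
  inv_mem' := by
    rintro _ ⟨a, ha, b, hb, rfl⟩
    refine ⟨a⁻¹, A1.inv_mem ha, b⁻¹, A1.inv_mem hb, ?_⟩
    have h1 := (hcomm _ (A1.inv_mem ha) _ (A1.inv_mem hb)).eq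
    rw [h1, mul_inv_rev]
    simp only [mul_inv_rev, c.inv_t, mul_assoc]

theorem mem_prodT (c : Cx t f) {A1 : Subgroup G} (hcomm : ∀ a ∈ A1, ∀ b ∈ A1, Commute a (t * b * t)) {g : G} :
    g ∈ prodT c A1 hcomm ↔ ∃ a ∈ A1, ∃ b ∈ A1, g = a * (t * b * t) := Iff.rfl

theorem final_kill [Finite G] (hG : ∀ K : Subgroup G, K.index ≠ 2) (c : Ctx t f) (A1 : Subgroup G)
    (hcomm : ∀ a ∈ A1, ∀ b ∈ A1, Commute a (t * b * t))
    (hf : ∀ m, ∃ a ∈ A1, ∃ b ∈ A1, f m = a * (t * b * t)) : False := by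
  classical
  have tt := c.tt
  have it := c.inv_t
  set B := prodT (toCx c) A1 hcomm with hB
  have hmemB : ∀ g, g ∈ B ↔ ∃ a ∈ A1, ∃ b ∈ A1, g = a * (t * b * t) := fun g => Iff.rfl
  have hA1B : ∀ a ∈ A1, a ∈ B := fun a ha => ⟨a, ha, 1, A1.one_mem, by rw [mul_one, tt, mul_one]⟩
  have hA2B : ∀ a ∈ A1, t * a * t ∈ B := fun a ha => ⟨1, A1.one_mem, a, ha, by rw [one_mul]⟩
  have hfB : ∀ m, f m ∈ B := fun m => hf m
  -- `t` is not in `B`
  have htB : t ∉ B := by
    rintro ⟨a, ha, b, hb, hab⟩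
    have h1 : ∀ x ∈ A1, t * x * t ∈ A1 := by
      intro x hx
      have h2 : t * x * t = a * x * a⁻¹ := by
        have h3 := (hcomm x hx b hb).eq
        calc t * x * t = t * x * t⁻¹ := by rw [it]
          _ = (a * (t * b * t)) * x * (a * (t * b * t))⁻¹ := by rw [← hab]
          _ = a * ((t * b * t) * x) * (t * b * t)⁻¹ * a⁻¹ := by group
          _ = a * (x * (t * b * t)) * (t * b * t)⁻¹ * a⁻¹ := by rw [h3]
          _ = _ := by group
      rw [h2]
      exact A1.mul_mem (A1.mul_mem ha hx) (A1.inv_mem ha)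
    have h2 : ∀ x ∈ A1, ∀ z ∈ A1, Commute x z := by
      intro x hx z hz
      have h3 := hcomm x hx _ (h1 z hz)
      have h4 : t * (t * z * t) * t = z := by
        calc t * (t * z * t) * t = (t * t) * z * (t * t) := by group
          _ = z := by rw [tt]; group
      rwa [h4] at h3
    have h3 : ∀ m, f m ∈ A1 := by
      intro m
      obtain ⟨x, hx, z, hz, h4⟩ := hf m
      rw [h4]
      exact A1.mul_mem hx (h1 z hz)
    have h4 := (h2 _ (h3 p) _ (h3 q)).eq
    rw [← map_mul, ← map_mul] at h4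
    have h5 := c.inj h4
    rw [← wd_p, ← wd_q, ← wd_append, ← wd_append] at h5
    exact absurd (eqW_of_wd h5) (by decide +kernel)
  -- `B` is normalised by `t`
  have htn : ∀ g ∈ B, t * g * t ∈ B := by
    rintro _ ⟨a, ha, b, hb, rfl⟩
    refine ⟨b, hb, a, ha, ?_⟩
    have h1 := (hcomm b hb a ha).eq
    calc t * (a * (t * b * t)) * t = (t * a * t) * (b * (t * t)) := by group
      _ = _ := by rw [tt, mul_one, h1]
  let G0 : Subgroup G :=
    { carrier := {g | g ∈ B ∨ t * g ∈ B}
      one_mem' := Or.inl B.one_mem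
      mul_mem' := by
        rintro g g' (h | h) (h' | h')
        · exact Or.inl (B.mul_mem h h')
        · right
          have := B.mul_mem (htn g h) h'
          have e : t * g * t * (t * g') = t * (g * g') := by
            calc t * g * t * (t * g') = t * g * (t * t) * g' := by group
              _ = _ := by rw [tt]; group
          rwa [e] at this
        · right
          have := B.mul_mem h h'
          rwa [mul_assoc] at this
        · left
          have := B.mul_mem (htn _ h) h'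
          have e : t * (t * g) * t * (t * g') = g * g' := by
            calc t * (t * g) * t * (t * g') = (t * t) * g * (t * t) * g' := by group
              _ = _ := by rw [tt]; group
          rwa [e] at this
      inv_mem' := by
        rintro g (h | h)
        · exact Or.inl (B.inv_mem h)
        · right
          have := htn _ (B.inv_mem h)
          have e : t * (t * g)⁻¹ * t = t * g⁻¹ := by
            rw [mul_inv_rev, it]
            calc t * (g⁻¹ * t) * t = t * g⁻¹ * (t * t) := by group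
              _ = _ := by rw [tt]; group
          rwa [e] at this }
  have hG0 : ∀ g, g ∈ G0 ↔ g ∈ B ∨ t * g ∈ B := fun g => Iff.rfl
  have hle : B ≤ G0 := fun g hg => Or.inl hg
  have htG0 : t ∈ G0 := Or.inr (by rw [tt]; exact B.one_mem)
  have hrel : B.relIndex G0 = 2 := by
    rw [Subgroup.relIndex, Subgroup.index_eq_two_iff]
    refine ⟨⟨t, htG0⟩, ?_⟩
    rintro ⟨g, hg⟩
    rw [Subgroup.mem_subgroupOf, Subgroup.mem_subgroupOf]
    show Xor (g * t ∈ B) (g ∈ B)
    rcases hg with h | h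
    · right
      refine ⟨h, fun h1 => htB ?_⟩
      have := B.mul_mem (B.inv_mem h) h1
      rwa [inv_mul_cancel_left] at this
    · left
      constructor
      · have := htn _ h
        have e : t * (t * g) * t = g * t := by
          calc t * (t * g) * t = (t * t) * g * t := by group
            _ = _ := by rw [tt, one_mul]
        rwa [e] at this
      · intro h1
        apply htB
        have := B.mul_mem h (B.inv_mem h1)
        rwa [mul_inv_cancel_right] at this
  have hcent : ∀ g, g * t = t * g → g ∈ G0 := by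
    intro g hg
    obtain ⟨m, rfl | rfl⟩ := c.cent g hg
    · exact Or.inl (hfB m)
    · right
      rw [← mul_assoc, tt, one_mul]
      exact hfB m
  -- elements of `A₁` inverted by `t`
  have hz : ∀ z ∈ A1, t * z * t = z⁻¹ → ∃ ω ∈ A1, ω⁻¹ * t * ω = t * z := by
    intro z hzA hzt
    have hpow : ∀ k : ℕ, t * z ^ k * t = (z ^ k)⁻¹ := by
      intro k
      induction k with
      | zero => rw [pow_zero, mul_one, tt, inv_one]
      | succ k ih =>
        calc t * z ^ (k + 1) * t = t * (z ^ k * z) * t := by rw [pow_succ]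
          _ = t * z ^ k * (t * t) * z * t := by rw [tt]; group
          _ = (t * z ^ k * t) * (t * z * t) := by group
          _ = (z ^ (k + 1))⁻¹ := by rw [ih, hzt]; group
    have hodd : Odd (orderOf z) := by
      rw [← Nat.not_even_iff_odd]
      intro hev
      obtain ⟨k, hk⟩ := hev
      have hpos : 0 < orderOf z := orderOf_pos z
      have hk0 : 0 < k := by omega
      set i := z ^ k with hi
      have hii : i * i = 1 := by rw [hi, ← pow_add, ← hk, pow_orderOf_eq_one]
      have hi1 : i ≠ 1 := pow_ne_one_of_lt_orderOf (by omega) (by omega)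
      have hiA : i ∈ A1 := A1.pow_mem hzA k
      have hit : t * i * t = i := by rw [hpow k, ← hi]; exact inv_eq_of_mul_eq_one_left hii
      have hic : i * t = t * i := by
        calc i * t = (t * i * t) * t := by rw [hit]
          _ = t * i * (t * t) := by group
          _ = _ := by rw [tt, mul_one]
      have hcom : ∀ g ∈ B, g * i = i * g := by
        rintro _ ⟨a, ha, b, hb, rfl⟩
        have h1 : a * i = i * a := by
          have := (hcomm a ha i hiA).eq
          rwa [hit] at this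
        have h2 : (t * b * t) * i = i * (t * b * t) := (hcomm i hiA b hb).eq.symm
        calc a * (t * b * t) * i = a * ((t * b * t) * i) := by group
          _ = (a * i) * (t * b * t) := by rw [h2]; group
          _ = _ := by rw [h1]; group
      obtain ⟨n, hn⟩ := c.cent i hic
      have hn1 : n = 1 := by
        apply center_trivial
        intro m
        apply c.inj
        rw [map_mul, map_mul]
        have h3 := hcom _ (hfB m)
        rcases hn with hn | hn
        · rw [← hn]; exact h3.symm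
        · apply mul_left_cancel (a := t)
          calc t * (f n * f m) = i * f m := by rw [hn]; group
            _ = f m * i := h3.symm
            _ = (f m * t) * f n := by rw [hn]; group
            _ = _ := by rw [c.comm]; group
      rw [hn1, map_one, mul_one] at hn
      rcases hn with hn | hn
      · exact hi1 hn
      · exact htB (by rw [← hn]; exact hA1B i hiA)
    obtain ⟨k, hk⟩ := hodd
    refine ⟨z ^ (k + 1), A1.pow_mem hzA _, ?_⟩
    have h1 : z ^ (k + 1) * z ^ (k + 1) = z := by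
      rw [← pow_add, show k + 1 + (k + 1) = (2 * k + 1) + 1 by ring, pow_succ, ← hk, pow_orderOf_eq_one,
        one_mul]
    have h2 := hpow (k + 1)
    calc (z ^ (k + 1))⁻¹ * t * z ^ (k + 1) = (z ^ (k + 1))⁻¹ * (t * z ^ (k + 1) * t) * t⁻¹ := by group
      _ = (z ^ (k + 1) * z ^ (k + 1))⁻¹ * t⁻¹ := by rw [h2]; group
      _ = (t * z * t) * t := by rw [h1, it, hzt]
      _ = t * z * (t * t) := by group
      _ = _ := by rw [tt, mul_one]
  -- every conjugate of `t` in `G₀ ∖ B` is `B`-conjugate to `t`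
  have hfus : ∀ h, h ∈ G0 → h ∉ B → IsConj t h → ∃ x ∈ B, x⁻¹ * t * x = h := by
    intro h hh hhB hcj
    have h1 : t * h ∈ B := by
      rcases hh with h1 | h1
      · exact absurd h1 hhB
      · exact h1
    obtain ⟨a, ha, b, hb, hab⟩ := h1
    have hh2 : h * h = 1 := by
      obtain ⟨k, hk⟩ := isConj_iff.1 hcj
      rw [← hk]
      calc k * t * k⁻¹ * (k * t * k⁻¹) = k * (t * t) * k⁻¹ := by group
        _ = 1 := by rw [tt]; group
    have hhe : h = t * (a * (t * b * t)) := by rw [← hab, ← mul_assoc, tt, one_mul]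
    set x := t * b * t with hx
    have hxh : x * h * x⁻¹ = t * (b * a) := by
      calc x * h * x⁻¹ = x * t * a := by rw [hhe]; group
        _ = t * b * (t * t) * a := by rw [hx]; group
        _ = _ := by rw [tt]; group
    have hsq : (t * (b * a)) * (t * (b * a)) = 1 := by
      rw [← hxh]
      calc x * h * x⁻¹ * (x * h * x⁻¹) = x * (h * h) * x⁻¹ := by group
        _ = 1 := by rw [hh2]; group
    obtain ⟨ω, hω, hω2⟩ := hz (b * a) (A1.mul_mem hb ha)
      (eq_inv_of_mul_eq_one_left (by rw [← hsq]; group))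
    refine ⟨ω * x, B.mul_mem (hA1B _ hω) (hA2B _ hb), ?_⟩
    calc (ω * x)⁻¹ * t * (ω * x) = x⁻¹ * (ω⁻¹ * t * ω) * x := by group
      _ = x⁻¹ * (x * h * x⁻¹) * x := by rw [hω2, hxh]
      _ = h := by group
  -- the count
  have hN : ∀ g ∈ G0, g⁻¹ * t * g ∉ B := by
    intro g hg h1
    apply htB
    rcases hg with h2 | h2
    · have := B.mul_mem (B.mul_mem h2 h1) (B.inv_mem h2)
      have e : g * (g⁻¹ * t * g) * g⁻¹ = t := by group
      rwa [e] at this
    · have h3 := B.mul_mem (B.mul_mem h2 h1) (B.inv_mem h2)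
      have e : t * g * (g⁻¹ * t * g) * (t * g)⁻¹ = t := by group
      rwa [e] at h3
  have hdvd := two_mul_card_dvd hG hle hrel t tt
  rw [← card_conj_eq t (fun h => h ∈ G0 ∧ h ∉ B)] at hdvd
  have hcard : Nat.card {g : G // g⁻¹ * t * g ∈ G0 ∧ g⁻¹ * t * g ∉ B} = Nat.card G0 := by
    apply Nat.card_congr
    refine Equiv.subtypeEquivRight (fun g => ?_)
    constructor
    · rintro ⟨h1, h2⟩
      obtain ⟨x, hx, h3⟩ := hfus _ h1 h2 (isConj_iff.2 ⟨g⁻¹, by group⟩)
      have h4 : g * x⁻¹ ∈ G0 := by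
        apply hcent
        have h5 : (g * x⁻¹)⁻¹ * t * (g * x⁻¹) = t := by
          calc (g * x⁻¹)⁻¹ * t * (g * x⁻¹) = x * (g⁻¹ * t * g) * x⁻¹ := by group
            _ = t := by rw [← h3]; group
        calc g * x⁻¹ * t = g * x⁻¹ * ((g * x⁻¹)⁻¹ * t * (g * x⁻¹)) := by rw [h5]
          _ = _ := by group
      have := G0.mul_mem h4 (hle hx)
      rwa [inv_mul_cancel_right] at this
    · intro hg
      exact ⟨G0.mul_mem (G0.mul_mem (G0.inv_mem hg) htG0) hg, hN g hg⟩
  rw [hcard] at hdvd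
  have hpos : 0 < Nat.card G0 := Nat.card_pos
  have := Nat.le_of_dvd hpos hdvd
  omega

end Cfsg.Agent.CoThreeStd.Gamma
end

-- part: CoThreeStd/GammaBase
section
/-!
# S1750, pattern γ, first step (helper781)

`C_G(t) = ⟨t⟩ × f(M₁₂)`, `t ~ t y` with `y ∈ 2A`, `t` not conjugate into `f(M₁₂)`. Then there is an involution `g`
with `g t g⁻¹ = t y` commuting with `f(C(y))` (`exists_g`).
-/

set_option autoImplicit false

namespace Cfsg.Agent.CoThreeStd.Gamma

open Cfsg.Agent.CoThreeStd.MTwelve Cfsg.Agent.CoThreeStd.Fusion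

variable {G : Type*} [Group G] {t : G} {f : H →* G}

/-- `C(t) ∩ C(t f m)` has order `2 |C(m)|`. -/
theorem card_cc (c : Ctx t f) (m : H) :
    Nat.card {g : G // g * t = t * g ∧ g * (t * f m) = (t * f m) * g} =
      Nat.card (Subgroup.centralizer {m} : Subgroup H) + Nat.card (Subgroup.centralizer {m} : Subgroup H) := by
  have hfin : Finite (Subgroup.centralizer {m} : Subgroup H) := inferInstance
  rw [← Nat.card_sum]
  symm
  apply Nat.card_congr
  have hm : ∀ n : (Subgroup.centralizer {m} : Subgroup H), f n.1 * (t * f m) = (t * f m) * f n.1 := by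
    intro n
    have h1 := Subgroup.mem_centralizer_singleton_iff.1 n.2
    calc f n.1 * (t * f m) = (f n.1 * t) * f m := by group
      _ = t * (f (n.1 * m)) := by rw [c.comm, map_mul]; group
      _ = t * f (m * n.1) := by rw [h1]
      _ = _ := by rw [map_mul]; group
  have ht : t * (t * f m) = t * f m * t := by rw [mul_assoc t (f m) t, c.comm]
  refine Equiv.ofBijective (fun x => Sum.elim (fun n => ⟨f n.1, c.comm n.1, hm n⟩)
    (fun n => ⟨t * f n.1, ?_, ?_⟩) x) ⟨?_, ?_⟩
  · rw [mul_assoc, c.comm]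
  · calc t * f n.1 * (t * f m) = t * (f n.1 * (t * f m)) := by group
      _ = t * ((t * f m) * f n.1) := by rw [hm]
      _ = (t * (t * f m)) * f n.1 := by group
      _ = (t * f m * t) * f n.1 := by rw [ht]
      _ = _ := by group
  · rintro (a | a) (b | b) h
    · exact congrArg _ (Subtype.ext (c.inj (congrArg Subtype.val h)))
    · exfalso
      have h1 : f a.1 = t * f b.1 := congrArg Subtype.val h
      exact c.nmem (a.1 * b.1⁻¹) (by rw [map_mul, map_inv, h1, mul_inv_cancel_right])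
    · exfalso
      have h1 : t * f a.1 = f b.1 := congrArg Subtype.val h
      exact c.nmem (b.1 * a.1⁻¹) (by rw [map_mul, map_inv, ← h1, mul_inv_cancel_right])
    · exact congrArg _ (Subtype.ext (c.inj (mul_left_cancel (congrArg Subtype.val h : t * f a.1 = t * f b.1))))
  · rintro ⟨g, hg, hg2⟩
    obtain ⟨n, hn⟩ := c.cent g hg
    have hn2 : f n * (t * f m) = (t * f m) * f n := by
      rcases hn with rfl | rfl
      · exact hg2
      · have h1 : t * (f n * (t * f m)) = t * ((t * f m) * f n) := by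
          calc t * (f n * (t * f m)) = t * f n * (t * f m) := by group
            _ = t * f m * (t * f n) := hg2
            _ = (t * f m * t) * f n := by group
            _ = (t * (t * f m)) * f n := by rw [ht]
            _ = _ := by group
        exact mul_left_cancel h1
    have hn3 : n ∈ (Subgroup.centralizer {m} : Subgroup H) := by
      rw [Subgroup.mem_centralizer_singleton_iff]
      apply c.inj
      rw [map_mul, map_mul]
      apply mul_left_cancel (a := t)
      calc t * (f n * f m) = (t * f n) * f m := by group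
        _ = f n * (t * f m) := by rw [← c.comm]; group
        _ = (t * f m) * f n := hn2
        _ = _ := by group
    rcases hn with rfl | rfl
    · exact ⟨Sum.inl ⟨n, hn3⟩, rfl⟩
    · exact ⟨Sum.inr ⟨n, hn3⟩, rfl⟩

theorem conj_of_class {g₀ : G} {e m : H} (h : IsConj g₀ (f m)) (he : ∃ n, n⁻¹ * e * n = m) :
    IsConj g₀ (f e) := by
  obtain ⟨n, rfl⟩ := he
  refine h.trans (isConj_iff.2 ⟨f n, ?_⟩)
  rw [map_mul, map_mul, map_inv]
  group

theorem conj_t_class (c : Ctx t f) {e m : H} (h : IsConj t (t * f e)) (he : ∃ n, n⁻¹ * e * n = m) :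
    IsConj t (t * f m) := by
  obtain ⟨n, rfl⟩ := he
  refine h.trans (isConj_iff.2 ⟨(f n)⁻¹, ?_⟩)
  rw [map_mul, map_mul, map_inv]
  have h1 : (f n)⁻¹ * t = t * (f n)⁻¹ := by rw [← map_inv]; exact c.comm _
  calc (f n)⁻¹ * (t * f e) * (f n)⁻¹⁻¹ = ((f n)⁻¹ * t) * f e * f n := by group
    _ = (t * (f n)⁻¹) * f e * f n := by rw [h1]
    _ = _ := by group

theorem exists_swap_t [Finite G] (c : Ctx t f) (h1 : IsConj t (t * f y)) (h2 : ¬ IsConj t (f y))
    (h3 : ¬ IsConj t (f (p * r))) :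
    ∃ x : G, x * t * x⁻¹ = t * f y ∧ x * f y * x⁻¹ = f y := by
  obtain ⟨x, hx⟩ := isConj_iff.1 h1
  set t' := x⁻¹ * t * x with ht'
  have hxt' : x * t' * x⁻¹ = t := by rw [ht']; group
  have hcomm : t' * t = t * t' := by
    have h4 : x * (t' * t) * x⁻¹ = x * (t * t') * x⁻¹ := by
      calc x * (t' * t) * x⁻¹ = (x * t' * x⁻¹) * (x * t * x⁻¹) := by group
        _ = t * (t * f y) := by rw [hxt', hx]
        _ = t * (f y * t) := by rw [c.comm]
        _ = (t * f y) * t := by group
        _ = (x * t * x⁻¹) * (x * t' * x⁻¹) := by rw [hxt', hx]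
        _ = _ := by group
    exact mul_left_cancel (mul_right_cancel h4)
  have hcj : IsConj t t' := isConj_iff.2 ⟨x⁻¹, by rw [ht']; group⟩
  have hsq : t' * t' = 1 := by
    calc t' * t' = x⁻¹ * (t * t) * x := by rw [ht']; group
      _ = 1 := by rw [c.tt]; group
  obtain ⟨m, hm⟩ := c.cent t' hcomm
  have hm1 : m ≠ 1 := by
    rintro rfl
    rw [map_one, mul_one] at hm
    rcases hm with hm | hm
    · rw [hm] at hcj
      exact c.t_ne (isConj_one_left.1 hcj)
    · rw [hm] at hxt'
      rw [hxt'] at hx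
      have h5 : f y = f 1 := by rw [map_one]; exact mul_left_cancel (hx.symm.trans (mul_one t).symm)
      exact y_ne_one (c.inj h5)
  have hmm : m * m = 1 := by
    apply c.inj
    rw [map_mul, map_one]
    rcases hm with hm | hm
    · rw [← hm]; exact hsq
    · rw [hm] at hsq
      calc f m * f m = t * t * (f m * f m) := by rw [c.tt, one_mul]
        _ = t * (t * f m) * f m := by group
        _ = t * (f m * t) * f m := by rw [c.comm]
        _ = (t * f m) * (t * f m) := by group
        _ = 1 := hsq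
  rcases hm with hm | hm
  · exfalso
    rw [hm] at hcj
    rcases inv_class m hm1 hmm with h | h
    · exact h2 (conj_of_class hcj h)
    · exact h3 (conj_of_class hcj h)
  -- the cardinalities
  have hcard : Nat.card {g : G // g * t = t * g ∧ g * (t * f m) = (t * f m) * g} =
      Nat.card {g : G // g * t = t * g ∧ g * (t * f y) = (t * f y) * g} := by
    have hx' : x * (t * f m) * x⁻¹ = t := by rw [← hm]; exact hxt'
    have hc : ∀ (g a b : G), x * a * x⁻¹ = b → (g * a = a * g ↔ (x * g * x⁻¹) * b = b * (x * g * x⁻¹)) := by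
      rintro g a b rfl
      have e1 : (x * g * x⁻¹) * (x * a * x⁻¹) = x * (g * a) * x⁻¹ := by group
      have e2 : (x * a * x⁻¹) * (x * g * x⁻¹) = x * (a * g) * x⁻¹ := by group
      rw [e1, e2]
      constructor
      · intro h; rw [h]
      · intro h; exact mul_left_cancel (mul_right_cancel h)
    apply Nat.card_congr
    refine Equiv.subtypeEquiv (MulAut.conj x).toEquiv (fun g => ?_)
    show g * t = t * g ∧ g * (t * f m) = (t * f m) * g ↔
      (x * g * x⁻¹) * t = t * (x * g * x⁻¹) ∧ (x * g * x⁻¹) * (t * f y) = (t * f y) * (x * g * x⁻¹)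
    rw [hc g t _ hx, hc g _ _ hx', and_comm]
  rw [card_cc c, card_cc c, card_cent_y] at hcard
  obtain ⟨n, hn⟩ := conj_of_card m hm1 hmm (by omega)
  have hnt : (f n)⁻¹ * t = t * (f n)⁻¹ := by rw [← map_inv]; exact c.comm _
  have e1 : (x * (f n)⁻¹) * t * (x * (f n)⁻¹)⁻¹ = t * f y := by
    calc (x * (f n)⁻¹) * t * (x * (f n)⁻¹)⁻¹ = x * ((f n)⁻¹ * t) * f n * x⁻¹ := by group
      _ = x * t * x⁻¹ := by rw [hnt]; group
      _ = _ := hx
  have e2 : (x * (f n)⁻¹) * (t * f y) * (x * (f n)⁻¹)⁻¹ = t := by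
    calc (x * (f n)⁻¹) * (t * f y) * (x * (f n)⁻¹)⁻¹ = x * (((f n)⁻¹ * t) * f y * f n) * x⁻¹ := by group
      _ = x * (t * f (n⁻¹ * y * n)) * x⁻¹ := by rw [hnt, map_mul, map_mul, map_inv]; group
      _ = x * t' * x⁻¹ := by rw [hn, hm]
      _ = t := hxt'
  refine ⟨x * (f n)⁻¹, e1, ?_⟩
  set z := x * (f n)⁻¹
  calc z * f y * z⁻¹ = z * (t * (t * f y)) * z⁻¹ := by rw [← mul_assoc t t, c.tt, one_mul]
    _ = (z * t * z⁻¹) * (z * (t * f y) * z⁻¹) := by group
    _ = (t * f y) * t := by rw [e1, e2]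
    _ = t * (f y * t) := by group
    _ = t * (t * f y) := by rw [c.comm]
    _ = f y := by rw [← mul_assoc, c.tt, one_mul]

end Cfsg.Agent.CoThreeStd.Gamma
end

-- part: CoThreeStd/GammaAut
section
/-!
# S1750, pattern γ, the element `g` (helper781)
-/

set_option autoImplicit false

namespace Cfsg.Agent.CoThreeStd.Gamma

open Cfsg.Agent.CoThreeStd.MTwelve Cfsg.Agent.CoThreeStd.Fusion Cfsg.Agent.SporRec.Co3

variable {G : Type*} [Group G] {t : G} {f : H →* G}

/-- The four-group `⟨t, y⟩`. -/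
def inV (t : G) (f : H →* G) (v : G) : Prop := ∃ i j : ℕ, v = t ^ i * f y ^ j

theorem inV_one : inV t f 1 := ⟨0, 0, by simp⟩

theorem inV_mul (c : Cx t f) {u v : G} (hu : inV t f u) (hv : inV t f v) : inV t f (u * v) := by
  obtain ⟨i, j, rfl⟩ := hu
  obtain ⟨k, l, rfl⟩ := hv
  have h : Commute (f y) t := c.comm y
  have h1 : f y ^ j * t ^ k = t ^ k * f y ^ j := h.pow_pow j k
  refine ⟨i + k, j + l, ?_⟩
  calc t ^ i * f y ^ j * (t ^ k * f y ^ l) = t ^ i * (f y ^ j * t ^ k) * f y ^ l := by group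
    _ = t ^ i * (t ^ k * f y ^ j) * f y ^ l := by rw [h1]
    _ = _ := by rw [pow_add, pow_add]; group

theorem inV_comm_w (c : Cx t f) {u : G} (hu : inV t f u) (σ : P5) : u * f (w σ) = f (w σ) * u := by
  obtain ⟨i, j, rfl⟩ := hu
  have h1 : Commute t (f (w σ)) := (c.comm _).symm
  have h2 : Commute (f y) (f (w σ)) := by
    show f y * f (w σ) = f (w σ) * f y
    rw [← map_mul, y_comm, map_mul]
  exact (h1.pow_left i).mul_left (h2.pow_left j)

theorem inV_comm (c : Cx t f) {u v : G} (hu : inV t f u) (hv : inV t f v) : u * v = v * u := by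
  obtain ⟨i, j, rfl⟩ := hu
  obtain ⟨k, l, rfl⟩ := hv
  have h : Commute (f y) t := c.comm y
  exact (((Commute.refl t).pow_pow i k).mul_right (h.symm.pow_pow i l)).mul_left
    ((h.pow_pow j k).mul_right ((Commute.refl (f y)).pow_pow j l))

theorem inV_sq (c : Cx t f) {u : G} (hu : inV t f u) : u * u = 1 := by
  have h : Commute (f y) t := c.comm y
  obtain ⟨i, j, rfl⟩ := hu
  have h1 : f y ^ j * t ^ i = t ^ i * f y ^ j := h.pow_pow j i
  calc t ^ i * f y ^ j * (t ^ i * f y ^ j) = t ^ i * (f y ^ j * t ^ i) * f y ^ j := by group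
    _ = t ^ i * (t ^ i * f y ^ j) * f y ^ j := by rw [h1]
    _ = (t * t) ^ i * (f y * f y) ^ j := by
      rw [(Commute.refl t).mul_pow, (Commute.refl (f y)).mul_pow]; group
    _ = 1 := by rw [c.tt, ← map_mul, y_sq, map_one, one_pow, one_pow, one_mul]

theorem pow_two_cases {K : Type*} [Group K] {a : K} (ha : a * a = 1) (i : ℕ) : a ^ i = 1 ∨ a ^ i = a := by
  rcases Nat.even_or_odd' i with ⟨k, rfl | rfl⟩
  · left; rw [pow_mul, pow_two, ha, one_pow]
  · right; rw [pow_succ, pow_mul, pow_two, ha, one_pow, one_mul]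

theorem inV_cases (c : Cx t f) {u : G} (hu : inV t f u) : u = 1 ∨ u = t ∨ u = f y ∨ u = t * f y := by
  obtain ⟨i, j, rfl⟩ := hu
  have hy : f y * f y = 1 := by rw [← map_mul, y_sq, map_one]
  rcases pow_two_cases c.tt i with h1 | h1 <;> rcases pow_two_cases hy j with h2 | h2 <;> rw [h1, h2] <;> simp

theorem inV_w (c : Cx t f) {σ : P5} (h : inV t f (f (w σ))) : σ = 1 := by
  rcases inV_cases c h with h1 | h1 | h1 | h1
  · apply w_injective
    apply c.inj
    rw [h1, map_one, map_one]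
  · exact absurd h1 (c.nmem _)
  · exact absurd (c.inj h1).symm (y_ne_w σ)
  · exfalso
    apply c.nmem (w σ * y⁻¹)
    rw [map_mul, h1, map_inv, mul_inv_cancel_right]

theorem uniq (c : Cx t f) {u v : G} (hu : inV t f u) (hv : inV t f v) {σ τ : P5}
    (h : u * f (w σ) = v * f (w τ)) : u = v ∧ σ = τ := by
  have h1 : f (w (σ * τ⁻¹)) = u * v := by
    rw [map_mul, map_mul, map_inv, map_inv]
    have e : f (w σ) = u * (v * f (w τ)) := by
      rw [← h, ← mul_assoc, inV_sq c hu, one_mul]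
    rw [e]; group
  have h2 : σ * τ⁻¹ = 1 := by
    apply inV_w c
    rw [h1]
    exact inV_mul c hu hv
  have h3 : σ = τ := mul_inv_eq_one.1 h2
  subst h3
  exact ⟨mul_right_cancel h, rfl⟩

/-- `C(t) ∩ C(y) = ⟨t, y⟩ × S₅`. -/
theorem decomp (c : Ctx t f) {z : G} (h1 : z * t = t * z) (h2 : z * f y = f y * z) :
    ∃ σ u, inV t f u ∧ z = u * f (w σ) := by
  obtain ⟨m, hm⟩ := c.cent z h1
  have hmy : m * y = y * m := by
    apply c.inj
    rw [map_mul, map_mul]
    rcases hm with rfl | rfl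
    · exact h2
    · apply mul_left_cancel (a := t)
      calc t * (f m * f y) = t * f m * f y := by group
        _ = f y * (t * f m) := h2
        _ = (f y * t) * f m := by group
        _ = (t * f y) * f m := by rw [c.comm]
        _ = _ := by group
  obtain ⟨σ, h3⟩ := cent_y m hmy
  rcases hm with rfl | rfl <;> rcases h3 with rfl | rfl
  · exact ⟨σ, 1, inV_one, by rw [one_mul]⟩
  · exact ⟨σ, f y, ⟨0, 1, by simp⟩, by rw [map_mul]⟩
  · exact ⟨σ, t, ⟨1, 0, by simp⟩, rfl⟩
  · exact ⟨σ, t * f y, ⟨1, 1, by simp⟩, by rw [map_mul]; group⟩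

/-- `C(t) ∩ C(y) = ⟨t, y⟩ × S₅` on elements commuting with an odd element. -/
theorem decomp2 (c : Cx t f) {z : G} (h1 : z * t = t * z) (h2 : z * f y = f y * z) {τ : P5}
    (hτ : Equiv.Perm.sign τ = -1) (h3 : z * f (w τ) = f (w τ) * z) :
    ∃ σ u, inV t f u ∧ z = u * f (w σ) := by
  obtain ⟨m, hm⟩ := c.cent2 z h1 h2 τ hτ h3
  have hmy : m * y = y * m := by
    apply c.inj
    rw [map_mul, map_mul]
    rcases hm with rfl | rfl
    · exact h2
    · apply mul_left_cancel (a := t)
      calc t * (f m * f y) = t * f m * f y := by group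
        _ = f y * (t * f m) := h2
        _ = (f y * t) * f m := by group
        _ = (t * f y) * f m := by rw [c.comm]
        _ = _ := by group
  obtain ⟨σ, h4⟩ := cent_y m hmy
  rcases hm with rfl | rfl <;> rcases h4 with rfl | rfl
  · exact ⟨σ, 1, inV_one, by rw [one_mul]⟩
  · exact ⟨σ, f y, ⟨0, 1, by simp⟩, by rw [map_mul]⟩
  · exact ⟨σ, t, ⟨1, 0, by simp⟩, rfl⟩
  · exact ⟨σ, t * f y, ⟨1, 1, by simp⟩, by rw [map_mul]; group⟩

/-- the word `d` -/
def wdD : List ℕ := [2, 5, 0, 5, 4, 3, 5, 0, 5, 1]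

theorem d_y : (wd wdD)⁻¹ * y * wd wdD = s := by
  rw [← wd_y, ← wd_cj, ← wd_s]
  exact wd_eq (by decide +kernel)

theorem d_s : (wd wdD)⁻¹ * s * wd wdD = y * s := by
  rw [← wd_s, ← wd_cj, ← wd_y, ← wd_append]
  exact wd_eq (by decide +kernel)

theorem d_ys : (wd wdD)⁻¹ * (y * s) * wd wdD = y := by
  rw [← wd_s, ← wd_y, ← wd_append, ← wd_cj]
  exact wd_eq (by decide +kernel)

theorem s_sq : s * s = 1 := gen_sq 4

theorem ys_comm : y * s = s * y := by rw [← w_s, y_comm]

/-- `yp` is in the class of `y` -/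
theorem yp_class : ∃ n, n⁻¹ * y * n = y * p := by
  refine ⟨wd [5, 0, 1, 2, 5, 1, 5], ?_⟩
  rw [← wd_p, ← wd_y, ← wd_append, ← wd_cj]
  exact wd_eq (by decide +kernel)

theorem p_class : ∃ n, n⁻¹ * y * n = p := by
  refine ⟨wd [5, 1, 5, 2, 3, 5, 2], ?_⟩
  rw [← wd_p, ← wd_y, ← wd_cj]
  exact wd_eq (by decide +kernel)

/-- there is no `m` commuting with `y` and exchanging `s` and `ys` -/
theorem no_twist (m : H) (h1 : m * y = y * m) (h2 : m * s * m⁻¹ = y * s) : False := by
  obtain ⟨σ, h3⟩ := cent_y m h1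
  have h4 : m * s * m⁻¹ = w (σ * Equiv.swap 3 4 * σ⁻¹) := by
    rw [map_mul, map_mul, map_inv, w_s]
    rcases h3 with rfl | rfl
    · rfl
    · calc y * w σ * s * (y * w σ)⁻¹ = y * (w σ * s * (w σ)⁻¹) * y⁻¹ := by group
        _ = y * w (σ * Equiv.swap 3 4 * σ⁻¹) * y⁻¹ := by rw [map_mul, map_mul, map_inv, w_s]
        _ = w (σ * Equiv.swap 3 4 * σ⁻¹) := by rw [y_comm]; group
        _ = _ := by rw [map_mul, map_mul, map_inv, w_s]
  apply y_ne_w (σ * Equiv.swap 3 4 * σ⁻¹ * (Equiv.swap 3 4)⁻¹)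
  rw [map_mul, ← h4, h2, map_inv, w_s, mul_inv_cancel_right]

/-- conjugation by elements of `C(t)` on `f H` -/
theorem cent_act (c : Ctx t f) {k : G} (hk : k * t = t * k) : ∃ m : H, ∀ n, k * f n * k⁻¹ = f (m * n * m⁻¹) := by
  obtain ⟨m, hm⟩ := c.cent k hk
  refine ⟨m, fun n => ?_⟩
  rcases hm with rfl | rfl
  · rw [map_mul, map_mul, map_inv]
  · calc t * f m * f n * (t * f m)⁻¹ = t * (f m * f n * (f m)⁻¹) * t⁻¹ := by group
      _ = t * f (m * n * m⁻¹) * t⁻¹ := by rw [map_mul, map_mul, map_inv]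
      _ = f (m * n * m⁻¹) * t * t⁻¹ := by rw [c.comm]
      _ = _ := by group

theorem kill_twist (c : Ctx t f) {x : G} (h1 : x * t * x⁻¹ = t * f y) (h2 : x * f y * x⁻¹ = f y)
    (h3 : x * f s * x⁻¹ = f y * f s) : False := by
  set d := wd wdD
  set x2 := (f d)⁻¹ * x * f d with hx2
  have hdt : ∀ g : G, (f d)⁻¹ * (t * g) * f d = t * ((f d)⁻¹ * g * f d) := by
    intro g
    have : (f d)⁻¹ * t = t * (f d)⁻¹ := by rw [← map_inv]; exact c.comm _
    calc (f d)⁻¹ * (t * g) * f d = ((f d)⁻¹ * t) * g * f d := by group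
      _ = _ := by rw [this]; group
  have hd : ∀ n, (f d)⁻¹ * f n * f d = f (d⁻¹ * n * d) := by intro n; rw [map_mul, map_mul, map_inv]
  -- the action of `x2`
  have ey : f y = (f d)⁻¹ * (f y * f s) * f d := by rw [← map_mul, hd, d_ys]
  have es : f s = (f d)⁻¹ * f y * f d := by rw [hd, d_y]
  have eys : f y * f s = (f d)⁻¹ * f s * f d := by rw [hd, d_s, map_mul]
  have hcx : ∀ g : G, x2 * ((f d)⁻¹ * g * f d) * x2⁻¹ = (f d)⁻¹ * (x * g * x⁻¹) * f d := by
    intro g; rw [hx2]; group
  have hyy : f y * f y = 1 := by rw [← map_mul, y_sq, map_one]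
  have hss : f s * f s = 1 := by rw [← map_mul, s_sq, map_one]
  have hys : f y * f s = f s * f y := by rw [← map_mul, ys_comm, map_mul]
  have a1 : x * (f y * f s) * x⁻¹ = f s := by
    calc x * (f y * f s) * x⁻¹ = (x * f y * x⁻¹) * (x * f s * x⁻¹) := by group
      _ = (f y * f y) * f s := by rw [h2, h3]; group
      _ = f s := by rw [hyy, one_mul]
  have b0 : x2 * t * x2⁻¹ = t * f s := by
    have e : t = (f d)⁻¹ * (t * 1) * f d := by rw [hdt]; group
    calc x2 * t * x2⁻¹ = x2 * ((f d)⁻¹ * (t * 1) * f d) * x2⁻¹ := by rw [← e]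
      _ = (f d)⁻¹ * (x * t * x⁻¹) * f d := by rw [hcx, mul_one]
      _ = t * f s := by rw [h1, hdt, ← es]
  have b1 : x2 * f s * x2⁻¹ = f s := by
    calc x2 * f s * x2⁻¹ = x2 * ((f d)⁻¹ * f y * f d) * x2⁻¹ := by rw [← es]
      _ = f s := by rw [hcx, h2, ← es]
  have b2 : x2 * (f y * f s) * x2⁻¹ = f y := by
    calc x2 * (f y * f s) * x2⁻¹ = x2 * ((f d)⁻¹ * f s * f d) * x2⁻¹ := by rw [← eys]
      _ = f y := by rw [hcx, h3, ← ey]
  have b3 : x2 * f y * x2⁻¹ = f y * f s := by
    calc x2 * f y * x2⁻¹ = x2 * ((f y * f s) * f s) * x2⁻¹ := by rw [mul_assoc (f y), hss, mul_one]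
      _ = (x2 * (f y * f s) * x2⁻¹) * (x2 * f s * x2⁻¹) := by group
      _ = f y * f s := by rw [b1, b2]
  -- `k = x x2 x`
  set k := x * x2 * x with hk
  have hcomp : ∀ g : G, k * g * k⁻¹ = x * (x2 * (x * g * x⁻¹) * x2⁻¹) * x⁻¹ := by intro g; rw [hk]; group
  have k0 : k * t * k⁻¹ = t := by
    rw [hcomp, h1]
    have e : x2 * (t * f y) * x2⁻¹ = t * f y := by
      calc x2 * (t * f y) * x2⁻¹ = (x2 * t * x2⁻¹) * (x2 * f y * x2⁻¹) := by group
        _ = t * (f s * (f y * f s)) := by rw [b0, b3]; group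
        _ = t * f y := by rw [hys, ← mul_assoc (f s), hss, one_mul]
    rw [e]
    calc x * (t * f y) * x⁻¹ = (x * t * x⁻¹) * (x * f y * x⁻¹) := by group
      _ = t * (f y * f y) := by rw [h1, h2]; group
      _ = t := by rw [hyy, mul_one]
  have k1 : k * f y * k⁻¹ = f s := by rw [hcomp, h2, b3, a1]
  have k2 : k * f s * k⁻¹ = f y := by rw [hcomp, h3, b2, h2]
  obtain ⟨m, hm⟩ := cent_act c (show k * t = t * k by rw [← mul_inv_eq_iff_eq_mul]; exact k0)
  have m1 : m * y * m⁻¹ = s := c.inj (by rw [← hm, k1])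
  have m2 : m * s * m⁻¹ = y := c.inj (by rw [← hm, k2])
  have dy : d * y * d⁻¹ = y * s := by
    calc d * y * d⁻¹ = d * (d⁻¹ * (y * s) * d) * d⁻¹ := by rw [d_ys]
      _ = _ := by group
  have ds : d * s * d⁻¹ = y := by
    calc d * s * d⁻¹ = d * (d⁻¹ * y * d) * d⁻¹ := by rw [d_y]
      _ = _ := by group
  refine no_twist (d⁻¹ * m * d) ?_ ?_
  · rw [← mul_inv_eq_iff_eq_mul]
    calc d⁻¹ * m * d * y * (d⁻¹ * m * d)⁻¹ = d⁻¹ * (m * (d * y * d⁻¹) * m⁻¹) * d := by group
      _ = d⁻¹ * ((m * y * m⁻¹) * (m * s * m⁻¹)) * d := by rw [dy]; group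
      _ = d⁻¹ * (y * s) * d := by rw [m1, m2, ys_comm]
      _ = y := d_ys
  · calc d⁻¹ * m * d * s * (d⁻¹ * m * d)⁻¹ = d⁻¹ * (m * (d * s * d⁻¹) * m⁻¹) * d := by group
      _ = d⁻¹ * s * d := by rw [ds, m1]
      _ = y * s := d_s

/-- the element `g` -/
theorem exists_g [Finite G] (c : Ctx t f) (h1 : IsConj t (t * f y)) (h2 : ¬ IsConj t (f y))
    (h3 : ¬ IsConj t (f (p * r))) :
    ∃ g : G, g * g = 1 ∧ g * t * g⁻¹ = t * f y ∧ ∀ m, m * y = y * m → f m * g = g * f m := by
  obtain ⟨x, hxt, hxy⟩ := exists_swap_t c h1 h2 h3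
  have cx := toCx c
  have hyy : f y * f y = 1 := by rw [← map_mul, y_sq, map_one]
  have hxty : x * (t * f y) * x⁻¹ = t := by
    calc x * (t * f y) * x⁻¹ = (x * t * x⁻¹) * (x * f y * x⁻¹) := by group
      _ = t * (f y * f y) := by rw [hxt, hxy]; group
      _ = t := by rw [hyy, mul_one]
  -- the induced map on `S₅`
  have hstep : ∀ σ : P5, ∃ τ u, inV t f u ∧ x * f (w σ) * x⁻¹ = u * f (w τ) := by
    intro σ
    apply decomp c
    · have e : f (w σ) * (t * f y) = (t * f y) * f (w σ) := by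
        have e1 : f (w σ) * f y = f y * f (w σ) := by rw [← map_mul, ← y_comm, map_mul]
        calc f (w σ) * (t * f y) = (f (w σ) * t) * f y := by group
          _ = t * (f (w σ) * f y) := by rw [c.comm]; group
          _ = _ := by rw [e1]; group
      calc x * f (w σ) * x⁻¹ * t = x * f (w σ) * x⁻¹ * (x * (t * f y) * x⁻¹) := by rw [hxty]
        _ = x * (f (w σ) * (t * f y)) * x⁻¹ := by group
        _ = (x * (t * f y) * x⁻¹) * (x * f (w σ) * x⁻¹) := by rw [e]; group
        _ = _ := by rw [hxty]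
    · have e1 : f (w σ) * f y = f y * f (w σ) := by rw [← map_mul, ← y_comm, map_mul]
      calc x * f (w σ) * x⁻¹ * f y = x * f (w σ) * x⁻¹ * (x * f y * x⁻¹) := by rw [hxy]
        _ = x * (f (w σ) * f y) * x⁻¹ := by group
        _ = (x * f y * x⁻¹) * (x * f (w σ) * x⁻¹) := by rw [e1]; group
        _ = _ := by rw [hxy]
  choose α u hu hα using hstep
  have hmul : ∀ σ τ, u (σ * τ) = u σ * u τ ∧ α (σ * τ) = α σ * α τ := by
    intro σ τ
    apply uniq cx (hu _) (inV_mul cx (hu _) (hu _))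
    rw [← hα]
    calc x * f (w (σ * τ)) * x⁻¹ = (x * f (w σ) * x⁻¹) * (x * f (w τ) * x⁻¹) := by
          rw [map_mul, map_mul]; group
      _ = u σ * (f (w (α σ)) * u τ) * f (w (α τ)) := by rw [hα, hα]; group
      _ = u σ * (u τ * f (w (α σ))) * f (w (α τ)) := by rw [inV_comm_w cx (hu τ)]
      _ = _ := by rw [map_mul, map_mul]; group
  let A : P5 →* P5 := MonoidHom.mk' α (fun σ τ => (hmul σ τ).2)
  have hxV : ∀ v, inV t f v → inV t f (x⁻¹ * v * x) := by
    rintro v ⟨i, j, rfl⟩
    have e1 : x⁻¹ * t * x = t * f y := by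
      calc x⁻¹ * t * x = x⁻¹ * (x * (t * f y) * x⁻¹) * x := by rw [hxty]
        _ = _ := by group
    have e2 : x⁻¹ * f y * x = f y := by
      calc x⁻¹ * f y * x = x⁻¹ * (x * f y * x⁻¹) * x := by rw [hxy]
        _ = _ := by group
    have e3 : x⁻¹ * (t ^ i * f y ^ j) * x = (x⁻¹ * t * x) ^ i * (x⁻¹ * f y * x) ^ j := by
      have := (MulAut.conj x⁻¹).map_mul (t ^ i) (f y ^ j)
      rw [map_pow, map_pow] at this
      simpa [MulAut.conj_apply] using this
    rw [e3, e1, e2]
    have h : Commute t (f y) := (c.comm y).symm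
    rw [h.mul_pow]
    exact ⟨i, i + j, by rw [pow_add]; group⟩
  have hinj : Function.Injective A := by
    rw [injective_iff_map_eq_one]
    intro σ hσ
    have h4 : x * f (w σ) * x⁻¹ = u σ := by
      rw [hα, show α σ = 1 from hσ, map_one, map_one, mul_one]
    apply inV_w cx
    have h5 : f (w σ) = x⁻¹ * u σ * x := by rw [← h4]; group
    rw [h5]
    exact hxV _ (hu σ)
  obtain ⟨κ, hκ⟩ := Cfsg.Agent.CoThreeStd.SymFive.inner A hinj
  -- adjust
  obtain ⟨x1, hx1⟩ : ∃ x1, x1 = (f (w κ))⁻¹ * x := ⟨_, rfl⟩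
  have hkc : ∀ v, inV t f v → (f (w κ))⁻¹ * v * f (w κ) = v := by
    intro v hv
    rw [mul_assoc, inV_comm_w cx hv]; group
  have hVt : inV t f t := ⟨1, 0, by simp⟩
  have hVy : inV t f (f y) := ⟨0, 1, by simp⟩
  have hx1t : x1 * t * x1⁻¹ = t * f y := by
    calc x1 * t * x1⁻¹ = (f (w κ))⁻¹ * (x * t * x⁻¹) * f (w κ) := by rw [hx1]; group
      _ = _ := by rw [hxt, hkc _ (inV_mul cx hVt hVy)]
  have hx1y : x1 * f y * x1⁻¹ = f y := by
    calc x1 * f y * x1⁻¹ = (f (w κ))⁻¹ * (x * f y * x⁻¹) * f (w κ) := by rw [hx1]; group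
      _ = _ := by rw [hxy, hkc _ hVy]
  have hx1w : ∀ σ, x1 * f (w σ) * x1⁻¹ = u σ * f (w σ) := by
    intro σ
    calc x1 * f (w σ) * x1⁻¹ = (f (w κ))⁻¹ * (x * f (w σ) * x⁻¹) * f (w κ) := by rw [hx1]; group
      _ = ((f (w κ))⁻¹ * u σ * f (w κ)) * ((f (w κ))⁻¹ * f (w (A σ)) * f (w κ)) := by
        rw [hα]; show _ = _ * ((f (w κ))⁻¹ * f (w (α σ)) * f (w κ)); group
      _ = u σ * f (w σ) := by
        rw [hkc _ (hu σ), hκ, map_mul, map_mul, map_mul, map_mul, map_inv, map_inv]; group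
  -- `u` is constant on the transpositions
  let U : P5 →* G := MonoidHom.mk' u (fun σ τ => (hmul σ τ).1)
  have hUsw : ∀ a b a' b' : Fin 5, a ≠ b → a' ≠ b' → u (Equiv.swap a b) = u (Equiv.swap a' b') := by
    intro a b a' b' hab hab'
    obtain ⟨τ, hτ⟩ := isConj_iff.1 (Equiv.Perm.isConj_swap hab hab')
    have e : U (Equiv.swap a' b') = U τ * U (Equiv.swap a b) * (U τ)⁻¹ := by
      rw [← hτ, map_mul, map_mul, map_inv]
    have e2 : u τ * u (Equiv.swap a b) = u (Equiv.swap a b) * u τ := inV_comm cx (hu _) (hu _)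
    have e3 : u (Equiv.swap a' b') = u τ * u (Equiv.swap a b) * (u τ)⁻¹ := e
    rw [e3, e2]; group
  have hsp : ∀ e : H, (∃ n, n⁻¹ * y * n = e) → x1 * f p * x1⁻¹ = t * f e → False := by
    intro e he h4
    apply h2
    have h5 : IsConj t (x1 * f p * x1⁻¹) := by rw [h4]; exact conj_t_class c h1 he
    have h6 : IsConj t (f p) := h5.trans (isConj_iff.2 ⟨x1⁻¹, by group⟩)
    exact conj_of_class h6 p_class
  have hp := hx1w (Equiv.swap 0 1)
  rw [w_p] at hp
  have hall : ∀ σ, u σ = 1 := by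
    have h4 : u (Equiv.swap 0 1) = 1 := by
      rcases inV_cases cx (hu (Equiv.swap 0 1)) with h5 | h5 | h5 | h5
      · exact h5
      · exfalso
        rw [h5] at hp
        exact hsp p p_class hp
      · exfalso
        have h6 := hx1w (Equiv.swap 3 4)
        rw [w_s, hUsw 3 4 0 1 (by decide) (by decide), h5] at h6
        exact kill_twist c hx1t hx1y h6
      · exfalso
        rw [h5] at hp
        exact hsp (y * p) yp_class (by rw [hp, map_mul]; group)
    intro σ
    show U σ = 1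
    induction σ using Equiv.Perm.swap_induction_on with
    | one => exact map_one U
    | swap_mul σ a b hab ih =>
      rw [map_mul, ih, mul_one]
      show u _ = 1
      rw [hUsw a b 0 1 hab (by decide), h4]
  have hx1w' : ∀ σ, f (w σ) * x1 = x1 * f (w σ) := by
    intro σ
    have := hx1w σ
    rw [hall, one_mul, mul_inv_eq_iff_eq_mul] at this
    exact this.symm
  have hx1y' : f y * x1 = x1 * f y := by
    rw [mul_inv_eq_iff_eq_mul] at hx1y
    exact hx1y.symm
  have hcomm : ∀ m, m * y = y * m → f m * x1 = x1 * f m := by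
    intro m hm
    obtain ⟨σ, rfl | rfl⟩ := cent_y m hm
    · exact hx1w' σ
    · rw [map_mul, mul_assoc, hx1w', ← mul_assoc, hx1y', mul_assoc]
  -- the square
  have hsqt : (x1 * x1) * t = t * (x1 * x1) := by
    rw [← mul_inv_eq_iff_eq_mul]
    calc x1 * x1 * t * (x1 * x1)⁻¹ = x1 * (x1 * t * x1⁻¹) * x1⁻¹ := by group
      _ = x1 * (t * f y) * x1⁻¹ := by rw [hx1t]
      _ = (x1 * t * x1⁻¹) * (x1 * f y * x1⁻¹) := by group
      _ = t * (f y * f y) := by rw [hx1t, hx1y]; group
      _ = t := by rw [hyy, mul_one]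
  have hsqc : ∀ m, m * y = y * m → (x1 * x1) * f m = f m * (x1 * x1) := by
    intro m hm
    have := hcomm m hm
    rw [← mul_assoc, this, mul_assoc x1 (f m), this, mul_assoc]
  obtain ⟨σ, v, hv, hσ⟩ := decomp c hsqt (hsqc y rfl)
  have hσ1 : σ = 1 := by
    apply perm5_central
    intro τ
    have h4 := hsqc (w τ) (y_comm τ).symm
    rw [hσ] at h4
    have h5 : v * f (w (σ * τ)) = v * f (w (τ * σ)) := by
      rw [map_mul, map_mul, map_mul, map_mul, ← mul_assoc, h4, ← mul_assoc, ← mul_assoc, inV_comm_w cx hv]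
    exact w_injective (c.inj (mul_left_cancel h5))
  rw [hσ1, map_one, map_one, mul_one] at hσ
  have hnt : x1 * t ≠ t * x1 := by
    intro h4
    rw [h4] at hx1t
    have h5 : f y = f 1 := by
      rw [map_one]
      apply mul_left_cancel (a := t)
      rw [← hx1t]; group
    exact y_ne_one (c.inj h5)
  have htt := c.tt
  rcases inV_cases cx hv with h5 | h5 | h5 | h5
  · exact ⟨x1, by rw [hσ, h5], hx1t, hcomm⟩
  · exfalso
    apply hnt
    rw [← h5, ← hσ]; group
  · refine ⟨t * x1, ?_, ?_, ?_⟩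
    · calc t * x1 * (t * x1) = t * (x1 * t * x1⁻¹) * (x1 * x1) := by group
        _ = (t * t) * (f y * f y) := by rw [hx1t, hσ, h5]; group
        _ = 1 := by rw [hyy, c.tt, one_mul]
    · calc t * x1 * t * (t * x1)⁻¹ = t * (x1 * t * x1⁻¹) * t⁻¹ := by group
        _ = t * (t * f y) * t⁻¹ := by rw [hx1t]
        _ = t * (f y * t) * t⁻¹ := by rw [c.comm]
        _ = _ := by group
    · intro m hm
      calc f m * (t * x1) = (f m * t) * x1 := by group
        _ = t * (f m * x1) := by rw [c.comm]; group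
        _ = _ := by rw [hcomm m hm]; group
  · exfalso
    apply hnt
    have h6 : x1 * (t * f y) = (t * f y) * x1 := by rw [← h5, ← hσ]; group
    calc x1 * t = x1 * (t * f y) * (f y)⁻¹ := by group
      _ = t * (f y * x1) * (f y)⁻¹ := by rw [h6]; group
      _ = t * x1 := by rw [hx1y']; group

end Cfsg.Agent.CoThreeStd.Gamma
end
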