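import Mathlib
import Cfsg.Agent.CoThreeStd.DeltaData
set_option linter.all false

-- part: CoThreeStd/DeltaRel
section
/-!
# Pattern δ of S1750: relations in the local subgroup `R` (helper178)
-/

set_option autoImplicit false

namespace Cfsg.Agent.CoThreeStd.DeltaRel

variable {G : Type*} [Group G]

/-- `u ∈ {1, b, v, bv}` -/
def InV (b v u : G) : Prop := u = 1 ∨ u = b ∨ u = v ∨ u = b * v

/-- `u ∈ V ∪ wV` -/
def InW (b v w u : G) : Prop := InV b v u ∨ ∃ u', InV b v u' ∧ u = w * u'

theorem InV.comm {b v u x : G} (h : InV b v u) (hb : x * b = b * x) (hv : x * v = v * x) : x * u = u * x := by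
  rcases h with rfl | rfl | rfl | rfl
  · rw [mul_one, one_mul]
  · exact hb
  · exact hv
  · rw [← mul_assoc, hb, mul_assoc, hv, mul_assoc]

theorem InW.comm {b v w u x : G} (h : InW b v w u) (hb : x * b = b * x) (hv : x * v = v * x)
    (hw : x * w = w * x) : x * u = u * x := by
  rcases h with h | ⟨u', h, rfl⟩
  · exact h.comm hb hv
  · rw [← mul_assoc, hw, mul_assoc, h.comm hb hv, mul_assoc]

theorem InV.map {b v u : G} {F : Type*} [FunLike F G G] [MonoidHomClass F G G] (h : InV b v u) (c : F) :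
    InV (c b) (c v) (c u) := by
  rcases h with rfl | rfl | rfl | rfl
  · exact Or.inl (map_one c)
  · exact Or.inr (Or.inl rfl)
  · exact Or.inr (Or.inr (Or.inl rfl))
  · exact Or.inr (Or.inr (Or.inr (map_mul c _ _)))

theorem InV.fix {b v u : G} {F : Type*} [FunLike F G G] [MonoidHomClass F G G] (h : InV b v u) (c : F)
    (hb : c b = b) (hv : c v = v) : c u = u := by
  rcases h with rfl | rfl | rfl | rfl
  · exact map_one c
  · exact hb
  · exact hv
  · rw [map_mul, hb, hv]

theorem InV.sq {b v u : G} (h : InV b v u) (bb : b * b = 1) (vv : v * v = 1) (bv : v * b = b * v) : u * u = 1 := by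
  rcases h with rfl | rfl | rfl | rfl
  · rw [one_mul]
  · exact bb
  · exact vv
  · rw [mul_assoc, ← mul_assoc v, bv, mul_assoc b v v, vv, mul_one, bb]

theorem InV.mul {b v u u' : G} (h : InV b v u) (h' : InV b v u') (bb : b * b = 1) (vv : v * v = 1)
    (bv : v * b = b * v) : InV b v (u * u') := by
  have e1 : v * (b * v) = b := by rw [← mul_assoc, bv, mul_assoc, vv, mul_one]
  have e2 : b * v * b = v := by rw [mul_assoc, bv, ← mul_assoc, bb, one_mul]
  have e3 : b * (b * v) = v := by rw [← mul_assoc, bb, one_mul]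
  have e4 : b * v * v = b := by rw [mul_assoc, vv, mul_one]
  have e5 : b * v * (b * v) = 1 := by rw [← mul_assoc, e2, vv]
  rcases h with rfl | rfl | rfl | rfl
  · rwa [one_mul]
  · rcases h' with rfl | rfl | rfl | rfl
    · rw [mul_one]; exact Or.inr (Or.inl rfl)
    · rw [bb]; exact Or.inl rfl
    · exact Or.inr (Or.inr (Or.inr rfl))
    · rw [e3]; exact Or.inr (Or.inr (Or.inl rfl))
  · rcases h' with rfl | rfl | rfl | rfl
    · rw [mul_one]; exact Or.inr (Or.inr (Or.inl rfl))
    · rw [bv]; exact Or.inr (Or.inr (Or.inr rfl))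
    · rw [vv]; exact Or.inl rfl
    · rw [e1]; exact Or.inr (Or.inl rfl)
  · rcases h' with rfl | rfl | rfl | rfl
    · rw [mul_one]; exact Or.inr (Or.inr (Or.inr rfl))
    · rw [e2]; exact Or.inr (Or.inr (Or.inl rfl))
    · rw [e4]; exact Or.inr (Or.inl rfl)
    · rw [e5]; exact Or.inl rfl

/-- The relations between `r_b`, `r_v`, `r_w`. -/
theorem rel_main {b v w t rb rv rw_ τ e1 e2 : G} (c1 c2 : G →* G) (l f : Bool)
    (bb : b * b = 1) (vv : v * v = 1) (ww : w * w = 1)
    (vb : v * b = b * v) (wb : w * b = b * w) (wv : w * v = v * w)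
    (b1 : b ≠ 1) (v1 : v ≠ 1) (bv1 : b ≠ v)
    (rb_b : rb * b = b * rb) (rb_v : rb * v = v * rb) (rb_w : rb * w = w * rb)
    (rv_b : rv * b = b * rv) (rv_v : rv * v = v * rv) (rv_w : rv * w = w * rv)
    (rw_b : rw_ * b = b * rw_) (rw_v : rw_ * v = v * rw_) (rw_w : rw_ * w = w * rw_)
    (t_b : t * b = b * t) (t_v : t * v = v * t)
    (rv_t : t * rv = rv * t * v)
    (rvb : rv * rb = rb * rv) (rwb : rw_ * rb = rb * rw_)
    (rb2 : rb * rb = if l then b else 1) (rv2 : rv * rv = if l then v else 1)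
    (rw2 : rw_ * rw_ = if l then w else 1)
    (c1b : c1 b = b) (c1v : c1 v = v) (c1w : c1 w = w * b) (c1rb : c1 rb = rb)
    (c1rv : c1 rv = if f then rv * v else rv)
    (c2b : c2 b = b) (c2v : c2 v = v) (c2w : c2 w = w * v) (c2rb : c2 rb = if f then rb * b else rb)
    (c2rv : c2 rv = rv)
    (hτ : τ = 1 ∨ τ = t)
    (he1 : InW b v w e1) (he2 : InW b v w e2)
    (c1rw : c1 rw_ = rw_⁻¹ * rb⁻¹ * e1) (c2rw : c2 rw_ = rw_⁻¹ * rv⁻¹ * τ * e2)
    (c11 : c1 (c1 rw_) = rw_) (c22 : c2 (c2 rw_) = rw_) (c12 : c1 (c2 rw_) = c2 (c1 rw_))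
    (hβ : InW b v w (rw_⁻¹ * rv⁻¹ * rw_ * rv)) :
    τ = 1 ∧ InV b v e1 ∧ InV b v e2 ∧ rw_ * rv = rv * rw_ ∧ l = f := by
  have e1rw := he1.comm rw_b rw_v rw_w
  have e1rb := he1.comm rb_b rb_v rb_w
  have e1rv := he1.comm rv_b rv_v rv_w
  have e2rw := he2.comm rw_b rw_v rw_w
  have e2rb := he2.comm rb_b rb_v rb_w
  have e2rv := he2.comm rv_b rv_v rv_w
  -- step 1
  have s1 : c1 e1 = e1 := by
    have h := c11
    rw [c1rw, map_mul, map_mul, map_inv, map_inv, c1rw, c1rb] at h
    have h2 : rw_ * (e1⁻¹ * c1 e1) = rw_ := by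
      calc rw_ * (e1⁻¹ * c1 e1) = (rw_ * e1⁻¹) * c1 e1 := by group
        _ = (e1⁻¹ * rw_) * c1 e1 := by
          rw [(show Commute rw_ e1 from e1rw).inv_right.eq]
        _ = e1⁻¹ * (rb * rw_) * rb⁻¹ * c1 e1 := by rw [← rwb]; group
        _ = (rw_⁻¹ * rb⁻¹ * e1)⁻¹ * rb⁻¹ * c1 e1 := by group
        _ = rw_ := h
    have h3 := mul_eq_left.1 h2
    exact (inv_mul_eq_one.1 h3).symm
  have he1V : InV b v e1 := by
    rcases he1 with h | ⟨u, hu, rfl⟩
    · exact h
    · exfalso
      rw [map_mul, c1w, hu.fix c1 c1b c1v] at s1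
      have h2 : w * b = w := mul_right_cancel s1
      exact b1 (mul_eq_left.1 h2)
  -- step 2: β
  obtain ⟨β, hβd⟩ : ∃ β, β = rw_⁻¹ * rv⁻¹ * rw_ * rv := ⟨_, rfl⟩
  rw [← hβd] at hβ
  have βrw : rw_ * β = β * rw_ := hβ.comm rw_b rw_v rw_w
  have βrv : rv * β = β * rv := hβ.comm rv_b rv_v rv_w
  have βrb : rb * β = β * rb := hβ.comm rb_b rb_v rb_w
  have hrwrv : rw_ * rv = rv * rw_ * β := by rw [hβd]; group
  have wβ2 : ∀ u, InW b v w u → u * u = 1 := by
    rintro u (hu | ⟨u', hu, rfl⟩)
    · exact hu.sq bb vv vb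
    · have h1 := hu.comm wb wv
      calc w * u' * (w * u') = w * (u' * w) * u' := by group
        _ = w * (w * u') * u' := by rw [h1]
        _ = (w * w) * (u' * u') := by group
        _ = 1 := by rw [ww, hu.sq bb vv vb, one_mul]
  have β2 : β * β = 1 := wβ2 β hβ
  have βinv : β⁻¹ = β := inv_eq_of_mul_eq_one_left β2
  -- c1 β = β
  have c1β : c1 β = β := by
    have h1 : c1 rw_ * c1 rv = c1 rv * c1 rw_ * c1 β := by
      rw [← map_mul, ← map_mul, ← map_mul, hrwrv]
    have h2 : (rw_⁻¹ * rb⁻¹ * e1) * rv = rv * (rw_⁻¹ * rb⁻¹ * e1) * β := by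
      have k1 : rw_⁻¹ * rv = rv * rw_⁻¹ * β := by
        have : rv * rw_ = rw_ * rv * β := by rw [hrwrv, mul_assoc, β2, mul_one]
        calc rw_⁻¹ * rv = rw_⁻¹ * (rv * rw_) * rw_⁻¹ := by group
          _ = rw_⁻¹ * (rw_ * rv * β) * rw_⁻¹ := by rw [this]
          _ = rv * (β * rw_⁻¹) := by group
          _ = rv * (rw_⁻¹ * β) := by rw [(show Commute rw_ β from βrw).inv_left.eq]
          _ = _ := by group
      calc (rw_⁻¹ * rb⁻¹ * e1) * rv = rw_⁻¹ * rb⁻¹ * (e1 * rv) := by group
        _ = rw_⁻¹ * rb⁻¹ * (rv * e1) := by rw [e1rv]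
        _ = rw_⁻¹ * (rb⁻¹ * rv) * e1 := by group
        _ = rw_⁻¹ * (rv * rb⁻¹) * e1 := by rw [(show Commute rv rb from rvb).inv_right.eq]
        _ = (rw_⁻¹ * rv) * rb⁻¹ * e1 := by group
        _ = (rv * rw_⁻¹ * β) * rb⁻¹ * e1 := by rw [k1]
        _ = rv * rw_⁻¹ * (β * rb⁻¹) * e1 := by group
        _ = rv * rw_⁻¹ * (rb⁻¹ * β) * e1 := by rw [(show Commute rb β from βrb).inv_left.eq]
        _ = rv * rw_⁻¹ * rb⁻¹ * (β * e1) := by group
        _ = rv * rw_⁻¹ * rb⁻¹ * (e1 * β) := by
          rw [he1V.comm (x := β) _ _]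
          · rw [← hβ.comm (x := b) rfl vb.symm wb.symm]
          · rw [← hβ.comm (x := v) vb rfl wv.symm]
        _ = _ := by group
    have h3 : c1 rw_ * c1 rv = c1 rv * c1 rw_ * β := by
      rw [c1rw, c1rv]
      cases f
      · simpa using h2
      · have hv1 : (rw_⁻¹ * rb⁻¹ * e1) * v = v * (rw_⁻¹ * rb⁻¹ * e1) := by
          have a1 : Commute rw_ v := rw_v
          have a2 : Commute rb v := rb_v
          have a3 : Commute v e1 := he1V.comm vb rfl
          exact ((a1.inv_left.mul_left a2.inv_left).mul_left a3.symm).eq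
        have hv2 : v * β = β * v := hβ.comm (x := v) vb rfl wv.symm
        simp only [if_true]
        calc (rw_⁻¹ * rb⁻¹ * e1) * (rv * v) = ((rw_⁻¹ * rb⁻¹ * e1) * rv) * v := by group
          _ = rv * (rw_⁻¹ * rb⁻¹ * e1) * β * v := by rw [h2]
          _ = rv * (rw_⁻¹ * rb⁻¹ * e1) * (β * v) := by group
          _ = rv * (rw_⁻¹ * rb⁻¹ * e1) * (v * β) := by rw [hv2]
          _ = rv * ((rw_⁻¹ * rb⁻¹ * e1) * v) * β := by group
          _ = rv * (v * (rw_⁻¹ * rb⁻¹ * e1)) * β := by rw [hv1]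
          _ = _ := by group
    rw [h1] at h3
    exact mul_left_cancel h3
  have hβV : InV b v β := by
    rcases hβ with h | ⟨u, hu, hu'⟩
    · exact h
    · exfalso
      rw [hu', map_mul, c1w, hu.fix c1 c1b c1v] at c1β
      have h2 : w * b = w := mul_right_cancel c1β
      exact b1 (mul_eq_left.1 h2)
  have c2β : c2 β = β := hβV.fix c2 c2b c2v
  -- i = 0
  have key2 : c2 rw_ * rv = rv * c2 rw_ * β := by
    have h1 : c2 rw_ * c2 rv = c2 rv * c2 rw_ * c2 β := by
      rw [← map_mul, ← map_mul, ← map_mul, hrwrv]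
    rwa [c2rv, c2β] at h1
  have k1 : rw_⁻¹ * rv = rv * rw_⁻¹ * β := by
    have : rv * rw_ = rw_ * rv * β := by rw [hrwrv, mul_assoc, β2, mul_one]
    calc rw_⁻¹ * rv = rw_⁻¹ * (rv * rw_) * rw_⁻¹ := by group
      _ = rw_⁻¹ * (rw_ * rv * β) * rw_⁻¹ := by rw [this]
      _ = rv * (β * rw_⁻¹) := by group
      _ = rv * (rw_⁻¹ * β) := by rw [(show Commute rw_ β from βrw).inv_left.eq]
      _ = _ := by group
  have hτ1 : τ = 1 := by
    rcases hτ with h | h
    · exact h
    · exfalso
      rw [c2rw, h] at key2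
      have h3 : rw_⁻¹ * rv⁻¹ * t * e2 * rv = rv * (rw_⁻¹ * rv⁻¹ * t * e2) * β * v := by
        have hve : Commute v e2 := he2.comm vb rfl wv.symm
        have hβe : Commute β e2 := by
          refine (hβV.comm (x := e2) ?_ ?_ : e2 * β = β * e2).symm
          · exact (he2.comm (x := b) rfl vb.symm wb.symm).symm
          · exact (he2.comm (x := v) vb rfl wv.symm).symm
        have hβt : Commute β t := (hβV.comm t_b t_v : t * β = β * t).symm
        have hβv : Commute β v := (hβ.comm (x := v) vb rfl wv.symm : v * β = β * v).symm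
        have hvt : Commute v t := (t_v : t * v = v * t).symm
        calc rw_⁻¹ * rv⁻¹ * t * e2 * rv = rw_⁻¹ * rv⁻¹ * t * (e2 * rv) := by group
          _ = rw_⁻¹ * rv⁻¹ * t * (rv * e2) := by rw [e2rv]
          _ = rw_⁻¹ * rv⁻¹ * (t * rv) * e2 := by group
          _ = rw_⁻¹ * rv⁻¹ * (rv * t * v) * e2 := by rw [rv_t]
          _ = (rw_⁻¹ * rv) * rv⁻¹ * (t * v) * e2 := by group
          _ = (rv * rw_⁻¹ * β) * rv⁻¹ * (t * v) * e2 := by rw [k1]
          _ = rv * rw_⁻¹ * (β * rv⁻¹) * (t * v) * e2 := by group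
          _ = rv * rw_⁻¹ * (rv⁻¹ * β) * (t * v) * e2 := by
            rw [(show Commute rv β from βrv).inv_left.eq]
          _ = rv * rw_⁻¹ * rv⁻¹ * (β * (t * v * e2)) := by group
          _ = rv * rw_⁻¹ * rv⁻¹ * ((t * v * e2) * β) := by
            rw [((hβt.mul_right hβv).mul_right hβe).eq]
          _ = rv * rw_⁻¹ * rv⁻¹ * t * (v * (e2 * β)) := by group
          _ = rv * rw_⁻¹ * rv⁻¹ * t * ((e2 * β) * v) := by rw [(hve.mul_right hβv.symm).eq]
          _ = _ := by group
      rw [h3] at key2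
      exact v1 (mul_eq_left.1 key2)
  subst hτ1
  rw [mul_one] at c2rw
  -- squares: β = 1
  have k2 : rv⁻¹ * rw_⁻¹ = rw_⁻¹ * rv⁻¹ * β := by
    have h1 : (rw_ * rv)⁻¹ = (rv * rw_ * β)⁻¹ := by rw [hrwrv]
    rw [mul_inv_rev, mul_inv_rev, mul_inv_rev, βinv] at h1
    rw [h1]
    have a1 : Commute rw_ β := βrw
    have a2 : Commute rv β := βrv
    exact (a1.inv_left.mul_left a2.inv_left).symm.eq
  have e22 : e2 * e2 = 1 := wβ2 e2 he2
  have hsq : c2 rw_ * c2 rw_ = (rw_ * rw_)⁻¹ * (rv * rv)⁻¹ * β := by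
    have a1 : Commute rw_ e2 := e2rw
    have a2 : Commute rv e2 := e2rv
    have a3 : Commute rv β := βrv
    rw [c2rw]
    calc rw_⁻¹ * rv⁻¹ * e2 * (rw_⁻¹ * rv⁻¹ * e2) = rw_⁻¹ * rv⁻¹ * (e2 * (rw_⁻¹ * rv⁻¹)) * e2 := by group
      _ = rw_⁻¹ * rv⁻¹ * ((rw_⁻¹ * rv⁻¹) * e2) * e2 := by
        rw [(a1.inv_left.mul_left a2.inv_left).symm.eq]
      _ = rw_⁻¹ * (rv⁻¹ * rw_⁻¹) * rv⁻¹ * (e2 * e2) := by group
      _ = rw_⁻¹ * (rw_⁻¹ * rv⁻¹ * β) * rv⁻¹ * 1 := by rw [k2, e22]
      _ = rw_⁻¹ * rw_⁻¹ * rv⁻¹ * (β * rv⁻¹) := by group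
      _ = rw_⁻¹ * rw_⁻¹ * rv⁻¹ * (rv⁻¹ * β) := by rw [a3.inv_left.symm.eq]
      _ = _ := by group
  have hβ1 : β = 1 := by
    rw [← map_mul, rw2, rv2] at hsq
    cases l
    · simp only [Bool.false_eq_true, if_false, map_one, inv_one, one_mul] at hsq
      exact hsq.symm
    · simp only [if_true] at hsq
      have wi : w⁻¹ = w := inv_eq_of_mul_eq_one_left ww
      have vi : v⁻¹ = v := inv_eq_of_mul_eq_one_left vv
      rw [c2w, wi, vi] at hsq
      exact (mul_eq_left.1 hsq.symm)
  have hcomm : rw_ * rv = rv * rw_ := by rw [hrwrv, hβ1, mul_one]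
  -- e2
  have s2 : c2 e2 = e2 := by
    have h := c22
    rw [c2rw, map_mul, map_mul, map_inv, map_inv, c2rw, c2rv] at h
    have h2 : rw_ * (e2⁻¹ * c2 e2) = rw_ := by
      calc rw_ * (e2⁻¹ * c2 e2) = (rw_ * e2⁻¹) * c2 e2 := by group
        _ = (e2⁻¹ * rw_) * c2 e2 := by
          rw [(show Commute rw_ e2 from e2rw).inv_right.eq]
        _ = e2⁻¹ * (rv * rw_) * rv⁻¹ * c2 e2 := by rw [← hcomm]; group
        _ = (rw_⁻¹ * rv⁻¹ * e2)⁻¹ * rv⁻¹ * c2 e2 := by group
        _ = rw_ := h
    have h3 := mul_eq_left.1 h2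
    exact (inv_mul_eq_one.1 h3).symm
  have he2V : InV b v e2 := by
    rcases he2 with h | ⟨u, hu, rfl⟩
    · exact h
    · exfalso
      rw [map_mul, c2w, hu.fix c2 c2b c2v] at s2
      have h2 : w * v = w := mul_right_cancel s2
      exact v1 (mul_eq_left.1 h2)
  refine ⟨rfl, he1V, he2V, hcomm, ?_⟩
  -- the last relation
  have h := c12
  have c1e2 : c1 e2 = e2 := he2V.fix c1 c1b c1v
  have c2e1 : c2 e1 = e1 := he1V.fix c2 c2b c2v
  rw [c2rw, c1rw, map_mul, map_mul, map_mul, map_mul, map_inv, map_inv, map_inv, map_inv, c1rw, c2rw,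
    c1e2, c2e1] at h
  have e12 : Commute e1 e2 := (he2V.comm (he1V.comm rfl vb.symm).symm (he1V.comm vb rfl).symm)
  have a1 : Commute rw_ e1 := e1rw
  have a2 : Commute rb e1 := e1rb
  have a3 : Commute rv e1 := e1rv
  have a4 : Commute rw_ e2 := e2rw
  have a5 : Commute rb e2 := e2rb
  have a6 : Commute rv e2 := e2rv
  have e11 : e1 * e1 = 1 := he1V.sq bb vv vb
  have e1i : e1⁻¹ = e1 := inv_eq_of_mul_eq_one_left e11
  have e2i : e2⁻¹ = e2 := inv_eq_of_mul_eq_one_left e22
  have hA : ∀ x y : G, Commute e1 y → Commute e2 y → Commute e1 x → Commute e2 x →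
      (e1⁻¹ * x) * y * e2 = e1 * e2 * (x * y) := by
    intro x y h1 h2 h3 h4
    rw [e1i]
    calc e1 * x * y * e2 = e1 * (x * (y * e2)) := by group
      _ = e1 * (x * (e2 * y)) := by rw [h2.eq]
      _ = e1 * ((x * e2) * y) := by group
      _ = e1 * ((e2 * x) * y) := by rw [h4.eq]
      _ = _ := by group
  have h' : rb * rw_ * (c1 rv)⁻¹ = rv * rw_ * (c2 rb)⁻¹ := by
    have b1' : Commute e1 (c1 rv)⁻¹ := by
      rw [c1rv]
      cases f
      · simpa using a3.symm
      · simp only [if_true]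
        exact (a3.symm.mul_right (he1V.comm vb rfl : v * e1 = e1 * v).symm).inv_right
    have b2' : Commute e2 (c1 rv)⁻¹ := by
      rw [c1rv]
      cases f
      · simpa using a6.symm
      · simp only [if_true]
        exact (a6.symm.mul_right (he2V.comm vb rfl : v * e2 = e2 * v).symm).inv_right
    have b3' : Commute e1 (c2 rb)⁻¹ := by
      rw [c2rb]
      cases f
      · simpa using a2.symm
      · simp only [if_true]
        exact (a2.symm.mul_right (he1V.comm rfl vb.symm : b * e1 = e1 * b).symm).inv_right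
    have b4' : Commute e2 (c2 rb)⁻¹ := by
      rw [c2rb]
      cases f
      · simpa using a5.symm
      · simp only [if_true]
        exact (a5.symm.mul_right (he2V.comm rfl vb.symm : b * e2 = e2 * b).symm).inv_right
    have l1 : (rw_⁻¹ * rb⁻¹ * e1)⁻¹ * (c1 rv)⁻¹ * e2 = e1 * e2 * (rb * rw_ * (c1 rv)⁻¹) := by
      rw [← hA (rb * rw_) _ b1' b2' (a2.symm.mul_right a1.symm) (a5.symm.mul_right a4.symm)]
      group
    have l2 : (rw_⁻¹ * rv⁻¹ * e2)⁻¹ * (c2 rb)⁻¹ * e1 = e1 * e2 * (rv * rw_ * (c2 rb)⁻¹) := by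
      have x1 : Commute e1 (rv * rw_) := a3.symm.mul_right a1.symm
      rw [mul_inv_rev, mul_inv_rev, inv_inv, inv_inv, e2i]
      calc e2 * (rv * rw_) * (c2 rb)⁻¹ * e1 = e2 * (rv * rw_) * ((c2 rb)⁻¹ * e1) := by group
        _ = e2 * (rv * rw_) * (e1 * (c2 rb)⁻¹) := by rw [b3'.eq]
        _ = e2 * ((rv * rw_) * e1) * (c2 rb)⁻¹ := by group
        _ = e2 * (e1 * (rv * rw_)) * (c2 rb)⁻¹ := by rw [x1.eq]
        _ = (e2 * e1) * (rv * rw_ * (c2 rb)⁻¹) := by group
        _ = _ := by rw [e12.eq]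
    rw [l1, l2] at h
    exact mul_left_cancel h
  -- rb * (c1 rv)⁻¹ = rv * (c2 rb)⁻¹
  have c1rvrw : Commute rw_ (c1 rv) := by
    rw [c1rv]
    cases f
    · exact (hcomm : Commute rw_ rv)
    · simp only [if_true]
      exact (show Commute rw_ rv from hcomm).mul_right rw_v
  have c2rbrw : Commute rw_ (c2 rb) := by
    rw [c2rb]
    cases f
    · exact (rwb : Commute rw_ rb)
    · simp only [if_true]
      exact (show Commute rw_ rb from rwb).mul_right rw_b
  have h2 : rb * (c1 rv)⁻¹ = rv * (c2 rb)⁻¹ := by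
    have x1 : rb * rw_ * (c1 rv)⁻¹ = rb * (c1 rv)⁻¹ * rw_ := by
      rw [mul_assoc, c1rvrw.inv_right.eq, ← mul_assoc]
    have x2 : rv * rw_ * (c2 rb)⁻¹ = rv * (c2 rb)⁻¹ * rw_ := by
      rw [mul_assoc, c2rbrw.inv_right.eq, ← mul_assoc]
    rw [x1, x2] at h'
    exact mul_right_cancel h'
  -- rb * c2 rb = rv * c1 rv
  have h3 : rb * c2 rb = rv * c1 rv := by
    have y1 : Commute (c1 rv) (c2 rb) := by
      rw [c1rv, c2rb]
      have z0 : Commute rv rb := rvb
      have z1 : Commute rv b := rv_b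
      have z2 : Commute v rb := (rb_v : rb * v = v * rb).symm
      have z3 : Commute v b := vb
      cases f
      · simpa using z0
      · simp only [if_true]
        exact (z0.mul_right z1).mul_left (z2.mul_right z3)
    have y2 : Commute rb (c2 rb) := by
      rw [c2rb]
      cases f
      · simp
      · simp only [if_true]
        exact (Commute.refl rb).mul_right rb_b
    have y3 : Commute rv (c2 rb) := by
      rw [c2rb]
      have z0 : Commute rv rb := rvb
      have z1 : Commute rv b := rv_b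
      cases f
      · simpa using z0
      · simp only [if_true]
        exact z0.mul_right z1
    calc rb * c2 rb = rb * (c1 rv)⁻¹ * (c1 rv * c2 rb) := by group
      _ = rv * (c2 rb)⁻¹ * (c1 rv * c2 rb) := by rw [h2]
      _ = rv * (c2 rb)⁻¹ * (c2 rb * c1 rv) := by rw [y1.eq]
      _ = _ := by group
  rw [c1rv, c2rb] at h3
  cases l <;> cases f
  · rfl
  · exfalso
    simp only [if_true, ← mul_assoc, rb2, rv2, Bool.false_eq_true, if_false, one_mul] at h3
    exact bv1 h3
  · exfalso
    simp only [if_true, rb2, rv2, Bool.false_eq_true, if_false] at h3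
    exact bv1 h3
  · rfl

section Final

variable {b v w y t k1 k2 s sv rw_ e1 e2 : G}

/-- `k^r` from `r^k` -/
theorem conj_swap {k r x : G} (h : k⁻¹ * r * k = r⁻¹ * x⁻¹ * e1) : r⁻¹ * k * r = k * (e1⁻¹ * x * r * r) := by
  calc r⁻¹ * k * r = k * (k⁻¹ * r * k)⁻¹ * r := by group
    _ = _ := by rw [h]; group

/-- case (I) -/
theorem fin_zero (s2 : s * s = 1) (r2 : rw_ * rw_ = 1) (tr : t * rw_ = rw_ * t * w) (sr : s * rw_ = rw_ * s)
    (sk : s * k1 = k1 * s) (se : s * e1 = e1 * s) (ee : e1 * e1 = 1)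
    (h : k1⁻¹ * rw_ * k1 = rw_⁻¹ * s⁻¹ * e1) :
    rw_⁻¹ * (t * s * k1) * rw_ = t * (w * (k1 * e1)) := by
  have e1i : e1⁻¹ = e1 := inv_eq_of_mul_eq_one_left ee
  have h1 := conj_swap h
  have h2 : rw_⁻¹ * t * rw_ = t * w := by
    calc rw_⁻¹ * t * rw_ = rw_⁻¹ * (t * rw_) := by group
      _ = _ := by rw [tr]; group
  have h3 : rw_⁻¹ * s * rw_ = s := by
    calc rw_⁻¹ * s * rw_ = rw_⁻¹ * (s * rw_) := by group
      _ = _ := by rw [sr]; group
  calc rw_⁻¹ * (t * s * k1) * rw_ = (rw_⁻¹ * t * rw_) * (rw_⁻¹ * s * rw_) * (rw_⁻¹ * k1 * rw_) := by group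
    _ = t * w * s * (k1 * (e1⁻¹ * s * rw_ * rw_)) := by rw [h1, h2, h3]
    _ = t * w * s * (k1 * (e1 * s * (rw_ * rw_))) := by rw [e1i]; group
    _ = t * w * (s * k1) * (e1 * s) := by rw [r2]; group
    _ = t * w * (k1 * s) * (s * e1) := by rw [sk, se]
    _ = t * w * k1 * (s * s) * e1 := by group
    _ = _ := by rw [s2]; group

/-- hypotheses of case (II) -/
structure Two (b v w y t k1 k2 s sv rw_ e1 e2 : G) : Prop where
  hw : w = y * k1
  bb : b * b = 1
  vv : v * v = 1
  ww : w * w = 1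
  k11 : k1 * k1 = b
  k22 : k2 * k2 = v
  kk : k2 * k1 = k1 * k2
  yk1 : k1⁻¹ * y * k1 = y * b
  tt : t * t = 1
  ty : t * y = y * t
  tk1 : t * k1 = k1 * t
  tk2 : t * k2 = k2 * t
  ts : t * s = s * t * b
  tsv : t * sv = sv * t * v
  tr : t * rw_ = rw_ * t * w
  s_y : s * y = y * s
  s_k1 : s * k1 = k1 * s
  sv_y : sv * y = y * sv
  sv_k1 : sv * k1 = k1 * sv * v
  sv_k2 : sv * k2 = k2 * sv
  sr : s * rw_ = rw_ * s
  wr : w * rw_ = rw_ * w
  rr : rw_ * rw_ = w
  e11 : e1 * e1 = 1
  e22 : e2 * e2 = 1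
  /-- `b`, `v`, `e1`, `e2` are central -/
  cb : ∀ x ∈ ({y, t, k1, k2, s, sv, rw_, v, e1, e2} : Set G), Commute b x
  cv : ∀ x ∈ ({y, t, k1, k2, s, sv, rw_, e1, e2} : Set G), Commute v x
  ce1 : ∀ x ∈ ({y, t, k1, k2, s, sv, rw_, e2} : Set G), Commute e1 x
  ce2 : ∀ x ∈ ({y, t, k1, k2, s, sv, rw_} : Set G), Commute e2 x
  h1 : k1⁻¹ * rw_ * k1 = rw_⁻¹ * s⁻¹ * e1
  h2 : k2⁻¹ * rw_ * k2 = rw_⁻¹ * (sv * k2 * t)⁻¹ * e2

theorem Two.conj_k1 (h : Two b v w y t k1 k2 s sv rw_ e1 e2) : rw_⁻¹ * k1 * rw_ = k1 * (e1 * s * w) := by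
  rw [conj_swap h.h1, inv_eq_of_mul_eq_one_left h.e11]
  calc k1 * (e1 * s * rw_ * rw_) = k1 * (e1 * s * (rw_ * rw_)) := by group
    _ = _ := by rw [h.rr]

theorem Two.conj_k2 (h : Two b v w y t k1 k2 s sv rw_ e1 e2) :
    rw_⁻¹ * k2 * rw_ = k2 * (e2 * (sv * k2 * t) * w) := by
  rw [conj_swap h.h2, inv_eq_of_mul_eq_one_left h.e22]
  calc k2 * (e2 * (sv * k2 * t) * rw_ * rw_) = k2 * (e2 * (sv * k2 * t) * (rw_ * rw_)) := by group
    _ = _ := by rw [h.rr]

theorem Two.conj_w (h : Two b v w y t k1 k2 s sv rw_ e1 e2) : rw_⁻¹ * w * rw_ = w := by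
  calc rw_⁻¹ * w * rw_ = rw_⁻¹ * (w * rw_) := by group
    _ = _ := by rw [h.wr]; group

theorem Two.conj_t (h : Two b v w y t k1 k2 s sv rw_ e1 e2) : rw_⁻¹ * t * rw_ = t * w := by
  calc rw_⁻¹ * t * rw_ = rw_⁻¹ * (t * rw_) := by group
    _ = _ := by rw [h.tr]; group

theorem Two.conj_s (h : Two b v w y t k1 k2 s sv rw_ e1 e2) : rw_⁻¹ * s * rw_ = s := by
  calc rw_⁻¹ * s * rw_ = rw_⁻¹ * (s * rw_) := by group
    _ = _ := by rw [h.sr]; group

theorem Two.conj_y (h : Two b v w y t k1 k2 s sv rw_ e1 e2) : rw_⁻¹ * y * rw_ = s⁻¹ * k1⁻¹ * e1 := by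
  have hy : y = w * k1⁻¹ := by rw [h.hw]; group
  have c1 : Commute e1 k1 := h.ce1 k1 (by simp)
  calc rw_⁻¹ * y * rw_ = (rw_⁻¹ * w * rw_) * (rw_⁻¹ * k1 * rw_)⁻¹ := by rw [hy]; group
    _ = w * (k1 * (e1 * s * w))⁻¹ := by rw [h.conj_w, h.conj_k1]
    _ = s⁻¹ * (e1⁻¹ * k1⁻¹) := by group
    _ = s⁻¹ * (k1⁻¹ * e1⁻¹) := by rw [c1.inv_left.inv_right.eq]
    _ = _ := by rw [inv_eq_of_mul_eq_one_left h.e11]; group

/-- (α) -/
theorem Two.alpha (h : Two b v w y t k1 k2 s sv rw_ e1 e2) : rw_⁻¹ * (t * (s * y)) * rw_ = t * (y * e1) := by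
  calc rw_⁻¹ * (t * (s * y)) * rw_ = (rw_⁻¹ * t * rw_) * (rw_⁻¹ * s * rw_) * (rw_⁻¹ * y * rw_) := by group
    _ = t * w * s * (s⁻¹ * k1⁻¹ * e1) := by rw [h.conj_t, h.conj_s, h.conj_y]
    _ = t * (w * k1⁻¹) * e1 := by group
    _ = t * (y * k1 * k1⁻¹) * e1 := by rw [h.hw]
    _ = _ := by group

/-- (β) -/
theorem Two.beta (h : Two b v w y t k1 k2 s sv rw_ e1 e2) : rw_⁻¹ * (t * (k2 * w)) * rw_ = w * e2 * sv := by
  have tw : t * w = w * t := by
    rw [h.hw, ← mul_assoc, h.ty, mul_assoc, h.tk1, mul_assoc]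
  have c1 : Commute e2 t := h.ce2 t (by simp)
  have c2 : Commute e2 k2 := h.ce2 k2 (by simp)
  have c3 : Commute v k2 := h.cv k2 (by simp)
  have c4 : Commute v t := h.cv t (by simp)
  have c5 : Commute v e2 := h.cv e2 (by simp)
  have c6 : Commute v sv := h.cv sv (by simp)
  calc rw_⁻¹ * (t * (k2 * w)) * rw_ = (rw_⁻¹ * t * rw_) * (rw_⁻¹ * k2 * rw_) * (rw_⁻¹ * w * rw_) := by group
    _ = t * w * (k2 * (e2 * (sv * k2 * t) * w)) * w := by rw [h.conj_t, h.conj_k2, h.conj_w]
    _ = (t * w) * k2 * e2 * sv * k2 * t * (w * w) := by group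
    _ = (w * t) * k2 * e2 * sv * k2 * t := by rw [tw, h.ww, mul_one]
    _ = w * (t * k2) * e2 * sv * k2 * t := by group
    _ = w * (k2 * t) * e2 * sv * k2 * t := by rw [h.tk2]
    _ = w * k2 * (t * e2) * sv * k2 * t := by group
    _ = w * k2 * (e2 * t) * sv * k2 * t := by rw [c1.eq]
    _ = w * k2 * e2 * (t * sv) * k2 * t := by group
    _ = w * k2 * e2 * (sv * t * v) * k2 * t := by rw [h.tsv]
    _ = w * k2 * e2 * sv * t * (v * k2) * t := by group
    _ = w * k2 * e2 * sv * t * (k2 * v) * t := by rw [c3.eq]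
    _ = w * k2 * e2 * sv * (t * k2) * (v * t) := by group
    _ = w * k2 * e2 * sv * (k2 * t) * (t * v) := by rw [h.tk2, c4.eq]
    _ = w * k2 * e2 * (sv * k2) * (t * t) * v := by group
    _ = w * k2 * e2 * (k2 * sv) * v := by rw [h.sv_k2, h.tt, mul_one]
    _ = w * k2 * (e2 * k2) * (sv * v) := by group
    _ = w * k2 * (k2 * e2) * (v * sv) := by rw [c2.eq, c6.eq]
    _ = w * (k2 * k2) * e2 * v * sv := by group
    _ = w * v * (e2 * v) * sv := by rw [h.k22]; group
    _ = w * v * (v * e2) * sv := by rw [c5.eq]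
    _ = w * (v * v) * e2 * sv := by group
    _ = _ := by rw [h.vv, mul_one]

/-- (γ) -/
theorem Two.gamma (h : Two b v w y t k1 k2 s sv rw_ e1 e2) :
    rw_⁻¹ * (s * (y * k2)) * rw_ = t * (sv * y) * (b * v * e1 * e2) := by
  have tw : t * w = w * t := by
    rw [h.hw, ← mul_assoc, h.ty, mul_assoc, h.tk1, mul_assoc]
  have a1 : Commute e1 k2 := h.ce1 k2 (by simp)
  have a2 : Commute e1 sv := h.ce1 sv (by simp)
  have a3 : Commute e1 y := h.ce1 y (by simp)
  have a4 : Commute e1 t := h.ce1 t (by simp)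
  have a5 : Commute e1 k1 := h.ce1 k1 (by simp)
  have c1 : Commute e2 t := h.ce2 t (by simp)
  have c2 : Commute e2 k2 := h.ce2 k2 (by simp)
  have c3 : Commute e2 sv := h.ce2 sv (by simp)
  have c4 : Commute e2 y := h.ce2 y (by simp)
  have c5 : Commute e2 k1 := h.ce2 k1 (by simp)
  have v1 : Commute v k2 := h.cv k2 (by simp)
  have v2 : Commute v t := h.cv t (by simp)
  have v3 : Commute v sv := h.cv sv (by simp)
  have v4 : Commute v y := h.cv y (by simp)
  have v5 : Commute v k1 := h.cv k1 (by simp)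
  have b1 : Commute b sv := h.cb sv (by simp)
  have b2 : Commute b t := h.cb t (by simp)
  -- move `e1`, `e2` to the right
  have f1 : Commute (e1 * e2) (k2 * (sv * k2 * t) * w) := by
    have g1 : Commute e1 (k2 * (sv * k2 * t) * w) := by
      rw [h.hw]
      exact (a1.mul_right ((a2.mul_right a1).mul_right a4)).mul_right (a3.mul_right a5)
    have g2 : Commute e2 (k2 * (sv * k2 * t) * w) := by
      rw [h.hw]
      exact (c2.mul_right ((c3.mul_right c2).mul_right c1)).mul_right (c4.mul_right c5)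
    exact g1.mul_left g2
  have f2 : k2 * (sv * k2 * t) * w = v * (y * k1) * (sv * v) * t := by
    calc k2 * (sv * k2 * t) * w = k2 * (sv * k2) * (t * w) := by group
      _ = k2 * (k2 * sv) * (w * t) := by rw [h.sv_k2, tw]
      _ = (k2 * k2) * sv * (y * k1) * t := by rw [h.hw]; group
      _ = v * (sv * y) * k1 * t := by rw [h.k22]; group
      _ = v * (y * sv) * k1 * t := by rw [h.sv_y]
      _ = v * y * (sv * k1) * t := by group
      _ = v * y * (k1 * sv * v) * t := by rw [h.sv_k1]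
      _ = _ := by group
  have f3 : sv * t = t * sv * v := by
    rw [h.tsv]
    calc sv * t = sv * t * (v * v) := by rw [h.vv, mul_one]
      _ = _ := by group
  calc rw_⁻¹ * (s * (y * k2)) * rw_ = (rw_⁻¹ * s * rw_) * (rw_⁻¹ * y * rw_) * (rw_⁻¹ * k2 * rw_) := by group
    _ = s * (s⁻¹ * k1⁻¹ * e1) * (k2 * (e2 * (sv * k2 * t) * w)) := by
      rw [h.conj_s, h.conj_y, h.conj_k2]
    _ = k1⁻¹ * (e1 * ((k2 * e2) * ((sv * k2 * t) * w))) := by group
    _ = k1⁻¹ * (e1 * ((e2 * k2) * ((sv * k2 * t) * w))) := by rw [c2.eq]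
    _ = k1⁻¹ * ((e1 * e2) * (k2 * (sv * k2 * t) * w)) := by group
    _ = k1⁻¹ * ((k2 * (sv * k2 * t) * w) * (e1 * e2)) := by rw [f1.eq]
    _ = k1⁻¹ * ((v * (y * k1) * (sv * v) * t) * (e1 * e2)) := by rw [f2]
    _ = (k1⁻¹ * v) * y * k1 * (sv * v) * t * (e1 * e2) := by group
    _ = (v * k1⁻¹) * y * k1 * (v * sv) * t * (e1 * e2) := by rw [v5.inv_right.eq, v3.eq]
    _ = v * (k1⁻¹ * y * k1) * v * (sv * t) * (e1 * e2) := by group
    _ = v * (y * b) * v * (t * sv * v) * (e1 * e2) := by rw [h.yk1, f3]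
    _ = (v * y) * (b * v) * t * sv * (v * (e1 * e2)) := by group
    _ = (y * v) * (v * b) * t * sv * (v * (e1 * e2)) := by
      rw [v4.eq, (h.cb v (by simp)).eq]
    _ = y * (v * v) * (b * t) * sv * (v * (e1 * e2)) := by group
    _ = y * (t * b) * sv * (v * (e1 * e2)) := by rw [h.vv, mul_one, b2.eq]
    _ = (y * t) * (b * sv) * (v * (e1 * e2)) := by group
    _ = (t * y) * (sv * b) * (v * (e1 * e2)) := by rw [h.ty, b1.eq]
    _ = t * (y * sv) * b * (v * (e1 * e2)) := by group
    _ = t * (sv * y) * b * (v * (e1 * e2)) := by rw [h.sv_y]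
    _ = _ := by group

end Final

end Cfsg.Agent.CoThreeStd.DeltaRel
end

-- part: CoThreeStd/DeltaLoc
section
/-!
# Pattern δ of S1750: the local subgroups (helper178)

`Amb`: the relations in `C_G(t) = ⟨t⟩ × M₁₂` between `t, b, v, y, k1, k2, w, p, q, d`.
-/

set_option autoImplicit false

namespace Cfsg.Agent.CoThreeStd.DeltaLoc

open Cfsg.Agent.CoThreeStd.DeltaRel

variable {G : Type*} [Group G]

/-- conjugation `x ↦ g⁻¹ x g` -/
def cj (g : G) : G →* G := (MulAut.conj g⁻¹).toMonoidHom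

theorem cj_apply (g x : G) : cj g x = g⁻¹ * x * g := by
  show g⁻¹ * x * g⁻¹⁻¹ = _
  rw [inv_inv]

theorem cj_cj (g h x : G) : cj h (cj g x) = cj (g * h) x := by
  simp only [cj_apply]; group

theorem cj_one (x : G) : cj 1 x = x := by
  rw [cj_apply]; group

theorem cj_of_comm {g x : G} (h : x * g = g * x) : cj g x = x := by
  rw [cj_apply, mul_assoc, h]; group

theorem comm_of_cj {g x : G} (h : cj g x = x) : x * g = g * x := by
  rw [cj_apply] at h
  calc x * g = g * (g⁻¹ * x * g) := by group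
    _ = g * x := by rw [h]

theorem cj_eq_iff {g x z : G} : cj g x = z ↔ x * g = g * z := by
  rw [cj_apply]
  constructor
  · rintro rfl; group
  · intro h; rw [mul_assoc, h]; group

theorem cj_injective (g : G) : Function.Injective (cj g) := (MulAut.conj g⁻¹).injective

/-- the relations in `C_G(t)` -/
structure Amb (t b v y k1 k2 w p q d : G) : Prop where
  tt : t * t = 1
  bb : b * b = 1
  vv : v * v = 1
  yy : y * y = 1
  pp : p * p = 1
  qq : q * q = 1
  dd : d * d = 1
  b1 : b ≠ 1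
  v1 : v ≠ 1
  bv1 : b ≠ v
  y1 : ¬ InV b v y
  t1 : ∀ c u, (c = 1 ∨ c = y) → InV b v u → t ≠ c * u
  tw1 : ∀ u, InW b v w u → t ≠ u
  vb : v * b = b * v
  yb : y * b = b * y
  yv : y * v = v * y
  hw : w = y * k1
  k11 : k1 * k1 = b
  k22 : k2 * k2 = v
  kk : k2 * k1 = k1 * k2
  yk1 : cj k1 y = y * b
  yk2 : cj k2 y = y * v
  pb : cj p b = b
  pv : cj p v = b * v
  py : cj p y = y
  pk1 : cj p k1 = k1
  pk2 : cj p k2 = (k1 * k2)⁻¹
  qb : cj q b = v
  qv : cj q v = b
  qy : cj q y = y
  qk1 : cj q k1 = k2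
  qk2 : cj q k2 = k1
  pqp : p * q * p = q * p * q
  db : cj d b = b
  dv : cj d v = w
  dw : cj d w = v
  pd : p * d = k1 * v * y * (d * k1)
  ty : t * y = y * t
  tk1 : t * k1 = k1 * t
  tk2 : t * k2 = k2 * t
  tp : t * p = p * t
  tq : t * q = q * t
  td : t * d = d * t
  cent3 : ∀ g, g * t = t * g → g * b = b * g → g * v = v * g → g * y = y * g →
    ∃ τ c u, (τ = 1 ∨ τ = t) ∧ (c = 1 ∨ c = y) ∧ InV b v u ∧ g = τ * c * u
  centW : ∀ g, g * t = t * g → g * b = b * g → g * v = v * g → g * w = w * g →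
    ∃ τ u, (τ = 1 ∨ τ = t) ∧ InW b v w u ∧ g = τ * u

variable {t b v y k1 k2 w p q d : G}

namespace Amb

variable (A : Amb t b v y k1 k2 w p q d)
include A

theorem k1b : k1 * b = b * k1 := by rw [← A.k11, mul_assoc]
theorem k2v : k2 * v = v * k2 := by rw [← A.k22, mul_assoc]
theorem k2b : k2 * b = b * k2 := by
  rw [← A.k11, ← mul_assoc, A.kk, mul_assoc, A.kk, mul_assoc]
theorem k1v : k1 * v = v * k1 := by
  rw [← A.k22, ← mul_assoc, ← A.kk, mul_assoc, ← A.kk, mul_assoc]
theorem tb : t * b = b * t := by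
  rw [← A.k11, ← mul_assoc, A.tk1, mul_assoc, A.tk1, mul_assoc]
theorem tv : t * v = v * t := by
  rw [← A.k22, ← mul_assoc, A.tk2, mul_assoc, A.tk2, mul_assoc]
theorem tw : t * w = w * t := by
  rw [A.hw, ← mul_assoc, A.ty, mul_assoc, A.tk1, mul_assoc]
theorem wb : w * b = b * w := by
  rw [A.hw, mul_assoc, A.k1b, ← mul_assoc, A.yb, mul_assoc]
theorem wv : w * v = v * w := by
  rw [A.hw, mul_assoc, A.k1v, ← mul_assoc, A.yv, mul_assoc]

/-- the involutions act by inversion -/
theorem inv_b : b⁻¹ = b := inv_eq_of_mul_eq_one_left A.bb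
theorem inv_v : v⁻¹ = v := inv_eq_of_mul_eq_one_left A.vv
theorem inv_y : y⁻¹ = y := inv_eq_of_mul_eq_one_left A.yy
theorem inv_t : t⁻¹ = t := inv_eq_of_mul_eq_one_left A.tt
theorem inv_k1 : k1⁻¹ = k1 * b := by
  apply inv_eq_of_mul_eq_one_left
  rw [mul_assoc, ← A.k1b, ← mul_assoc, A.k11, A.bb]
theorem inv_k2 : k2⁻¹ = k2 * v := by
  apply inv_eq_of_mul_eq_one_left
  rw [mul_assoc, ← A.k2v, ← mul_assoc, A.k22, A.vv]

theorem k1y : cj y k1 = k1⁻¹ := by
  rw [cj_eq_iff, A.inv_k1]
  have h := A.yk1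
  rw [cj_eq_iff] at h
  calc k1 * y = k1 * (y * b) * b := by rw [mul_assoc, mul_assoc y, A.bb, mul_one]
    _ = y * k1 * b := by rw [← h]
    _ = _ := by group

theorem k2y : cj y k2 = k2⁻¹ := by
  rw [cj_eq_iff, A.inv_k2]
  have h := A.yk2
  rw [cj_eq_iff] at h
  calc k2 * y = k2 * (y * v) * v := by rw [mul_assoc, mul_assoc y, A.vv, mul_one]
    _ = y * k2 * v := by rw [← h]
    _ = _ := by group

theorem ww : w * w = 1 := by
  have h := A.k1y
  rw [cj_apply, A.inv_y] at h
  calc w * w = (y * k1 * y) * k1 := by rw [A.hw]; group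
    _ = 1 := by rw [h]; group

theorem wk1 : cj k1 w = w * b := by
  rw [A.hw, map_mul, A.yk1, cj_of_comm rfl]
  rw [mul_assoc, ← A.k1b, mul_assoc]

theorem wk2 : cj k2 w = w * v := by
  rw [A.hw, map_mul, A.yk2, cj_of_comm A.kk.symm]
  rw [mul_assoc, ← A.k1v, mul_assoc]

theorem rb : cj (p * q) b = v := by rw [← cj_cj, A.pb, A.qb]
theorem rv : cj (p * q) v = b * v := by rw [← cj_cj, A.pv, map_mul, A.qb, A.qv, A.vb]
theorem ry : cj (p * q) y = y := by rw [← cj_cj, A.py, A.qy]
theorem rk1 : cj (p * q) k1 = k2 := by rw [← cj_cj, A.pk1, A.qk1]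
theorem rk2 : cj (p * q) k2 = (k1 * k2)⁻¹ := by
  rw [← cj_cj, A.pk2, map_inv, map_mul, A.qk1, A.qk2, A.kk]
theorem rt : cj (p * q) t = t := by
  rw [← cj_cj, cj_of_comm A.tp, cj_of_comm A.tq]
theorem rb' : cj (q * p) b = b * v := by rw [← cj_cj, A.qb, A.pv]
theorem rv' : cj (q * p) v = b := by rw [← cj_cj, A.qv, A.pb]
theorem ry' : cj (q * p) y = y := by rw [← cj_cj, A.qy, A.py]
theorem rt' : cj (q * p) t = t := by
  rw [← cj_cj, cj_of_comm A.tq, cj_of_comm A.tp]

theorem rr (x : G) : cj (p * q) (cj (p * q) x) = cj (q * p) x := by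
  rw [cj_cj]
  congr 1
  have h : p * q * (p * q) = q * p * (q * q) := by
    rw [← mul_assoc, A.pqp]; group
  rw [h, A.qq, mul_one]

theorem rr' (x : G) : cj (p * q) (cj (q * p) x) = x := by
  rw [cj_cj]
  have h : q * p * (p * q) = 1 := by
    calc q * p * (p * q) = q * (p * p) * q := by group
      _ = 1 := by rw [A.pp, mul_one, A.qq]
  rw [h, cj_one]

omit A in
/-- `π ρ = ρ² π` -/
theorem pr1 (x : G) : cj p (cj (p * q) x) = cj (q * p) (cj p x) := by
  rw [cj_cj, cj_cj]; congr 1; group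
theorem pr2 (x : G) : cj p (cj (q * p) x) = cj q x := by
  rw [cj_cj, mul_assoc, A.pp, mul_one]
theorem pr3 (x : G) : cj (p * q) (cj p x) = cj q x := by
  rw [cj_cj, ← mul_assoc, A.pp, one_mul]

theorem mulV {u u' : G} (h : InV b v u) (h' : InV b v u') : InV b v (u * u') := h.mul h' A.bb A.vv A.vb

theorem sqV {u : G} (h : InV b v u) : u * u = 1 := h.sq A.bb A.vv A.vb

theorem invV {u : G} (h : InV b v u) : u⁻¹ = u := inv_eq_of_mul_eq_one_left (A.sqV h)

theorem commVV {u u' : G} (h : InV b v u) (h' : InV b v u') : u * u' = u' * u :=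
  h'.comm (h.comm rfl A.vb.symm).symm (h.comm A.vb rfl).symm

theorem rV {u : G} (h : InV b v u) : InV b v (cj (p * q) u) := by
  rcases h with rfl | rfl | rfl | rfl
  · rw [map_one]; exact Or.inl rfl
  · rw [A.rb]; exact Or.inr (Or.inr (Or.inl rfl))
  · rw [A.rv]; exact Or.inr (Or.inr (Or.inr rfl))
  · rw [map_mul, A.rb, A.rv, ← mul_assoc, A.vb, mul_assoc, A.vv, mul_one]
    exact Or.inr (Or.inl rfl)

theorem rV' {u : G} (h : InV b v u) : InV b v (cj (q * p) u) := by
  rw [← A.rr]; exact A.rV (A.rV h)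

/-- the norm of an element of `V` is trivial -/
theorem normV {u : G} (h : InV b v u) : u * cj (p * q) u * cj (q * p) u = 1 := by
  have e1 : b * v * (b * v) = 1 := by
    rw [← mul_assoc, mul_assoc b, A.vb, ← mul_assoc, A.bb, one_mul, A.vv]
  rcases h with h | h | h | h <;> rw [h]
  · simp
  · rw [A.rb, A.rb', e1]
  · rw [A.rv, A.rv']
    calc v * (b * v) * b = (v * b) * (v * b) := by group
      _ = (b * v) * (b * v) := by rw [A.vb]
      _ = 1 := e1
  · rw [map_mul, map_mul, A.rb, A.rv, A.rb', A.rv']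
    calc b * v * (v * (b * v)) * (b * v * b) = b * (v * v) * (b * v) * (b * v) * b := by group
      _ = b * (b * v * (b * v)) * b := by rw [A.vv]; group
      _ = 1 := by rw [e1, mul_one, A.bb]

theorem rV_eq {u : G} (h : InV b v u) (h2 : cj (p * q) u = u) : u = 1 := by
  have h3 : cj (q * p) u = u := by rw [← A.rr, h2, h2]
  have h4 := A.normV h
  rw [h2, h3, A.sqV h, one_mul] at h4
  exact h4

end Amb

theorem cj_map (g X x : G) : cj (cj g X) (cj g x) = cj g (cj X x) := by
  simp only [cj_apply]; group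

theorem comm_map {X x : G} (g : G) (h : X * x = x * X) : cj g X * cj g x = cj g x * cj g X := by
  rw [← map_mul, h, map_mul]

/-- `X` centralises `b, v, y` and maps `t` to `t x` -/
def Over (t b v y x X : G) : Prop := cj X t = t * x ∧ X * b = b * X ∧ X * v = v * X ∧ X * y = y * X

namespace Amb

variable (A : Amb t b v y k1 k2 w p q d)
include A

theorem over_rho {x X : G} (h : Over t b v y x X) : Over t b v y (cj (p * q) x) (cj (p * q) X) := by
  obtain ⟨h1, h2, h3, h4⟩ := h
  have e1 := comm_map (p * q) h2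
  have e2 := comm_map (p * q) h3
  have e3 := comm_map (p * q) h4
  rw [A.rb] at e1
  rw [A.rv] at e2
  rw [A.ry] at e3
  refine ⟨?_, ?_, e1, e3⟩
  · have h5 := cj_map (p * q) X t
    rw [A.rt, h1, map_mul, A.rt] at h5
    exact h5
  · have : b = b * v * v := by rw [mul_assoc, A.vv, mul_one]
    rw [this, ← mul_assoc, e2, mul_assoc, e1]
    group

theorem over_rho' {x X : G} (h : Over t b v y x X) : Over t b v y (cj (q * p) x) (cj (q * p) X) := by
  rw [← A.rr, ← A.rr]
  exact A.over_rho (A.over_rho h)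

omit A in
theorem _root_.Cfsg.Agent.CoThreeStd.DeltaLoc.Over.mul {x x' X X' : G} (h : Over t b v y x X)
    (h' : Over t b v y x' X') (hx : InV b v x) : Over t b v y (x' * x) (X * X') := by
  obtain ⟨h1, h2, h3, h4⟩ := h
  obtain ⟨g1, g2, g3, g4⟩ := h'
  refine ⟨?_, ?_, ?_, ?_⟩
  · rw [← cj_cj, h1, map_mul, g1, cj_of_comm (hx.comm g2 g3).symm, mul_assoc]
  · rw [mul_assoc, g2, ← mul_assoc, h2, mul_assoc]
  · rw [mul_assoc, g3, ← mul_assoc, h3, mul_assoc]
  · rw [mul_assoc, g4, ← mul_assoc, h4, mul_assoc]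

theorem over_one {X : G} (h : Over t b v y 1 X) :
    ∃ τ c u, (τ = 1 ∨ τ = t) ∧ (c = 1 ∨ c = y) ∧ InV b v u ∧ X = τ * c * u := by
  obtain ⟨h1, h2, h3, h4⟩ := h
  rw [mul_one] at h1
  exact A.cent3 X (comm_of_cj h1).symm h2 h3 h4

/-- properties of `c ∈ {1, t, y, ty}` -/
theorem c_props {τ c : G} (hτ : τ = 1 ∨ τ = t) (hc : c = 1 ∨ c = y) :
    (τ * c) * (τ * c) = 1 ∧ cj (p * q) (τ * c) = τ * c ∧ cj (q * p) (τ * c) = τ * c ∧
    Over t b v y 1 (τ * c) := by
  have ht : τ * t = t * τ := by rcases hτ with rfl | rfl <;> simp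
  have ty' : τ * y = y * τ := by
    rcases hτ with rfl | rfl
    · simp
    · exact A.ty
  have tb' : τ * b = b * τ := by
    rcases hτ with rfl | rfl
    · simp
    · exact A.tb
  have tv' : τ * v = v * τ := by
    rcases hτ with rfl | rfl
    · simp
    · exact A.tv
  have cτ : c * τ = τ * c := by
    rcases hc with rfl | rfl
    · simp
    · exact ty'.symm
  have ct : c * t = t * c := by
    rcases hc with rfl | rfl
    · simp
    · exact A.ty.symm
  have cb : c * b = b * c := by
    rcases hc with rfl | rfl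
    · simp
    · exact A.yb
  have cv : c * v = v * c := by
    rcases hc with rfl | rfl
    · simp
    · exact A.yv
  have cy : c * y = y * c := by
    rcases hc with rfl | rfl <;> simp
  have τ2 : τ * τ = 1 := by
    rcases hτ with rfl | rfl
    · simp
    · exact A.tt
  have c2 : c * c = 1 := by
    rcases hc with rfl | rfl
    · simp
    · exact A.yy
  refine ⟨?_, ?_, ?_, ?_, ?_, ?_, ?_⟩
  · rw [mul_assoc, ← mul_assoc c, cτ, mul_assoc, c2, mul_one, τ2]
  · rw [map_mul]
    rcases hτ with rfl | rfl <;> rcases hc with rfl | rfl <;> simp [A.rt, A.ry]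
  · rw [map_mul]
    rcases hτ with rfl | rfl <;> rcases hc with rfl | rfl <;> simp [A.rt', A.ry']
  · rw [mul_one]
    apply cj_of_comm
    rw [← mul_assoc, ← ht, mul_assoc, ← ct, mul_assoc]
  · rw [mul_assoc, cb, ← mul_assoc, tb', mul_assoc]
  · rw [mul_assoc, cv, ← mul_assoc, tv', mul_assoc]
  · rw [mul_assoc, cy, ← mul_assoc, ty', mul_assoc]

/-- normalisation: `X X^{pq} X^{qp} = 1` -/
theorem exists_norm {X : G} (h : Over t b v y b X) :
    ∃ τ c, (τ = 1 ∨ τ = t) ∧ (c = 1 ∨ c = y) ∧ Over t b v y b (X * (τ * c)) ∧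
      (X * (τ * c)) * cj (p * q) (X * (τ * c)) * cj (q * p) (X * (τ * c)) = 1 := by
  have o1 := A.over_rho h
  have o2 := A.over_rho' h
  rw [A.rb] at o1
  rw [A.rb'] at o2
  have hbV : InV b v b := Or.inr (Or.inl rfl)
  have hvV : InV b v v := Or.inr (Or.inr (Or.inl rfl))
  have o3 := (h.mul o1 hbV).mul o2 (A.mulV hvV hbV)
  have e1 : b * v * (v * b) = 1 := by
    calc b * v * (v * b) = b * (v * v) * b := by group
      _ = 1 := by rw [A.vv, mul_one, A.bb]
  rw [e1] at o3
  obtain ⟨τ, c, u, hτ, hc, hu, hP⟩ := A.over_one o3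
  obtain ⟨c2, rc, rc', oc⟩ := A.c_props hτ hc
  refine ⟨τ, c, hτ, hc, ?_, ?_⟩
  · have := h.mul oc hbV
    rwa [one_mul] at this
  obtain ⟨z, hz⟩ : ∃ z, z = τ * c := ⟨_, rfl⟩
  rw [← hz] at hP c2 rc rc' oc ⊢
  obtain ⟨X1, hX1⟩ : ∃ X1, X1 = cj (p * q) X := ⟨_, rfl⟩
  obtain ⟨X2, hX2⟩ : ∃ X2, X2 = cj (q * p) X := ⟨_, rfl⟩
  rw [← hX1, ← hX2] at hP
  rw [← hX1] at o1
  rw [← hX2] at o2
  -- `z ^ X1 = z u1`
  obtain ⟨u1, hu1, hzX⟩ : ∃ u1, InV b v u1 ∧ z * X1 = X1 * (z * u1) := by
    have hc1 : cj X1 c = c := by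
      rcases hc with rfl | rfl
      · exact map_one _
      · exact cj_of_comm o1.2.2.2.symm
    rcases hτ with h0 | h0
    · refine ⟨1, Or.inl rfl, ?_⟩
      rw [← cj_eq_iff, hz, h0, map_mul, map_one, hc1, mul_one]
    · refine ⟨v, hvV, ?_⟩
      rw [← cj_eq_iff, hz, h0, map_mul, o1.1, hc1, mul_assoc, mul_assoc]
      congr 1
      rcases hc with rfl | rfl
      · simp
      · exact A.yv.symm
  have zu1 : z * u1 = u1 * z := hu1.comm oc.2.1 oc.2.2.1
  have X2u1 : X2 * u1 = u1 * X2 := hu1.comm o2.2.1 o2.2.2.1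
  have key : X * z * cj (p * q) (X * z) * cj (q * p) (X * z) = u * u1 := by
    rw [map_mul, map_mul, rc, rc', ← hX1, ← hX2]
    calc X * z * (X1 * z) * (X2 * z) = X * (z * X1) * z * X2 * z := by group
      _ = X * (X1 * (z * u1)) * z * X2 * z := by rw [hzX]
      _ = X * X1 * (z * u1) * z * X2 * z := by group
      _ = X * X1 * (u1 * z) * z * X2 * z := by rw [zu1]
      _ = X * X1 * u1 * (z * z) * X2 * z := by group
      _ = X * X1 * (u1 * X2) * z := by rw [c2]; group
      _ = X * X1 * (X2 * u1) * z := by rw [X2u1]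
      _ = (X * X1 * X2) * (u1 * z) := by group
      _ = (z * u) * (z * u1) := by rw [hP, zu1]
      _ = z * (u * z) * u1 := by group
      _ = z * (z * u) * u1 := by rw [hu.comm oc.2.1 oc.2.2.1]
      _ = (z * z) * u * u1 := by group
      _ = _ := by rw [c2, one_mul]
  have huu : InV b v (u * u1) := A.mulV hu hu1
  have hXz : Over t b v y b (X * z) := by
    have := h.mul oc hbV
    rwa [one_mul] at this
  apply A.rV_eq (u := X * z * cj (p * q) (X * z) * cj (q * p) (X * z)) (by rw [key]; exact huu)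
  rw [map_mul, map_mul, A.rr, A.rr']
  have h7 : (X * z) * (X * z * cj (p * q) (X * z) * cj (q * p) (X * z)) =
      (X * z * cj (p * q) (X * z) * cj (q * p) (X * z)) * (X * z) := by
    rw [key]
    exact huu.comm hXz.2.1 hXz.2.2.1
  have h8 : (X * z) * (cj (p * q) (X * z) * cj (q * p) (X * z) * (X * z)) =
      (X * z) * (X * z * cj (p * q) (X * z) * cj (q * p) (X * z)) := by
    rw [h7]; group
  exact mul_left_cancel h8

end Amb

/-- properties of the normalised `X` -/
structure XOK (t b v y k1 k2 p q X u1 u2 c u : G) : Prop where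
  ov : Over t b v y b X
  prod : X * cj (p * q) X * cj (q * p) X = 1
  hu1 : InV b v u1
  hu2 : InV b v u2
  hc : c = 1 ∨ c = y
  hu : InV b v u
  k1X : cj X k1 = k1 * u1
  k2X : cj X k2 = k2 * u2
  pX : cj X p = p * (c * u)

namespace Amb

variable (A : Amb t b v y k1 k2 w p q d)
include A

variable {X u1 u2 c u : G}

omit A in
theorem fixV {x X : G} (o : Over t b v y x X) {u : G} (hu : InV b v u) : cj X u = u :=
  cj_of_comm (hu.comm o.2.1 o.2.2.1).symm

theorem x_sq (h : XOK t b v y k1 k2 p q X u1 u2 c u) : InV b v (X * X) := by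
  have hbV : InV b v b := Or.inr (Or.inl rfl)
  have o := h.ov.mul h.ov hbV
  rw [A.bb] at o
  obtain ⟨τ, c', u', hτ, hc', hu', hXX⟩ := A.over_one o
  have hXy : cj X y = y := cj_of_comm h.ov.2.2.2.symm
  have hc'' : cj X c' = c' := by
    rcases hc' with rfl | rfl
    · exact map_one _
    · exact hXy
  have h1 : cj X (X * X) = X * X := cj_of_comm (mul_assoc X X X)
  rcases hτ with h0 | h0
  · rcases hc' with h0' | h0'
    · rw [hXX, h0, h0', one_mul, one_mul]; exact hu'
    · exfalso
      have h2 : cj (X * X) k1 = k1 := by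
        rw [← cj_cj, h.k1X, map_mul, h.k1X, fixV h.ov h.hu1, mul_assoc, A.sqV h.hu1, mul_one]
      rw [hXX, h0, h0', one_mul, ← cj_cj, A.k1y, map_inv,
        cj_of_comm (hu'.comm A.k1b A.k1v)] at h2
      have h3 : k1 * k1 = 1 := by
        nth_rewrite 1 [← h2]
        group
      rw [A.k11] at h3
      exact A.b1 h3
  · exfalso
    rw [hXX, h0, map_mul, map_mul, h.ov.1, hc'', fixV h.ov hu'] at h1
    have h2 : t * b * c' * u' = t * c' * u' := h1
    have h3 : t * b * c' = t * c' := mul_right_cancel h2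
    have h4 : t * b = t := mul_right_cancel h3
    exact A.b1 (mul_eq_left.1 h4)

theorem x_comm (h : XOK t b v y k1 k2 p q X u1 u2 c u) : X * cj (p * q) X = cj (p * q) X * X := by
  have h0 := A.x_sq h
  have h1 := h.prod
  obtain ⟨X1, hX1⟩ : ∃ X1, X1 = cj (p * q) X := ⟨_, rfl⟩
  obtain ⟨X2, hX2⟩ : ∃ X2, X2 = cj (q * p) X := ⟨_, rfl⟩
  have o1 := A.over_rho h.ov
  rw [A.rb] at o1
  have s1 : X1 * X1 = cj (p * q) (X * X) := by rw [hX1, map_mul]
  have s2 : X2 * X2 = cj (q * p) (X * X) := by rw [hX2, map_mul]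
  rw [← hX1, ← hX2] at h1
  rw [← hX1] at o1 ⊢
  have h2 : (X * X1) * (X * X1) = (X2 * X2)⁻¹ := by
    have : X * X1 = X2⁻¹ := eq_inv_of_mul_eq_one_left h1
    rw [this]; group
  obtain ⟨a, ha⟩ : ∃ a, a = X * X := ⟨_, rfl⟩
  rw [← ha] at h0 s1 s2
  have ha1 := A.rV h0
  have ha2 := A.rV' h0
  rw [s2, A.invV ha2] at h2
  have n := A.normV h0
  -- X1 X = X X1
  have h3 : X * (X1 * X) * X1 = X * (X * X1) * X1 := by
    calc X * (X1 * X) * X1 = (X * X1) * (X * X1) := by group
      _ = cj (q * p) a := h2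
      _ = a * cj (p * q) a := by
        have : a * cj (p * q) a = (cj (q * p) a)⁻¹ := eq_inv_of_mul_eq_one_left n
        rw [this, A.invV ha2]
      _ = (X * X) * (X1 * X1) := by rw [s1, ha]
      _ = _ := by group
  exact (mul_left_cancel (mul_right_cancel h3)).symm

theorem x_prod' (h : XOK t b v y k1 k2 p q X u1 u2 c u) : X * cj (q * p) X * cj (p * q) X = 1 := by
  have h1 := h.prod
  have h2 := A.x_comm h
  have h3 : cj (q * p) X = (X * cj (p * q) X)⁻¹ := eq_inv_of_mul_eq_one_right h1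
  rw [h3, h2]
  group

theorem x_p (h : XOK t b v y k1 k2 p q X u1 u2 c u) : c = 1 ∧ cj p X = X * u := by
  have hcu : c * u = u * c := by
    rcases h.hc with h0 | h0
    · rw [h0]; simp
    · rw [h0]; exact h.hu.comm A.yb A.yv
  have hpX : cj p X = X * (c * u) := by
    have h1 := h.pX
    rw [cj_eq_iff] at h1
    have h2 : X * p = p * (X * (c * u)) := by
      have e2 : (c * u) * (c * u) = 1 := by
        rcases h.hc with h0 | h0
        · rw [h0, one_mul, A.sqV h.hu]
        · have : u * c = c * u := hcu.symm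
          calc c * u * (c * u) = c * (u * c) * u := by group
            _ = c * (c * u) * u := by rw [this]
            _ = (c * c) * (u * u) := by group
            _ = 1 := by rw [A.sqV h.hu, h0, A.yy, one_mul]
      calc X * p = X * (p * (c * u)) * (c * u) := by
            rw [mul_assoc X, mul_assoc p, e2, mul_one]
        _ = p * X * (c * u) := by rw [← h1]
        _ = _ := by group
    rw [cj_eq_iff, h2]
  rcases h.hc with h0 | h0
  · exact ⟨h0, by rw [hpX, h0, one_mul]⟩
  · exfalso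
    have h1 : cj p (X * cj (p * q) X * cj (q * p) X) = 1 := by rw [h.prod, map_one]
    rw [map_mul, map_mul, pr1, A.pr2, ← A.pr3, hpX, map_mul (cj (q * p)) X, map_mul (cj (p * q)) X] at h1
    have o1 := A.over_rho h.ov
    have o2 := A.over_rho' h.ov
    obtain ⟨X1, hX1⟩ : ∃ X1, X1 = cj (p * q) X := ⟨_, rfl⟩
    obtain ⟨X2, hX2⟩ : ∃ X2, X2 = cj (q * p) X := ⟨_, rfl⟩
    have h2 := A.x_prod' h
    have r1 : cj (p * q) (c * u) = c * cj (p * q) u := by rw [map_mul, h0, A.ry]
    have r2 : cj (q * p) (c * u) = c * cj (q * p) u := by rw [map_mul, h0, A.ry']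
    rw [r1, r2, ← hX1, ← hX2] at h1
    rw [← hX1, ← hX2] at h2
    rw [← hX1] at o1
    rw [← hX2] at o2
    have hu1' := A.rV h.hu
    have hu2' := A.rV' h.hu
    have nn := A.normV h.hu
    obtain ⟨a1, ha1⟩ : ∃ a1, a1 = cj (p * q) u := ⟨_, rfl⟩
    obtain ⟨a2, ha2⟩ : ∃ a2, a2 = cj (q * p) u := ⟨_, rfl⟩
    rw [← ha1, ← ha2] at h1 nn
    rw [← ha1] at hu1'
    rw [← ha2] at hu2'
    rw [h0] at h1
    -- move everything
    have g1 : Commute (y * u) X2 := by
      have x1 : Commute X2 y := o2.2.2.2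
      have x2 : Commute X2 u := h.hu.comm o2.2.1 o2.2.2.1
      exact (x1.mul_right x2).symm
    have g2 : Commute (y * u) X1 := by
      have x1 : Commute X1 y := o1.2.2.2
      have x2 : Commute X1 u := h.hu.comm o1.2.1 o1.2.2.1
      exact (x1.mul_right x2).symm
    have g3 : Commute (y * a2) X1 := by
      have x1 : Commute X1 y := o1.2.2.2
      have x2 : Commute X1 a2 := hu2'.comm o1.2.1 o1.2.2.1
      exact (x1.mul_right x2).symm
    have y1 : Commute y u := h.hu.comm A.yb A.yv
    have y2 : Commute y a2 := hu2'.comm A.yb A.yv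
    have y3 : Commute y a1 := hu1'.comm A.yb A.yv
    have y4 : Commute a2 a1 := A.commVV hu2' hu1'
    have h3 : X * (y * u) * (X2 * (y * a2)) * (X1 * (y * a1)) = X * X2 * X1 * y := by
      calc X * (y * u) * (X2 * (y * a2)) * (X1 * (y * a1))
          = X * ((y * u) * X2) * ((y * a2) * X1) * (y * a1) := by group
        _ = X * (X2 * (y * u)) * (X1 * (y * a2)) * (y * a1) := by rw [g1.eq, g3.eq]
        _ = X * X2 * ((y * u) * X1) * (y * a2) * (y * a1) := by group
        _ = X * X2 * (X1 * (y * u)) * (y * a2) * (y * a1) := by rw [g2.eq]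
        _ = X * X2 * X1 * (y * (u * y) * (a2 * y) * a1) := by group
        _ = X * X2 * X1 * (y * (y * u) * (y * a2) * a1) := by rw [y1.eq, y2.eq]
        _ = X * X2 * X1 * ((y * y) * (u * y) * (a2 * a1)) := by group
        _ = X * X2 * X1 * (y * (u * (a1 * a2))) := by rw [A.yy, ← y1.eq, y4.eq]; group
        _ = X * X2 * X1 * (y * (u * a1 * a2)) := by group
        _ = _ := by rw [nn, mul_one]
    rw [h3, h2, one_mul] at h1
    apply A.y1
    rw [h1]
    exact Or.inl rfl

/-- elements of `V` fixed by `p` -/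
theorem fix_p {u : G} (h : InV b v u) (h2 : cj p u = u) : u = 1 ∨ u = b := by
  rcases h with h0 | h0 | h0 | h0
  · exact Or.inl h0
  · exact Or.inr h0
  · exfalso
    rw [h0, A.pv] at h2
    exact A.b1 (mul_eq_right.1 h2)
  · exfalso
    rw [h0, map_mul, A.pb, A.pv, ← mul_assoc, A.bb, one_mul] at h2
    exact A.b1 (mul_eq_right.1 h2.symm)

theorem x_sq' (h : XOK t b v y k1 k2 p q X u1 u2 c u) : X * X = 1 ∨ X * X = b := by
  apply A.fix_p (A.x_sq h)
  rw [map_mul, (A.x_p h).2]
  calc X * u * (X * u) = X * (u * X) * u := by group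
    _ = X * (X * u) * u := by rw [(h.hu.comm h.ov.2.1 h.ov.2.2.1)]
    _ = X * X * (u * u) := by group
    _ = _ := by rw [A.sqV h.hu, mul_one]

theorem x_u1 (h : XOK t b v y k1 k2 p q X u1 u2 c u) : u1 = 1 ∨ u1 = b := by
  apply A.fix_p h.hu1
  have h1 := cj_map p X k1
  rw [h.k1X, map_mul, A.pk1, (A.x_p h).2, ← cj_cj, h.k1X, map_mul,
    cj_of_comm (h.hu.comm A.k1b A.k1v), cj_of_comm (A.commVV h.hu1 h.hu)] at h1
  exact (mul_left_cancel h1).symm

theorem x_u2 (h : XOK t b v y k1 k2 p q X u1 u2 c u) : u2 = u1 * cj (p * q) u1 := by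
  have o1 := A.over_rho h.ov
  have o2 := A.over_rho' h.ov
  have h3 : cj (p * q) (k1 * k2)⁻¹ = k1 := by
    rw [map_inv, map_mul, A.rk1, A.rk2]; group
  have h4 : cj (q * p) k2 = k1 := by rw [← A.rr, A.rk2, h3]
  have kX : cj X (k1 * k2)⁻¹ = (k1 * k2)⁻¹ * (u1 * u2) := by
    have c1 : Commute k2 u1 := h.hu1.comm A.k2b A.k2v
    have c2 : Commute k1 u1 := h.hu1.comm A.k1b A.k1v
    have c3 : Commute k2 u2 := h.hu2.comm A.k2b A.k2v
    have c4 : Commute k1 u2 := h.hu2.comm A.k1b A.k1v
    have c5 : Commute u1 u2 := A.commVV h.hu1 h.hu2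
    rw [map_inv, map_mul, h.k1X, h.k2X]
    have e : k1 * u1 * (k2 * u2) = (u1 * u2) * (k1 * k2) := by
      calc k1 * u1 * (k2 * u2) = (k1 * u1) * (k2 * u2) := by group
        _ = (u1 * k1) * (u2 * k2) := by rw [c2.eq, c3.eq]
        _ = u1 * (k1 * u2) * k2 := by group
        _ = u1 * (u2 * k1) * k2 := by rw [c4.eq]
        _ = _ := by group
    rw [e, mul_inv_rev, A.invV (A.mulV h.hu1 h.hu2)]
  have e1 : cj (cj (p * q) X) k1 = k1 * cj (p * q) (u1 * u2) := by
    have := cj_map (p * q) X (k1 * k2)⁻¹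
    rw [h3, kX, map_mul, h3] at this
    exact this
  have e2 : cj (cj (q * p) X) k1 = k1 * cj (q * p) u2 := by
    have := cj_map (q * p) X k2
    rw [h4, h.k2X, map_mul, h4] at this
    exact this
  have e3 : cj (X * cj (p * q) X * cj (q * p) X) k1 = k1 := by rw [h.prod, cj_one]
  have w1 := A.rV h.hu1
  have w2 := A.rV h.hu2
  have w2' := A.rV' h.hu2
  rw [← cj_cj (X * cj (p * q) X) (cj (q * p) X), ← cj_cj X (cj (p * q) X), h.k1X, map_mul, e1, map_mul,
    map_mul, e2, fixV o1 h.hu1,
    fixV o2 h.hu1, map_mul, map_mul, fixV o2 w1, fixV o2 w2] at e3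
  have n2 := A.normV h.hu2
  obtain ⟨a1, ha1⟩ : ∃ a1, a1 = cj (p * q) u1 := ⟨_, rfl⟩
  obtain ⟨a2, ha2⟩ : ∃ a2, a2 = cj (p * q) u2 := ⟨_, rfl⟩
  obtain ⟨a3, ha3⟩ : ∃ a3, a3 = cj (q * p) u2 := ⟨_, rfl⟩
  rw [← ha1, ← ha2, ← ha3] at e3
  rw [← ha2, ← ha3] at n2
  rw [← ha1] at w1 ⊢
  rw [← ha2] at w2
  rw [← ha3] at w2'
  have e4 : a3 * (a1 * a2) * u1 = 1 := by
    have : k1 * (a3 * (a1 * a2) * u1) = k1 := by
      rw [← mul_assoc, ← mul_assoc]; exact e3
    exact mul_eq_left.1 this
  -- u2 * a2 * a3 = 1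
  have c1 : Commute a3 (a1 * a2) := A.commVV w2' (A.mulV w1 w2)
  have c2 : Commute a3 u1 := A.commVV w2' h.hu1
  have c3 : Commute a2 u1 := A.commVV w2 h.hu1
  have e5 : a1 * u1 * (a2 * a3) = 1 := by
    calc a1 * u1 * (a2 * a3) = a1 * (u1 * a2) * a3 := by group
      _ = a1 * (a2 * u1) * a3 := by rw [c3.eq]
      _ = (a1 * a2) * (u1 * a3) := by group
      _ = (a1 * a2) * (a3 * u1) := by rw [c2.eq]
      _ = ((a1 * a2) * a3) * u1 := by group
      _ = (a3 * (a1 * a2)) * u1 := by rw [c1.eq]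
      _ = 1 := e4
  have e6 : a2 * a3 = u2 := by
    have : u2 * (a2 * a3) = 1 := by rw [← n2]; group
    have h5 : a2 * a3 = u2⁻¹ := eq_inv_of_mul_eq_one_right this
    rw [h5, A.invV h.hu2]
  rw [e6] at e5
  have e7 : a1 * u1 = u2⁻¹ := eq_inv_of_mul_eq_one_left e5
  rw [A.invV h.hu2] at e7
  rw [← e7]
  exact A.commVV w1 h.hu1

end Amb

/-- the element `s` -/
structure SOK (t b v y k1 k2 p q s : G) (f l : Bool) : Prop where
  ov : Over t b v y b s
  k1s : cj s k1 = k1
  k2s : cj s k2 = if f then k2 * b else k2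
  s2 : s * s = if l then b else 1
  comm : s * cj (p * q) s = cj (p * q) s * s
  prod : s * cj (p * q) s * cj (q * p) s = if f then y else 1
  ps : ∃ u, InV b v u ∧ cj p s = s * u

theorem Amb.exists_s (A : Amb t b v y k1 k2 w p q d) {X u1 u2 c u : G}
    (h : XOK t b v y k1 k2 p q X u1 u2 c u) :
    ∃ c' f l, (c' = 1 ∨ c' = y) ∧ SOK t b v y k1 k2 p q (X * c') f l := by
  obtain ⟨l, hl⟩ : ∃ l : Bool, X * X = if l then b else 1 := by
    rcases A.x_sq' h with h0 | h0
    · exact ⟨false, by simpa using h0⟩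
    · exact ⟨true, by simpa using h0⟩
  have h2 := A.x_u2 h
  rcases A.x_u1 h with h0 | h0
  · refine ⟨1, false, l, Or.inl rfl, ?_⟩
    rw [mul_one]
    rw [h0, map_one, mul_one] at h2
    exact
      { ov := h.ov
        k1s := by rw [h.k1X, h0, mul_one]
        k2s := by rw [h.k2X, h2, mul_one]; rfl
        s2 := hl
        comm := A.x_comm h
        prod := h.prod
        ps := ⟨u, h.hu, (A.x_p h).2⟩ }
  · refine ⟨y, true, l, Or.inr rfl, ?_⟩
    rw [h0, A.rb] at h2
    have hy := h.ov.2.2.2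
    have o1 := A.over_rho h.ov
    have o2 := A.over_rho' h.ov
    exact
      { ov := by
          refine ⟨?_, ?_, ?_, ?_⟩
          · rw [← cj_cj, h.ov.1, map_mul, cj_of_comm A.ty, cj_of_comm A.yb.symm]
          · rw [mul_assoc, A.yb, ← mul_assoc, h.ov.2.1, mul_assoc]
          · rw [mul_assoc, A.yv, ← mul_assoc, h.ov.2.2.1, mul_assoc]
          · exact ((show Commute X y from hy).mul_left (Commute.refl y)).eq
        k1s := by
          rw [← cj_cj, h.k1X, map_mul, A.k1y, h0, cj_of_comm A.yb.symm, A.inv_k1, mul_assoc, A.bb,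
            mul_one]
        k2s := by
          rw [← cj_cj, h.k2X, map_mul, A.k2y, h2, map_mul, cj_of_comm A.yb.symm, cj_of_comm A.yv.symm,
            A.inv_k2, if_pos rfl, ← A.vb, mul_assoc, ← mul_assoc v, A.vv, one_mul]
        s2 := by
          rw [← hl]
          calc X * y * (X * y) = X * (y * X) * y := by group
            _ = X * (X * y) * y := by rw [hy]
            _ = X * X * (y * y) := by group
            _ = _ := by rw [A.yy, mul_one]
        comm := by
          have hc := A.x_comm h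
          rw [map_mul, A.ry]
          calc X * y * (cj (p * q) X * y) = X * (y * cj (p * q) X) * y := by group
            _ = X * (cj (p * q) X * y) * y := by rw [o1.2.2.2]
            _ = (X * cj (p * q) X) * y * y := by group
            _ = (cj (p * q) X * X) * y * y := by rw [hc]
            _ = cj (p * q) X * (X * y) * y := by group
            _ = cj (p * q) X * (y * X) * y := by rw [hy]
            _ = _ := by group
        prod := by
          rw [map_mul, map_mul, A.ry, A.ry', if_pos rfl]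
          calc X * y * (cj (p * q) X * y) * (cj (q * p) X * y)
              = X * (y * cj (p * q) X) * (y * cj (q * p) X) * y := by group
            _ = X * (cj (p * q) X * y) * (cj (q * p) X * y) * y := by rw [← o1.2.2.2, ← o2.2.2.2]
            _ = X * cj (p * q) X * (y * cj (q * p) X) * (y * y) := by group
            _ = X * cj (p * q) X * (cj (q * p) X * y) * (y * y) := by rw [← o2.2.2.2]
            _ = (X * cj (p * q) X * cj (q * p) X) * y * (y * y) := by group
            _ = _ := by rw [h.prod, A.yy, one_mul, mul_one]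
        ps := by
          refine ⟨u, h.hu, ?_⟩
          rw [map_mul, (A.x_p h).2, A.py, mul_assoc, ← h.hu.comm A.yb A.yv, ← mul_assoc] }

end Cfsg.Agent.CoThreeStd.DeltaLoc
end

-- part: CoThreeStd/DeltaR
section
/-!
# Pattern δ of S1750: the elements `r_v`, `r_w` and the end of the proof (helper178)
-/

set_option autoImplicit false

namespace Cfsg.Agent.CoThreeStd.DeltaR

open Cfsg.Agent.CoThreeStd.DeltaRel Cfsg.Agent.CoThreeStd.DeltaLoc

variable {G : Type*} [Group G] {t b v y k1 k2 w p q d : G}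

/-- the element `r_v` -/
def rvE (f : Bool) (sv k2 t : G) : G := if f then sv * k2 * t else sv

section W

variable (A : Amb t b v y k1 k2 w p q d)
include A

theorem wV {u : G} (h : InV b v u) : w * u = u * w := h.comm A.wb A.wv

theorem mulW {u u' : G} (h : InW b v w u) (h' : InW b v w u') : InW b v w (u * u') := by
  rcases h with h | ⟨a, ha, rfl⟩
  · rcases h' with h' | ⟨a', ha', rfl⟩
    · exact Or.inl (A.mulV h h')
    · refine Or.inr ⟨u * a', A.mulV h ha', ?_⟩
      rw [← mul_assoc, ← wV A h, mul_assoc]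
  · rcases h' with h' | ⟨a', ha', rfl⟩
    · exact Or.inr ⟨a * u', A.mulV ha h', by rw [mul_assoc]⟩
    · refine Or.inl ?_
      have : w * a * (w * a') = a * a' := by
        calc w * a * (w * a') = w * (a * w) * a' := by group
          _ = w * (w * a) * a' := by rw [wV A ha]
          _ = (w * w) * a * a' := by group
          _ = _ := by rw [A.ww, one_mul]
      rw [this]
      exact A.mulV ha ha'

theorem sqW {u : G} (h : InW b v w u) : u * u = 1 := by
  rcases h with h | ⟨a, ha, rfl⟩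
  · exact A.sqV h
  · calc w * a * (w * a) = w * (a * w) * a := by group
      _ = w * (w * a) * a := by rw [wV A ha]
      _ = (w * w) * (a * a) := by group
      _ = 1 := by rw [A.ww, A.sqV ha, one_mul]

theorem invW {u : G} (h : InW b v w u) : u⁻¹ = u := inv_eq_of_mul_eq_one_left (sqW A h)

theorem w_ne_v : w ≠ v := by
  intro h
  have h1 := A.wk1
  rw [h, cj_of_comm A.k1v.symm] at h1
  exact A.b1 (mul_eq_left.1 h1.symm)

theorem w_ne_one : w ≠ 1 := by
  intro h
  have h1 := A.wk1
  rw [h, map_one, one_mul] at h1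
  exact A.b1 h1.symm

theorem dV {u : G} (h : InV b v u) : InW b v w (cj d u) := by
  rcases h with h | h | h | h <;> rw [h]
  · rw [map_one]; exact Or.inl (Or.inl rfl)
  · rw [A.db]; exact Or.inl (Or.inr (Or.inl rfl))
  · rw [A.dv]; exact Or.inr ⟨1, Or.inl rfl, (mul_one w).symm⟩
  · rw [map_mul, A.db, A.dv]; exact Or.inr ⟨b, Or.inr (Or.inl rfl), A.wb.symm⟩

theorem dW {u : G} (h : InW b v w u) : InW b v w (cj d u) := by
  rcases h with h | ⟨a, ha, rfl⟩
  · exact dV A h
  · rw [map_mul, A.dw]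
    exact mulW A (Or.inl (Or.inr (Or.inr (Or.inl rfl)))) (dV A ha)

theorem k1V {u : G} (h : InV b v u) : cj k1 u = u := cj_of_comm (h.comm A.k1b A.k1v).symm
theorem k2V {u : G} (h : InV b v u) : cj k2 u = u := cj_of_comm (h.comm A.k2b A.k2v).symm

theorem k1W {u : G} (h : InW b v w u) : InW b v w (cj k1 u) := by
  rcases h with h | ⟨a, ha, rfl⟩
  · rw [k1V A h]; exact Or.inl h
  · rw [map_mul, A.wk1, k1V A ha, mul_assoc]
    exact Or.inr ⟨b * a, A.mulV (Or.inr (Or.inl rfl)) ha, rfl⟩

/-- squares of elements of `R` outside `C(t)` are in `W` -/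
theorem sq_mem {r x : G} (hb : r * b = b * r) (hv : r * v = v * r) (hw : r * w = w * r)
    (ht : cj r t = t * x) (hx : InW b v w x) (hx1 : x ≠ 1) : InW b v w (r * r) := by
  have hrx : cj r x = x := cj_of_comm (hx.comm hb hv hw).symm
  have h1 : cj (r * r) t = t := by
    rw [← cj_cj, ht, map_mul, ht, hrx, mul_assoc, sqW A hx, mul_one]
  have hbr : (r * r) * b = b * (r * r) := by rw [mul_assoc, hb, ← mul_assoc, hb, mul_assoc]
  have hvr : (r * r) * v = v * (r * r) := by rw [mul_assoc, hv, ← mul_assoc, hv, mul_assoc]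
  have hwr : (r * r) * w = w * (r * r) := by rw [mul_assoc, hw, ← mul_assoc, hw, mul_assoc]
  obtain ⟨τ, e, hτ, he, hre⟩ := A.centW (r * r) (comm_of_cj h1).symm hbr hvr hwr
  rcases hτ with h0 | h0
  · rw [hre, h0, one_mul]; exact he
  · exfalso
    have h2 : cj r (r * r) = r * r := cj_of_comm (mul_assoc r r r)
    rw [hre, h0, map_mul, ht, cj_of_comm (he.comm hb hv hw).symm] at h2
    have h3 : t * x = t := mul_right_cancel h2
    exact hx1 (mul_eq_left.1 h3)

end W

/-- the facts about `r_v` -/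
structure RV (t b v y k1 k2 w p s R : G) (f l : Bool) : Prop where
  Rb : R * b = b * R
  Rv : R * v = v * R
  Rw : R * w = w * R
  tR : cj R t = t * v
  Rs : R * s = s * R
  RR : R * R = if l then v else 1
  k1R : cj k1 R = if f then R * v else R
  k2R : cj k2 R = R
  yR : ∃ u, InV b v u ∧ cj y R = R * u
  pR : ∃ u, InW b v w u ∧ R * cj p R = s⁻¹ * u

variable {s : G} {f l : Bool}

theorem rv_facts (A : Amb t b v y k1 k2 w p q d) (h : SOK t b v y k1 k2 p q s f l) :
    RV t b v y k1 k2 w p s (rvE f (cj (p * q) s) k2 t) f l := by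
  have o1 := A.over_rho h.ov
  have o2 := A.over_rho' h.ov
  rw [A.rb] at o1
  rw [A.rb'] at o2
  have hcomm := h.comm
  have hprod := h.prod
  -- action of `sv` on `k1`, `k2`
  have sk2 : cj (cj (p * q) s) k2 = k2 := by
    have := cj_map (p * q) s k1
    rwa [A.rk1, h.k1s, A.rk1] at this
  have sk1 : cj (cj (p * q) s) k1 = if f then k1 * v else k1 := by
    have h3 : cj (p * q) (k1 * k2)⁻¹ = k1 := by
      rw [map_inv, map_mul, A.rk1, A.rk2]; group
    have := cj_map (p * q) s (k1 * k2)⁻¹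
    rw [h3, map_inv, map_mul, h.k1s, h.k2s] at this
    cases f
    · simp only [Bool.false_eq_true, if_false] at this ⊢
      rw [this, h3]
    · simp only [if_true] at this ⊢
      have e : (k1 * (k2 * b))⁻¹ = (k1 * k2)⁻¹ * b := by
        rw [← mul_assoc, mul_inv_rev, A.inv_b]
        have c1 : Commute b (k1 * k2) :=
          (show Commute b k1 from A.k1b.symm).mul_right A.k2b.symm
        exact c1.inv_right.eq
      rw [this, e, map_mul, h3, A.rb]
  have svsq : cj (p * q) s * cj (p * q) s = if l then v else 1 := by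
    rw [← map_mul, h.s2]
    cases l
    · simp
    · simp [A.rb]
  obtain ⟨u, hu, hps⟩ := h.ps
  -- cj p sv
  have hpsv : cj p (cj (p * q) s) = cj (q * p) s * cj (q * p) u := by
    rw [Amb.pr1, hps, map_mul]
  have hu' := A.rV' hu
  obtain ⟨sv, hsv⟩ : ∃ sv, sv = cj (p * q) s := ⟨_, rfl⟩
  obtain ⟨sw, hsw⟩ : ∃ sw, sw = cj (q * p) s := ⟨_, rfl⟩
  obtain ⟨u', hu''⟩ : ∃ u', u' = cj (q * p) u := ⟨_, rfl⟩
  rw [← hsv] at o1 hcomm hprod sk2 sk1 svsq hpsv ⊢
  rw [← hsw] at o2 hprod hpsv
  rw [← hu''] at hpsv hu'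
  have svy := o1.2.2.2
  cases f
  · -- f = false
    simp only [Bool.false_eq_true, if_false] at sk1 hprod
    simp only [rvE, Bool.false_eq_true, if_false]
    have svk1 : sv * k1 = k1 * sv := (comm_of_cj sk1).symm
    have svk2 : sv * k2 = k2 * sv := (comm_of_cj sk2).symm
    exact
      { Rb := o1.2.1
        Rv := o1.2.2.1
        Rw := by
          rw [A.hw]
          exact ((show Commute sv y from svy).mul_right svk1).eq
        tR := o1.1
        Rs := hcomm.symm
        RR := svsq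
        k1R := by simp only [Bool.false_eq_true, if_false]; exact cj_of_comm svk1
        k2R := cj_of_comm svk2
        yR := ⟨1, Or.inl rfl, by rw [mul_one]; exact cj_of_comm svy⟩
        pR := by
          refine ⟨u', Or.inl hu', ?_⟩
          rw [hpsv]
          have e1 : sv * sw = s⁻¹ := eq_inv_of_mul_eq_one_right (by rw [← mul_assoc]; exact hprod)
          rw [← mul_assoc, e1] }
  · -- f = true
    simp only [if_true] at sk1 hprod
    simp only [rvE, if_true]
    have svk2 : sv * k2 = k2 * sv := (comm_of_cj sk2).symm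
    have tb := A.tb
    have tv := A.tv
    have ck2 : ∀ {z : G}, InV b v z → Commute z k2 := fun hz => (hz.comm A.k2b A.k2v).symm
    have vsv : Commute v sv := o1.2.2.1.symm
    have vk2 : Commute v k2 := A.k2v.symm
    have vt : Commute v t := A.tv.symm
    have bsv : Commute b sv := o1.2.1.symm
    have bk2 : Commute b k2 := A.k2b.symm
    have bt : Commute b t := A.tb.symm
    have tsv : t * sv = sv * (t * v) := cj_eq_iff.1 o1.1
    have ts : t * s = s * (t * b) := cj_eq_iff.1 h.ov.1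
    have k2s : k2 * s = s * (k2 * b) := by
      have := h.k2s
      rw [cj_eq_iff] at this
      simpa using this
    have k1sv : k1 * sv = sv * (k1 * v) := cj_eq_iff.1 sk1
    exact
      { Rb := ((bsv.mul_right bk2).mul_right bt).symm.eq
        Rv := ((vsv.mul_right vk2).mul_right vt).symm.eq
        Rw := by
          -- `w ^ sv = w v`, `w ^ k2 = w v`, `w ^ t = w`
          apply Eq.symm
          rw [← cj_eq_iff, ← cj_cj, ← cj_cj]
          have e1 : cj sv w = w * v := by
            rw [A.hw, map_mul, sk1, cj_of_comm svy.symm, mul_assoc]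
          rw [e1, map_mul, A.wk2, cj_of_comm vk2.eq, mul_assoc w, A.vv, mul_one]
          exact cj_of_comm A.tw.symm
        tR := by
          rw [← cj_cj, ← cj_cj, o1.1, map_mul, map_mul, cj_of_comm A.tk2, cj_of_comm vk2.eq,
            cj_of_comm rfl, cj_of_comm vt.eq]
        Rs := by
          calc sv * k2 * t * s = sv * k2 * (t * s) := by group
            _ = sv * k2 * (s * (t * b)) := by rw [ts]
            _ = sv * (k2 * s) * (t * b) := by group
            _ = sv * (s * (k2 * b)) * (t * b) := by rw [k2s]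
            _ = (sv * s) * k2 * (b * t) * b := by group
            _ = (s * sv) * k2 * (t * b) * b := by rw [← hcomm, bt.eq]
            _ = s * (sv * k2 * t) * (b * b) := by group
            _ = _ := by rw [A.bb, mul_one]
        RR := by
          rw [← svsq]
          calc sv * k2 * t * (sv * k2 * t) = sv * k2 * (t * sv) * (k2 * t) := by group
            _ = sv * k2 * (sv * (t * v)) * (k2 * t) := by rw [tsv]
            _ = sv * (k2 * sv) * t * (v * k2) * t := by group
            _ = sv * (sv * k2) * t * (k2 * v) * t := by rw [← svk2, vk2.eq]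
            _ = sv * sv * k2 * (t * k2) * (v * t) := by group
            _ = sv * sv * k2 * (k2 * t) * (t * v) := by rw [A.tk2, vt.eq]
            _ = sv * sv * (k2 * k2) * (t * t) * v := by group
            _ = sv * sv * (v * v) := by rw [A.k22, A.tt]; group
            _ = _ := by rw [A.vv, mul_one]
        k1R := by
          simp only [if_true]
          rw [map_mul, map_mul, cj_of_comm A.kk, cj_of_comm A.tk1]
          have : cj k1 sv = sv * v := by
            rw [cj_eq_iff]
            calc sv * k1 = sv * (k1 * v) * v := by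
                  rw [mul_assoc, mul_assoc k1, A.vv, mul_one]
              _ = k1 * sv * v := by rw [← k1sv]
              _ = _ := by group
          rw [this]
          calc sv * v * k2 * t = sv * (v * k2) * t := by group
            _ = sv * (k2 * v) * t := by rw [vk2.eq]
            _ = sv * k2 * (v * t) := by group
            _ = sv * k2 * (t * v) := by rw [vt.eq]
            _ = _ := by group
        k2R := by
          rw [map_mul, map_mul, cj_of_comm svk2, cj_of_comm rfl, cj_of_comm A.tk2]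
        yR := by
          refine ⟨v, Or.inr (Or.inr (Or.inl rfl)), ?_⟩
          rw [map_mul, map_mul, cj_of_comm svy, A.k2y, cj_of_comm A.ty, A.inv_k2]
          calc sv * (k2 * v) * t = sv * k2 * (v * t) := by group
            _ = sv * k2 * (t * v) := by rw [vt.eq]
            _ = _ := by group
        pR := by
          -- `k2 ^ sw = k2 v`-type relations
          have hsw' : sw = sv⁻¹ * s⁻¹ * y := by
            calc sw = sv⁻¹ * s⁻¹ * (s * sv * sw) := by group
              _ = _ := by rw [hprod]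
          have tsw : t * sw = sw * (t * (b * v)) := cj_eq_iff.1 o2.1
          have k2sw : k2 * sw = sw * (k2⁻¹ * b) := by
            rw [← cj_eq_iff, hsw', ← cj_cj, ← cj_cj]
            have e1 : cj sv⁻¹ k2 = k2 := by
              apply cj_of_comm
              exact (show Commute k2 sv from svk2.symm).inv_right.eq
            have e2 : cj s⁻¹ k2 = k2 * b := by
              rw [cj_eq_iff]
              have hbs : Commute b s := h.ov.2.1.symm
              calc k2 * s⁻¹ = s⁻¹ * (s * (k2 * b)) * b * s⁻¹ := by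
                    calc k2 * s⁻¹ = k2 * (b * b) * s⁻¹ := by rw [A.bb, mul_one]
                      _ = _ := by group
                _ = s⁻¹ * (k2 * s) * b * s⁻¹ := by rw [k2s]
                _ = s⁻¹ * k2 * (s * b) * s⁻¹ := by group
                _ = s⁻¹ * k2 * (b * s) * s⁻¹ := by rw [hbs.eq]
                _ = _ := by group
            rw [e1, e2, map_mul, A.k2y, cj_of_comm A.yb.symm]
          have hbu : InV b v (b * u') := A.mulV (Or.inr (Or.inl rfl)) hu'
          have hsvsw : sv * sw = s⁻¹ * y := by rw [← hprod]; group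
          have c1 : Commute (v * u') (k1⁻¹) := (show Commute k1 (v * u') from
            (A.mulV (Or.inr (Or.inr (Or.inl rfl))) hu').comm A.k1b A.k1v).inv_left.symm
          have c2 : Commute (b * v * u') t := (show Commute t (b * v * u') from
            (A.mulV (Or.inr (Or.inr (Or.inr rfl))) hu').comm tb tv).symm
          have c2' : Commute (b * v * u') (k1 * k2)⁻¹ := by
            have h1 : Commute k1 (b * v * u') :=
              (A.mulV (Or.inr (Or.inr (Or.inr rfl))) hu').comm A.k1b A.k1v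
            have h2 : Commute k2 (b * v * u') :=
              (A.mulV (Or.inr (Or.inr (Or.inr rfl))) hu').comm A.k2b A.k2v
            exact (h1.mul_left h2).inv_left.symm
          have c3 : Commute t (k1 * k2)⁻¹ :=
            ((show Commute t k1 from A.tk1).mul_right A.tk2).inv_right
          refine ⟨w * (b * u'), Or.inr ⟨_, hbu, rfl⟩, ?_⟩
          rw [map_mul, map_mul, hpsv, A.pk2, cj_of_comm A.tp]
          calc sv * k2 * t * (sw * u' * (k1 * k2)⁻¹ * t)
              = sv * k2 * (t * sw) * u' * (k1 * k2)⁻¹ * t := by group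
            _ = sv * k2 * (sw * (t * (b * v))) * u' * (k1 * k2)⁻¹ * t := by rw [tsw]
            _ = sv * (k2 * sw) * t * ((b * v * u') * (k1 * k2)⁻¹) * t := by group
            _ = sv * (sw * (k2⁻¹ * b)) * t * ((k1 * k2)⁻¹ * (b * v * u')) * t := by
              rw [k2sw, c2'.eq]
            _ = sv * sw * k2⁻¹ * b * (t * (k1 * k2)⁻¹) * ((b * v * u') * t) := by group
            _ = sv * sw * k2⁻¹ * b * ((k1 * k2)⁻¹ * t) * (t * (b * v * u')) := by rw [c3.eq, c2.eq]
            _ = sv * sw * k2⁻¹ * b * (k1 * k2)⁻¹ * (t * t) * (b * v * u') := by group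
            _ = sv * sw * k2⁻¹ * (b * (k1 * k2)⁻¹) * (b * v * u') := by rw [A.tt]; group
            _ = sv * sw * k2⁻¹ * ((k1 * k2)⁻¹ * b) * (b * v * u') := by
              have c4 : Commute b (k1 * k2)⁻¹ :=
                ((show Commute b k1 from A.k1b.symm).mul_right A.k2b.symm).inv_right
              rw [c4.eq]
            _ = sv * sw * (k2 * k2)⁻¹ * k1⁻¹ * (b * b) * (v * u') := by group
            _ = sv * sw * v * (k1⁻¹ * (v * u')) := by
              rw [A.k22, A.bb, A.inv_v]; group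
            _ = sv * sw * v * ((v * u') * k1⁻¹) := by rw [c1.eq]
            _ = sv * sw * (v * v) * (u' * k1⁻¹) := by group
            _ = sv * sw * (k1⁻¹ * u') := by
              have c5 : Commute u' k1⁻¹ := (show Commute k1 u' from hu'.comm A.k1b A.k1v).inv_left.symm
              rw [A.vv, mul_one, c5.eq]
            _ = s⁻¹ * y * (k1 * b * u') := by rw [hsvsw, A.inv_k1]
            _ = s⁻¹ * (w * (b * u')) := by rw [A.hw]; group }

/-- the facts about `r_w` -/
structure RW (t b v k1 k2 w s R Q e1 e2 τ : G) (f l : Bool) : Prop where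
  Qb : Q * b = b * Q
  Qv : Q * v = v * Q
  Qw : Q * w = w * Q
  tQ : t * Q = Q * t * w
  Qs : Q * s = s * Q
  QQ : Q * Q = if l then w else 1
  he1 : InW b v w e1
  he2 : InW b v w e2
  hτ : τ = 1 ∨ τ = t
  k1Q : cj k1 Q = Q⁻¹ * s⁻¹ * e1
  k2Q : cj k2 Q = Q⁻¹ * R⁻¹ * τ * e2
  hβ : InW b v w (Q⁻¹ * R⁻¹ * Q * R)

theorem rw_facts (A : Amb t b v y k1 k2 w p q d) (h : SOK t b v y k1 k2 p q s f l) {R : G}
    (r : RV t b v y k1 k2 w p s R f l) (hd : ∃ w1, InW b v w w1 ∧ cj d s = s * w1) :
    ∃ e1 e2 τ, RW t b v k1 k2 w s R (cj d R) e1 e2 τ f l := by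
  obtain ⟨w1, hw1, hds⟩ := hd
  have sw : s * w = w * s := by
    rw [A.hw]
    exact ((show Commute s y from h.ov.2.2.2).mul_right (comm_of_cj h.k1s).symm).eq
  obtain ⟨Q, hQ⟩ : ∃ Q, Q = cj d R := ⟨_, rfl⟩
  rw [← hQ]
  have Qb : Q * b = b * Q := by
    have := comm_map d r.Rb
    rwa [A.db, ← hQ] at this
  have Qv : Q * v = v * Q := by
    have := comm_map d r.Rw
    rwa [A.dw, ← hQ] at this
  have Qw : Q * w = w * Q := by
    have := comm_map d r.Rv
    rwa [A.dv, ← hQ] at this
  have sW : ∀ {z}, InW b v w z → s * z = z * s := fun hz => hz.comm h.ov.2.1 h.ov.2.2.1 sw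
  have QW : ∀ {z}, InW b v w z → Q * z = z * Q := fun hz => hz.comm Qb Qv Qw
  have RW' : ∀ {z}, InW b v w z → R * z = z * R := fun hz => hz.comm r.Rb r.Rv r.Rw
  have dt : cj d t = t := cj_of_comm A.td
  have ctQ : cj Q t = t * w := by
    have := cj_map d R t
    rwa [r.tR, map_mul, dt, A.dv, ← hQ] at this
  have tQ : t * Q = Q * t * w := by rw [mul_assoc]; exact cj_eq_iff.1 ctQ
  have Qs : Q * s = s * Q := by
    have h1 := comm_map d r.Rs
    rw [hds, ← hQ] at h1
    have h2 : Q * s * w1 = s * Q * w1 := by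
      rw [mul_assoc, h1, mul_assoc, ← QW hw1, ← mul_assoc]
    exact mul_right_cancel h2
  have QQ : Q * Q = if l then w else 1 := by
    rw [hQ, ← map_mul, r.RR]
    cases l
    · simp
    · simp [A.dv]
  -- `cj k1 Q`
  obtain ⟨uy, huy, hyR⟩ := r.yR
  obtain ⟨up, hup, hpR⟩ := r.pR
  have hvV : InV b v v := Or.inr (Or.inr (Or.inl rfl))
  have g1 : ∃ u, InV b v u ∧ cj (k1 * v * y) R = R * u := by
    rw [← cj_cj, ← cj_cj, r.k1R]
    cases f
    · simp only [Bool.false_eq_true, if_false]
      rw [cj_of_comm r.Rv]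
      exact ⟨uy, huy, hyR⟩
    · simp only [if_true]
      rw [map_mul, cj_of_comm r.Rv, cj_of_comm rfl, map_mul, hyR, cj_of_comm A.yv.symm, mul_assoc]
      exact ⟨_, A.mulV huy hvV, rfl⟩
  obtain ⟨ug, hug, hgR⟩ := g1
  have hk1 : cj d (cj p R) = cj k1 Q * cj k1 (cj d ug) := by
    rw [cj_cj, A.pd, ← cj_cj (k1 * v * y), hgR, ← cj_cj d k1, map_mul, map_mul, ← hQ]
  have hee : InW b v w (cj k1 (cj d ug)) := k1W A (dV A hug)
  obtain ⟨ee, hee'⟩ : ∃ ee, ee = cj k1 (cj d ug) := ⟨_, rfl⟩
  rw [← hee'] at hk1 hee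
  have hdup := dW A hup
  have hk1Q : cj k1 Q = Q⁻¹ * s⁻¹ * (w1 * cj d up * ee) := by
    have h1 : Q * (cj k1 Q * ee) = (s * w1)⁻¹ * cj d up := by
      rw [← hk1, hQ, ← map_mul, hpR, map_mul, map_inv, hds]
    have h2 : ee * ee = 1 := sqW A hee
    calc cj k1 Q = Q⁻¹ * (Q * (cj k1 Q * ee)) * ee := by
          calc cj k1 Q = cj k1 Q * (ee * ee) := by rw [h2, mul_one]
            _ = _ := by group
      _ = Q⁻¹ * (w1⁻¹ * s⁻¹ * cj d up) * ee := by rw [h1]; group
      _ = Q⁻¹ * (s⁻¹ * w1⁻¹ * cj d up) * ee := by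
        rw [(show Commute s w1 from sW hw1).inv_left.inv_right.eq]
      _ = _ := by rw [invW A hw1]; group
  -- `cj k2 Q`
  obtain ⟨P, hP⟩ : ∃ P, P = cj k2 Q := ⟨_, rfl⟩
  have Pb : P * b = b * P := by
    have := comm_map k2 Qb
    rwa [← hP, cj_of_comm A.k2b.symm] at this
  have Pv : P * v = v * P := by
    have := comm_map k2 Qv
    rwa [← hP, cj_of_comm A.k2v.symm] at this
  have Pw : P * w = w * P := by
    have := comm_map k2 Qw
    rw [← hP, A.wk2] at this
    have h2 : P * w * v = w * P * v := by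
      rw [mul_assoc, this, mul_assoc, ← Pv, ← mul_assoc]
    exact mul_right_cancel h2
  have ctP : cj P t = t * (w * v) := by
    have := cj_map k2 Q t
    rwa [ctQ, map_mul, cj_of_comm A.tk2, A.wk2, ← hP] at this
  have PW : ∀ {z}, InW b v w z → P * z = z * P := fun hz => hz.comm Pb Pv Pw
  have hwW : InW b v w w := Or.inr ⟨1, Or.inl rfl, (mul_one w).symm⟩
  have hvW : InW b v w v := Or.inl hvV
  have hRQP : cj (R * Q * P) t = t := by
    rw [← cj_cj, ← cj_cj, r.tR, map_mul, ctQ, cj_of_comm (QW hvW).symm, map_mul, map_mul, ctP,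
      cj_of_comm (PW hvW).symm, cj_of_comm (PW hwW).symm]
    calc t * (w * v) * w * v = t * (w * (v * w) * v) := by group
      _ = t * ((w * w) * (v * v)) := by rw [← A.wv]; group
      _ = t := by rw [A.ww, A.vv, mul_one, mul_one]
  have hcen : ∀ {z}, InW b v w z → (R * Q * P) * z = z * (R * Q * P) := fun hz =>
    (((show Commute R _ from RW' hz).mul_left (QW hz)).mul_left (PW hz)).eq
  obtain ⟨τ, e2, hτ, he2, hRQ⟩ := A.centW (R * Q * P) (comm_of_cj hRQP).symm
    (hcen (Or.inl (Or.inr (Or.inl rfl)))) (hcen hvW) (hcen hwW)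
  have hk2Q : cj k2 Q = Q⁻¹ * R⁻¹ * τ * e2 := by
    rw [← hP, mul_assoc, ← hRQ]; group
  -- `β`
  have hβ : InW b v w (Q⁻¹ * R⁻¹ * Q * R) := by
    have hRR : InV b v (R * R) := by
      rw [r.RR]
      cases l
      · exact Or.inl rfl
      · exact hvV
    have hQQ : InW b v w (Q * Q) := by
      rw [QQ]
      cases l
      · exact Or.inl (Or.inl rfl)
      · exact hwW
    have h1 : InW b v w ((Q * R) * (Q * R)) := by
      have hx : InW b v w (v * w) := mulW A hvW hwW
      refine sq_mem A (x := v * w) ?_ ?_ ?_ ?_ hx ?_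
      · exact ((show Commute Q b from Qb).mul_left r.Rb).eq
      · exact ((show Commute Q v from Qv).mul_left r.Rv).eq
      · exact ((show Commute Q w from Qw).mul_left r.Rw).eq
      · rw [← cj_cj, ctQ, map_mul, r.tR, cj_of_comm (RW' hwW).symm, mul_assoc]
      · intro h1
        apply w_ne_v A
        have : v * w = v * v := by rw [h1, A.vv]
        exact mul_left_cancel this
    have hz := A.sqV hRR
    have hRi : R⁻¹ = R * (R * R) := by
      apply inv_eq_of_mul_eq_one_left
      calc R * (R * R) * R = (R * R) * (R * R) := by group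
        _ = 1 := hz
    have hQi : Q⁻¹ = Q * (Q * Q) := by
      apply inv_eq_of_mul_eq_one_left
      calc Q * (Q * Q) * Q = (Q * Q) * (Q * Q) := by group
        _ = 1 := sqW A hQQ
    have e : Q⁻¹ * R⁻¹ * Q * R = (Q * Q) * (R * R) * ((Q * R) * (Q * R)) := by
      have c1 : Commute (Q * Q) Q := (show Commute Q (Q * Q) from QW hQQ).symm
      have c2 : Commute (R * R) Q := (show Commute Q (R * R) from QW (Or.inl hRR)).symm
      have c3 : Commute (R * R) R := (show Commute R (R * R) from RW' (Or.inl hRR)).symm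
      rw [hQi, hRi]
      calc Q * (Q * Q) * (R * (R * R)) * Q * R = (Q * Q) * Q * R * ((R * R) * Q) * R := by group
        _ = (Q * Q) * Q * R * (Q * (R * R)) * R := by rw [c2.eq]
        _ = (Q * Q) * (Q * R * Q * ((R * R) * R)) := by group
        _ = (Q * Q) * ((Q * R * (Q * R)) * (R * R)) := by group
        _ = (Q * Q) * ((R * R) * (Q * R * (Q * R))) := by
          have c4 : Commute (Q * R * (Q * R)) (R * R) :=
            ((c2.symm.mul_left c3.symm).mul_left (c2.symm.mul_left c3.symm))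
          rw [c4.eq]
        _ = _ := by group
    rw [e]
    exact mulW A (mulW A hQQ (Or.inl hRR)) h1
  exact ⟨_, _, _,
    { Qb := Qb, Qv := Qv, Qw := Qw, tQ := tQ, Qs := Qs, QQ := QQ
      he1 := mulW A (mulW A hw1 hdup) hee
      he2 := he2
      hτ := hτ
      k1Q := hk1Q
      k2Q := hk2Q
      hβ := hβ }⟩

theorem isConj_cj (g x : G) : IsConj x (cj g x) := isConj_iff.2 ⟨g⁻¹, by rw [cj_apply]; group⟩

/-- the end of the proof -/
theorem final (A : Amb t b v y k1 k2 w p q d) (h : SOK t b v y k1 k2 p q s f l)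
    (hd : ∃ w1, InW b v w w1 ∧ cj d s = s * w1) :
    ∃ u u', InV b v u ∧ InV b v u' ∧ IsConj (t * (y * u)) (t * (y * (k1 * k2) * u')) := by
  have r := rv_facts A h
  obtain ⟨R, hR⟩ : ∃ R, R = rvE f (cj (p * q) s) k2 t := ⟨_, rfl⟩
  rw [← hR] at r
  obtain ⟨e1, e2, τ, g⟩ := rw_facts A h r hd
  obtain ⟨Q, hQ⟩ : ∃ Q, Q = cj d R := ⟨_, rfl⟩
  rw [← hQ] at g
  have sw : s * w = w * s := by
    rw [A.hw]
    exact ((show Commute s y from h.ov.2.2.2).mul_right (comm_of_cj h.k1s).symm).eq
  have rvt : t * R = R * t * v := by rw [mul_assoc]; exact cj_eq_iff.1 r.tR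
  have bs : Commute b s := h.ov.2.1.symm
  have k2s' : cj k2 s = if f then s * b else s := by
    have h1 := h.k2s
    rw [cj_eq_iff] at h1
    cases f
    · simp only [Bool.false_eq_true, if_false] at h1 ⊢
      exact cj_of_comm h1.symm
    · simp only [if_true] at h1 ⊢
      rw [cj_eq_iff]
      calc s * k2 = s * (k2 * b) * b := by rw [mul_assoc, mul_assoc, A.bb, mul_one]
        _ = k2 * s * b := by rw [← h1]
        _ = _ := by group
  obtain ⟨hτ1, he1, he2, hQR, hlf⟩ := rel_main (cj k1) (cj k2) l f A.bb A.vv A.ww A.vb A.wb A.wv A.b1 A.v1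
    A.bv1 h.ov.2.1 h.ov.2.2.1 sw r.Rb r.Rv r.Rw g.Qb g.Qv g.Qw A.tb A.tv rvt r.Rs g.Qs h.s2 r.RR g.QQ
    (cj_of_comm A.k1b.symm) (cj_of_comm A.k1v.symm) A.wk1 (cj_of_comm (comm_of_cj h.k1s).symm) r.k1R
    (cj_of_comm A.k2b.symm) (cj_of_comm A.k2v.symm) A.wk2 k2s' r.k2R g.hτ g.he1 g.he2 g.k1Q g.k2Q
    (by rw [cj_cj, A.k11]; exact cj_of_comm g.Qb)
    (by rw [cj_cj, A.k22]; exact cj_of_comm g.Qv)
    (by rw [cj_cj, cj_cj, A.kk]) g.hβ
  subst hlf
  have hb : InV b v b := Or.inr (Or.inl rfl)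
  have o1 := A.over_rho h.ov
  rw [A.rb] at o1
  have sk1 : cj (cj (p * q) s) k1 = if l then k1 * v else k1 := by
    have h3 : cj (p * q) (k1 * k2)⁻¹ = k1 := by
      rw [map_inv, map_mul, A.rk1, A.rk2]; group
    have := cj_map (p * q) s (k1 * k2)⁻¹
    rw [h3, map_inv, map_mul, h.k1s, h.k2s] at this
    cases l
    · simp only [Bool.false_eq_true, if_false] at this ⊢
      rw [this, h3]
    · simp only [if_true] at this ⊢
      have e : (k1 * (k2 * b))⁻¹ = (k1 * k2)⁻¹ * b := by
        rw [← mul_assoc, mul_inv_rev, A.inv_b]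
        have c1 : Commute b (k1 * k2) :=
          (show Commute b k1 from A.k1b.symm).mul_right A.k2b.symm
        exact c1.inv_right.eq
      rw [this, e, map_mul, h3, A.rb]
  have sk2 : cj (cj (p * q) s) k2 = k2 := by
    have := cj_map (p * q) s k1
    rwa [A.rk1, h.k1s, A.rk1] at this
  have sV : ∀ {z}, InV b v z → s * z = z * s := fun hz => hz.comm h.ov.2.1 h.ov.2.2.1
  have k1Q : k1⁻¹ * Q * k1 = Q⁻¹ * s⁻¹ * e1 := by rw [← cj_apply]; exact g.k1Q
  cases l
  · -- case (I)
    have hRs : R = cj (p * q) s := by rw [hR]; rfl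
    have k2Q : k2⁻¹ * Q * k2 = Q⁻¹ * R⁻¹ * e2 := by
      rw [← cj_apply, g.k2Q, hτ1, mul_one]
    have s2 : s * s = 1 := by have := h.s2; simpa using this
    have Q2 : Q * Q = 1 := by have := g.QQ; simpa using this
    have R2 : R * R = 1 := by have := r.RR; simpa using this
    have k2R : cj k2 R = R := r.k2R
    have f1 := fin_zero s2 Q2 g.tQ g.Qs.symm (comm_of_cj h.k1s).symm (sV he1) (A.sqV he1) k1Q
    have f2 := fin_zero R2 Q2 g.tQ hQR.symm (comm_of_cj k2R) (he2.comm r.Rb r.Rv) (A.sqV he2) k2Q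
    rw [← cj_apply] at f1 f2
    refine ⟨b * e1, e2, A.mulV hb he1, he2, ?_⟩
    have x1 : IsConj (t * s * k1) (t * (y * (b * e1))) := by
      have := isConj_cj Q (t * s * k1)
      rw [f1] at this
      have e : t * (w * (k1 * e1)) = t * (y * (b * e1)) := by
        rw [A.hw, ← A.k11]; group
      rwa [e] at this
    have x2 : IsConj (t * R * k2) (t * (y * (k1 * k2) * e2)) := by
      have := isConj_cj Q (t * R * k2)
      rw [f2] at this
      have e : t * (w * (k2 * e2)) = t * (y * (k1 * k2) * e2) := by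
        rw [A.hw]; group
      rwa [e] at this
    have x3 : IsConj (t * s * k1) (t * R * k2) := by
      have := isConj_cj (p * q) (t * s * k1)
      rwa [map_mul, map_mul, A.rt, A.rk1, ← hRs] at this
    exact x1.symm.trans (x3.trans x2)
  · -- case (II)
    obtain ⟨sv, hsv⟩ : ∃ sv, sv = cj (p * q) s := ⟨_, rfl⟩
    have hRs : R = sv * k2 * t := by rw [hR, hsv]; rfl
    rw [← hsv] at sk1 sk2 o1
    have svk2 : sv * k2 = k2 * sv := (comm_of_cj sk2).symm
    have k2Q : k2⁻¹ * Q * k2 = Q⁻¹ * (sv * k2 * t)⁻¹ * e2 := by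
      rw [← cj_apply, g.k2Q, hτ1, mul_one, hRs]
    have Q2 : Q * Q = w := by have := g.QQ; simpa using this
    have k1sv : sv * k1 = k1 * sv * v := by
      simp only [if_true] at sk1
      rw [cj_eq_iff] at sk1
      rw [sk1, mul_assoc, mul_assoc, A.vv, mul_one]
    have ce : ∀ {e}, InV b v e → ∀ x ∈ ({y, t, k1, k2, s, sv, Q, b, v} : Set G), Commute e x := by
      intro e he x hx
      simp only [Set.mem_insert_iff, Set.mem_singleton_iff] at hx
      apply Commute.symm
      rcases hx with hx | hx | hx | hx | hx | hx | hx | hx | hx <;> rw [hx]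
      · exact he.comm A.yb A.yv
      · exact he.comm A.tb A.tv
      · exact he.comm A.k1b A.k1v
      · exact he.comm A.k2b A.k2v
      · exact he.comm h.ov.2.1 h.ov.2.2.1
      · exact he.comm o1.2.1 o1.2.2.1
      · exact he.comm g.Qb g.Qv
      · exact he.comm rfl A.vb.symm
      · exact he.comm A.vb rfl
    have cV : ∀ {e e'}, InV b v e → InV b v e' → Commute e e' := fun he he' => A.commVV he he'
    have hv : InV b v v := Or.inr (Or.inr (Or.inl rfl))
    have T : Two b v w y t k1 k2 s sv Q e1 e2 :=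
      { hw := A.hw
        bb := A.bb
        vv := A.vv
        ww := A.ww
        k11 := A.k11
        k22 := A.k22
        kk := A.kk
        yk1 := by rw [← cj_apply]; exact A.yk1
        tt := A.tt
        ty := A.ty
        tk1 := A.tk1
        tk2 := A.tk2
        ts := by rw [mul_assoc]; exact cj_eq_iff.1 h.ov.1
        tsv := by rw [mul_assoc]; exact cj_eq_iff.1 o1.1
        tr := g.tQ
        s_y := h.ov.2.2.2
        s_k1 := (comm_of_cj h.k1s).symm
        sv_y := o1.2.2.2
        sv_k1 := k1sv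
        sv_k2 := svk2
        sr := g.Qs.symm
        wr := g.Qw.symm
        rr := Q2
        e11 := A.sqV he1
        e22 := A.sqV he2
        cb := by
          intro x hx
          simp only [Set.mem_insert_iff, Set.mem_singleton_iff] at hx
          rcases hx with hx | hx | hx | hx | hx | hx | hx | hx | hx | hx
          · exact ce hb x (by simp [hx])
          · exact ce hb x (by simp [hx])
          · exact ce hb x (by simp [hx])
          · exact ce hb x (by simp [hx])
          · exact ce hb x (by simp [hx])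
          · exact ce hb x (by simp [hx])
          · exact ce hb x (by simp [hx])
          · exact ce hb x (by simp [hx])
          · rw [hx]; exact cV hb he1
          · rw [hx]; exact cV hb he2
        cv := by
          intro x hx
          simp only [Set.mem_insert_iff, Set.mem_singleton_iff] at hx
          rcases hx with hx | hx | hx | hx | hx | hx | hx | hx | hx
          · exact ce hv x (by simp [hx])
          · exact ce hv x (by simp [hx])
          · exact ce hv x (by simp [hx])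
          · exact ce hv x (by simp [hx])
          · exact ce hv x (by simp [hx])
          · exact ce hv x (by simp [hx])
          · exact ce hv x (by simp [hx])
          · rw [hx]; exact cV hv he1
          · rw [hx]; exact cV hv he2
        ce1 := by
          intro x hx
          simp only [Set.mem_insert_iff, Set.mem_singleton_iff] at hx
          rcases hx with hx | hx | hx | hx | hx | hx | hx | hx
          · exact ce he1 x (by simp [hx])
          · exact ce he1 x (by simp [hx])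
          · exact ce he1 x (by simp [hx])
          · exact ce he1 x (by simp [hx])
          · exact ce he1 x (by simp [hx])
          · exact ce he1 x (by simp [hx])
          · exact ce he1 x (by simp [hx])
          · rw [hx]; exact cV he1 he2
        ce2 := by
          intro x hx
          simp only [Set.mem_insert_iff, Set.mem_singleton_iff] at hx
          rcases hx with hx | hx | hx | hx | hx | hx | hx
          · exact ce he2 x (by simp [hx])
          · exact ce he2 x (by simp [hx])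
          · exact ce he2 x (by simp [hx])
          · exact ce he2 x (by simp [hx])
          · exact ce he2 x (by simp [hx])
          · exact ce he2 x (by simp [hx])
          · exact ce he2 x (by simp [hx])
        h1 := k1Q
        h2 := k2Q }
    -- all `t s y V` are conjugate
    have sy : s * y = y * s := h.ov.2.2.2
    have sk1' : cj k1 s = s := cj_of_comm (comm_of_cj h.k1s).symm
    simp only [if_true] at k2s'
    have ck : ∀ {e}, InV b v e → cj k1 e = e ∧ cj k2 e = e := fun he => ⟨k1V A he, k2V A he⟩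
    have c1 : ∀ u, InV b v u → IsConj (t * (s * y) * u) (t * (s * y) * (b * u)) := by
      intro u hu
      have := isConj_cj k1 (t * (s * y) * u)
      rw [map_mul, map_mul, map_mul, cj_of_comm A.tk1, sk1', A.yk1, (ck hu).1] at this
      have e : t * (s * (y * b)) * u = t * (s * y) * (b * u) := by group
      rwa [e] at this
    have c2 : ∀ u, InV b v u → IsConj (t * (s * y) * u) (t * (s * y) * (b * v * u)) := by
      intro u hu
      have := isConj_cj k2 (t * (s * y) * u)
      rw [map_mul, map_mul, map_mul, cj_of_comm A.tk2, k2s', A.yk2, (ck hu).2] at this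
      have e : t * (s * b * (y * v)) * u = t * (s * y) * (b * v * u) := by
        calc t * (s * b * (y * v)) * u = t * (s * (b * y) * v) * u := by group
          _ = t * (s * (y * b) * v) * u := by rw [A.yb]
          _ = _ := by group
      rwa [e] at this
    have c3 : ∀ u, InV b v u → IsConj (t * (s * y) * u) (t * (s * y)) := by
      intro u hu
      have hbv : InV b v (b * v) := Or.inr (Or.inr (Or.inr rfl))
      rcases hu with h0 | h0 | h0 | h0
      · rw [h0, mul_one]
      · have := c1 b hb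
        rw [A.bb, mul_one] at this
        rw [h0]; exact this
      · have x1 := c1 v hv
        have x2 := c2 (b * v) hbv
        rw [A.sqV hbv, mul_one] at x2
        rw [h0]; exact x1.trans x2
      · have x2 := c2 (b * v) hbv
        rw [A.sqV hbv, mul_one] at x2
        rw [h0]; exact x2
    have d1 : ∀ u, InV b v u → IsConj (s * (y * k2) * u) (s * (y * k2) * (b * u)) := by
      intro u hu
      have := isConj_cj k1 (s * (y * k2) * u)
      rw [map_mul, map_mul, map_mul, sk1', A.yk1, cj_of_comm A.kk, (ck hu).1] at this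
      have e : s * (y * b * k2) * u = s * (y * k2) * (b * u) := by
        calc s * (y * b * k2) * u = s * (y * (b * k2)) * u := by group
          _ = s * (y * (k2 * b)) * u := by rw [A.k2b]
          _ = _ := by group
      rwa [e] at this
    have d2 : ∀ u, InV b v u → IsConj (s * (y * k2) * u) (s * (y * k2) * (b * v * u)) := by
      intro u hu
      have := isConj_cj k2 (s * (y * k2) * u)
      rw [map_mul, map_mul, map_mul, k2s', A.yk2, cj_of_comm rfl, (ck hu).2] at this
      have e : s * b * (y * v * k2) * u = s * (y * k2) * (b * v * u) := by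
        calc s * b * (y * v * k2) * u = s * (b * y) * (v * k2) * u := by group
          _ = s * (y * b) * (k2 * v) * u := by rw [A.yb, A.k2v]
          _ = s * y * (b * k2) * v * u := by group
          _ = s * y * (k2 * b) * v * u := by rw [A.k2b]
          _ = _ := by group
      rwa [e] at this
    have d3 : ∀ u, InV b v u → IsConj (s * (y * k2) * u) (s * (y * k2)) := by
      intro u hu
      have hbv : InV b v (b * v) := Or.inr (Or.inr (Or.inr rfl))
      rcases hu with h0 | h0 | h0 | h0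
      · rw [h0, mul_one]
      · have := d1 b hb
        rw [A.bb, mul_one] at this
        rw [h0]; exact this
      · have x1 := d1 v hv
        have x2 := d2 (b * v) hbv
        rw [A.sqV hbv, mul_one] at x2
        rw [h0]; exact x1.trans x2
      · have x2 := d2 (b * v) hbv
        rw [A.sqV hbv, mul_one] at x2
        rw [h0]; exact x2
    have al := T.alpha
    have be := T.beta
    have ga := T.gamma
    rw [← cj_apply] at al be ga
    have z1 : IsConj (t * (s * y)) (t * (y * e1)) := by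
      have := isConj_cj Q (t * (s * y))
      rwa [al] at this
    have z2 : IsConj (t * (k2 * w)) (w * e2 * sv) := by
      have := isConj_cj Q (t * (k2 * w))
      rwa [be] at this
    have z3 : IsConj (s * (y * k2)) (t * (sv * y) * (b * v * e1 * e2)) := by
      have := isConj_cj Q (s * (y * k2))
      rwa [ga] at this
    -- apply `q` to `w e2 sv`
    obtain ⟨u, hu, hps⟩ := h.ps
    have qsv : cj q sv = s * u := by
      rw [hsv, cj_cj, mul_assoc, A.qq, mul_one, hps]
    have qe2 : InV b v (cj q e2) := by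
      have := he2.map (cj q)
      rw [A.qb, A.qv] at this
      rcases this with h0 | h0 | h0 | h0
      · exact Or.inl h0
      · exact Or.inr (Or.inr (Or.inl h0))
      · exact Or.inr (Or.inl h0)
      · rw [A.vb] at h0; exact Or.inr (Or.inr (Or.inr h0))
    have z4 : IsConj (w * e2 * sv) (s * (y * k2) * (cj q e2 * u * b)) := by
      have := isConj_cj q (w * e2 * sv)
      have qw : cj q w = y * k2 := by rw [A.hw, map_mul, A.qy, A.qk1]
      rw [map_mul, map_mul, qw, qsv] at this
      have e : y * k2 * cj q e2 * (s * u) = s * (y * k2) * (cj q e2 * u * b) := by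
        obtain ⟨z, hz⟩ : ∃ z, z = cj q e2 := ⟨_, rfl⟩
        rw [← hz] at qe2 ⊢
        have ks : k2 * s = s * (k2 * b) := by
          have h1 := h.k2s
          rw [cj_eq_iff] at h1
          simpa using h1
        have cz : Commute s z := sV qe2
        have cbz : Commute b z := cV hb qe2
        have cbu : Commute b u := cV hb hu
        calc y * k2 * z * (s * u) = y * k2 * (z * s) * u := by group
          _ = y * k2 * (s * z) * u := by rw [cz.eq]
          _ = y * (k2 * s) * z * u := by group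
          _ = y * (s * (k2 * b)) * z * u := by rw [ks]
          _ = (y * s) * k2 * (b * z) * u := by group
          _ = (s * y) * k2 * (z * b) * u := by rw [sy, cbz.eq]
          _ = s * y * k2 * z * (b * u) := by group
          _ = s * y * k2 * z * (u * b) := by rw [cbu.eq]
          _ = _ := by group
      rwa [e] at this
    have z5 := d3 _ (A.mulV (A.mulV qe2 hu) hb)
    -- `t sv y V` from `t s y V`
    have z6 : IsConj (t * (sv * y) * (b * v * e1 * e2)) (t * (s * y)) := by
      have hE : InV b v (b * v * e1 * e2) := A.mulV (A.mulV (A.mulV hb hv) he1) he2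
      have hE' := A.rV' hE
      have x1 := isConj_cj (p * q) (t * (s * y) * cj (q * p) (b * v * e1 * e2))
      rw [map_mul (cj (p * q)), map_mul (cj (p * q)), map_mul (cj (p * q)), A.rt, A.ry, ← hsv, A.rr'] at x1
      exact x1.symm.trans (c3 _ hE')
    refine ⟨e1, v, he1, hv, ?_⟩
    have z7 : t * (k2 * w) = t * (y * (k1 * k2) * v) := by
      have := A.k2y
      rw [cj_eq_iff] at this
      rw [A.hw, ← mul_assoc k2, this, A.inv_k2]
      have h1 : k2 * v * k1 = k1 * k2 * v := by
        rw [mul_assoc, ← A.k1v, ← mul_assoc, A.kk]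
      calc t * (y * (k2 * v) * k1) = t * (y * (k2 * v * k1)) := by group
        _ = _ := by rw [h1]; group
    rw [← z7]
    exact z1.symm.trans (z6.symm.trans (z3.symm.trans (z5.symm.trans (z4.symm.trans z2.symm))))

end Cfsg.Agent.CoThreeStd.DeltaR
end

-- part: CoThreeStd/DeltaAmb
section
/-!
# Pattern δ of S1750: the relations in `M₁₂` (helper178)
-/

set_option autoImplicit false

namespace Cfsg.Agent.CoThreeStd.DeltaAmb

open Cfsg.Agent.CoThreeStd.MTwelve hiding w cj
open Cfsg.Agent.CoThreeStd.DeltaData Cfsg.Agent.CoThreeStd.InvTwo Cfsg.Agent.CoThreeStd.Fusion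
open Cfsg.Agent.CoThreeStd.DeltaRel Cfsg.Agent.CoThreeStd.DeltaLoc

theorem e_bb : be * be = 1 := by
  have := wd_eq (l := wbe ++ wbe) (l' := []) (by decide +kernel)
  simp only [wd_append] at this; exact this
theorem e_vv : v * v = 1 := by
  have := wd_eq (l := wv ++ wv) (l' := []) (by decide +kernel)
  simp only [wd_append] at this; exact this
theorem e_pp : p * p = 1 := by
  have := wd_eq (l := [1] ++ [1]) (l' := []) (by decide +kernel)
  simp only [wd_append, wd_p] at this; exact this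
theorem e_qq : q * q = 1 := by
  have := wd_eq (l := [2] ++ [2]) (l' := []) (by decide +kernel)
  simp only [wd_append, wd_q] at this; exact this
theorem e_dd : d * d = 1 := by
  have := wd_eq (l := wd' ++ wd') (l' := []) (by decide +kernel)
  simp only [wd_append] at this; exact this
theorem e_b1 : be ≠ 1 := wd_ne (l := wbe) (l' := []) 1 (by norm_num) (by decide +kernel)
theorem e_v1 : v ≠ 1 := by
  intro h
  have h1 : ¬ ∀ x : Fin 24, act wv x.1 = act [] x.1 := by decide +kernel
  apply h1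
  intro x
  by_contra hne
  exact wd_ne (l := wv) (l' := []) x.1 x.2 hne h
theorem e_bv1 : be ≠ v := wd_ne (l := wbe) (l' := wv) 0 (by norm_num) (by decide +kernel)
theorem e_vb : v * be = be * v := by
  have := wd_eq (l := wv ++ wbe) (l' := wbe ++ wv) (by decide +kernel)
  simp only [wd_append] at this; exact this
theorem e_yb : y * be = be * y := by
  have := wd_eq (l := [0] ++ wbe) (l' := wbe ++ [0]) (by decide +kernel)
  simp only [wd_append, wd_y] at this; exact this
theorem e_yv : y * v = v * y := by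
  have := wd_eq (l := [0] ++ wv) (l' := wv ++ [0]) (by decide +kernel)
  simp only [wd_append, wd_y] at this; exact this
theorem e_k11 : k1 * k1 = be := by
  have := wd_eq (l := wk1 ++ wk1) (l' := wbe) (by decide +kernel)
  simp only [wd_append] at this; exact this
theorem e_k22 : k2 * k2 = v := by
  have := wd_eq (l := wk2 ++ wk2) (l' := wv) (by decide +kernel)
  simp only [wd_append] at this; exact this
theorem e_kk : k2 * k1 = k1 * k2 := by
  have := wd_eq (l := wk2 ++ wk1) (l' := wk1 ++ wk2) (by decide +kernel)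
  simp only [wd_append] at this; exact this
theorem e_yk1 : y * k1 = k1 * (y * be) := by
  have := wd_eq (l := [0] ++ wk1) (l' := wk1 ++ ([0] ++ wbe)) (by decide +kernel)
  simp only [wd_append, wd_y] at this; exact this
theorem e_yk2 : y * k2 = k2 * (y * v) := by
  have := wd_eq (l := [0] ++ wk2) (l' := wk2 ++ ([0] ++ wv)) (by decide +kernel)
  simp only [wd_append, wd_y] at this; exact this
theorem e_pb : be * p = p * be := by
  have := wd_eq (l := wbe ++ [1]) (l' := [1] ++ wbe) (by decide +kernel)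
  simp only [wd_append, wd_p] at this; exact this
theorem e_pv : v * p = p * (be * v) := by
  have := wd_eq (l := wv ++ [1]) (l' := [1] ++ (wbe ++ wv)) (by decide +kernel)
  simp only [wd_append, wd_p] at this; exact this
theorem e_py : y * p = p * y := by
  have := wd_eq (l := [0] ++ [1]) (l' := [1] ++ [0]) (by decide +kernel)
  simp only [wd_append, wd_p, wd_y] at this; exact this
theorem e_pk1 : k1 * p = p * k1 := by
  have := wd_eq (l := wk1 ++ [1]) (l' := [1] ++ wk1) (by decide +kernel)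
  simp only [wd_append, wd_p] at this; exact this
theorem e_pk2 : k2 * p * (k1 * k2) = p := by
  have := wd_eq (l := wk2 ++ [1] ++ (wk1 ++ wk2)) (l' := [1]) (by decide +kernel)
  simp only [wd_append, wd_p] at this; exact this
theorem e_qb : be * q = q * v := by
  have := wd_eq (l := wbe ++ [2]) (l' := [2] ++ wv) (by decide +kernel)
  simp only [wd_append, wd_q] at this; exact this
theorem e_qv : v * q = q * be := by
  have := wd_eq (l := wv ++ [2]) (l' := [2] ++ wbe) (by decide +kernel)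
  simp only [wd_append, wd_q] at this; exact this
theorem e_qy : y * q = q * y := by
  have := wd_eq (l := [0] ++ [2]) (l' := [2] ++ [0]) (by decide +kernel)
  simp only [wd_append, wd_q, wd_y] at this; exact this
theorem e_qk1 : k1 * q = q * k2 := by
  have := wd_eq (l := wk1 ++ [2]) (l' := [2] ++ wk2) (by decide +kernel)
  simp only [wd_append, wd_q] at this; exact this
theorem e_qk2 : k2 * q = q * k1 := by
  have := wd_eq (l := wk2 ++ [2]) (l' := [2] ++ wk1) (by decide +kernel)
  simp only [wd_append, wd_q] at this; exact this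
theorem e_pqp : p * q * p = q * p * q := by
  have := wd_eq (l := [1] ++ [2] ++ [1]) (l' := [2] ++ [1] ++ [2]) (by decide +kernel)
  simp only [wd_append, wd_q, wd_p] at this; exact this
theorem e_db : be * d = d * be := by
  have := wd_eq (l := wbe ++ wd') (l' := wd' ++ wbe) (by decide +kernel)
  simp only [wd_append] at this; exact this
theorem e_dv : v * d = d * w := by
  have := wd_eq (l := wv ++ wd') (l' := wd' ++ ([0] ++ wk1)) (by decide +kernel)
  simp only [wd_append, wd_y] at this; exact this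
theorem e_dw : w * d = d * v := by
  have := wd_eq (l := ([0] ++ wk1) ++ wd') (l' := wd' ++ wv) (by decide +kernel)
  simp only [wd_append, wd_y] at this; exact this
theorem e_pd : p * d = k1 * v * y * (d * k1) := by
  have := wd_eq (l := [1] ++ wd') (l' := wk1 ++ wv ++ [0] ++ (wd' ++ wk1)) (by decide +kernel)
  simp only [wd_append, wd_y, wd_p] at this; exact this
theorem e_wb : w * be = be * w := by
  have := wd_eq (l := ([0] ++ wk1) ++ wbe) (l' := wbe ++ ([0] ++ wk1)) (by decide +kernel)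
  simp only [wd_append, wd_y] at this; exact this
theorem e_wv : w * v = v * w := by
  have := wd_eq (l := ([0] ++ wk1) ++ wv) (l' := wv ++ ([0] ++ wk1)) (by decide +kernel)
  simp only [wd_append, wd_y] at this; exact this
theorem e_y1 : ¬ InV be v y := by
  rintro (h | h | h | h)
  · exact y_ne h
  · exact wd_ne (l := [0]) (l' := wbe) 0 (by norm_num) (by decide +kernel) (by rw [wd_y]; exact h)
  · exact wd_ne (l := [0]) (l' := wv) 0 (by norm_num) (by decide +kernel) (by rw [wd_y]; exact h)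
  · exact wd_ne (l := [0]) (l' := wbe ++ wv) 0 (by norm_num) (by decide +kernel)
      (by rw [wd_y, wd_append]; exact h)

variable {G : Type*} [Group G] {t : G} {f : H →* G}

theorem inV_map (f : H →* G) {u : H} (h : InV be v u) : InV (f be) (f v) (f u) := by
  rcases h with rfl | rfl | rfl | rfl
  · exact Or.inl (map_one f)
  · exact Or.inr (Or.inl rfl)
  · exact Or.inr (Or.inr (Or.inl rfl))
  · exact Or.inr (Or.inr (Or.inr (map_mul f _ _)))

theorem inW_map (f : H →* G) {u : H} (h : InW be v w u) : InW (f be) (f v) (f w) (f u) := by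
  rcases h with h | ⟨u', h, rfl⟩
  · exact Or.inl (inV_map f h)
  · exact Or.inr ⟨_, inV_map f h, map_mul f _ _⟩

theorem inV_mem {u : G} (h : InV (f be) (f v) u) : ∃ m, InV be v m ∧ u = f m := by
  rcases h with rfl | rfl | rfl | rfl
  · exact ⟨1, Or.inl rfl, (map_one f).symm⟩
  · exact ⟨be, Or.inr (Or.inl rfl), rfl⟩
  · exact ⟨v, Or.inr (Or.inr (Or.inl rfl)), rfl⟩
  · exact ⟨be * v, Or.inr (Or.inr (Or.inr rfl)), (map_mul f _ _).symm⟩

theorem inW_mem {u : G} (h : InW (f be) (f v) (f w) u) : ∃ m, InW be v w m ∧ u = f m := by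
  rcases h with h | ⟨u', h, rfl⟩
  · obtain ⟨m, hm, rfl⟩ := inV_mem h
    exact ⟨m, Or.inl hm, rfl⟩
  · obtain ⟨m, hm, rfl⟩ := inV_mem h
    exact ⟨w * m, Or.inr ⟨m, hm, rfl⟩, (map_mul f _ _).symm⟩

theorem inV_pow (i j : Fin 2) : InV be v (be ^ i.1 * v ^ j.1) := by
  fin_cases i <;> fin_cases j
  · left; simp
  · right; right; left; simp
  · right; left; simp
  · right; right; right; simp

theorem pow_y (l : Fin 2) (x : H) : x ^ l.1 = 1 ∨ x ^ l.1 = x := by
  fin_cases l
  · left; simp
  · right; simp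

/-- the relations hold in `C_G(t)` -/
theorem amb (c : Ctx t f) : Amb t (f be) (f v) (f y) (f k1) (f k2) (f w) (f p) (f q) (f d) := by
  have fe : ∀ {x x' : H}, x = x' → f x = f x' := fun h => congrArg f h
  have fn : ∀ {x x' : H}, x ≠ x' → f x ≠ f x' := fun h h' => h (c.inj h')
  have tm : ∀ m, t * f m = f m * t := fun m => (c.comm m).symm
  have hcomm : ∀ g m x, (g = f m ∨ g = t * f m) → g * f x = f x * g → m * x = x * m := by
    rintro g m x (rfl | rfl) h
    · apply c.inj
      rw [map_mul, map_mul]; exact h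
    · apply c.inj
      rw [map_mul, map_mul]
      have h2 : t * (f m * f x) = t * (f x * f m) := by
        rw [← mul_assoc, h, ← mul_assoc, ← mul_assoc, tm x]
      exact mul_left_cancel h2
  exact
    { tt := c.tt
      bb := by simpa only [map_mul, map_one] using fe e_bb
      vv := by simpa only [map_mul, map_one] using fe e_vv
      yy := by simpa only [map_mul, map_one] using fe y_sq
      pp := by simpa only [map_mul, map_one] using fe e_pp
      qq := by simpa only [map_mul, map_one] using fe e_qq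
      dd := by simpa only [map_mul, map_one] using fe e_dd
      b1 := by simpa only [map_one] using fn e_b1
      v1 := by simpa only [map_one] using fn e_v1
      bv1 := fn e_bv1
      y1 := by
        intro h
        obtain ⟨m, hm, h1⟩ := inV_mem h
        rw [← c.inj h1] at hm
        exact e_y1 hm
      t1 := by
        intro x u hx hu h
        obtain ⟨m, -, rfl⟩ := inV_mem hu
        rcases hx with rfl | rfl
        · exact c.nmem m (by rw [h, one_mul])
        · exact c.nmem (y * m) (by rw [h, map_mul])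
      tw1 := by
        intro u hu h
        obtain ⟨m, -, rfl⟩ := inW_mem hu
        exact c.nmem m h.symm
      vb := by simpa only [map_mul] using fe e_vb
      yb := by simpa only [map_mul] using fe e_yb
      yv := by simpa only [map_mul] using fe e_yv
      hw := map_mul f _ _
      k11 := by simpa only [map_mul] using fe e_k11
      k22 := by simpa only [map_mul] using fe e_k22
      kk := by simpa only [map_mul] using fe e_kk
      yk1 := by rw [cj_eq_iff]; simpa only [map_mul] using fe e_yk1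
      yk2 := by rw [cj_eq_iff]; simpa only [map_mul] using fe e_yk2
      pb := by rw [cj_eq_iff]; simpa only [map_mul] using fe e_pb
      pv := by rw [cj_eq_iff]; simpa only [map_mul] using fe e_pv
      py := by rw [cj_eq_iff]; simpa only [map_mul] using fe e_py
      pk1 := by rw [cj_eq_iff]; simpa only [map_mul] using fe e_pk1
      pk2 := by
        rw [cj_eq_iff, eq_mul_inv_iff_mul_eq]; simpa only [map_mul] using fe e_pk2
      qb := by rw [cj_eq_iff]; simpa only [map_mul] using fe e_qb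
      qv := by rw [cj_eq_iff]; simpa only [map_mul] using fe e_qv
      qy := by rw [cj_eq_iff]; simpa only [map_mul] using fe e_qy
      qk1 := by rw [cj_eq_iff]; simpa only [map_mul] using fe e_qk1
      qk2 := by rw [cj_eq_iff]; simpa only [map_mul] using fe e_qk2
      pqp := by simpa only [map_mul] using fe e_pqp
      db := by rw [cj_eq_iff]; simpa only [map_mul] using fe e_db
      dv := by rw [cj_eq_iff]; simpa only [map_mul] using fe e_dv
      dw := by rw [cj_eq_iff]; simpa only [map_mul] using fe e_dw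
      pd := by simpa only [map_mul] using fe e_pd
      ty := tm _
      tk1 := tm _
      tk2 := tm _
      tp := tm _
      tq := tm _
      td := tm _
      cent3 := by
        intro g h1 h2 h3 h4
        obtain ⟨m, hm⟩ := c.cent g h1
        obtain ⟨i, j, l, hl⟩ := cent_byv m (hcomm g m be hm h2) (hcomm g m v hm h3) (hcomm g m y hm h4)
        have hV := inV_pow i j
        have hvy : InV be v (be ^ i.1 * v ^ j.1) → (be ^ i.1 * v ^ j.1) * y ^ l.1 =
            y ^ l.1 * (be ^ i.1 * v ^ j.1) := by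
          intro hu
          rcases pow_y l y with h | h <;> rw [h]
          · simp
          · exact (hu.comm e_yb e_yv).symm
        have hfm : f m = f (y ^ l.1) * f (be ^ i.1 * v ^ j.1) := by
          rw [← map_mul, ← hvy hV, hl]
        have hy : f (y ^ l.1) = 1 ∨ f (y ^ l.1) = f y := by
          rcases pow_y l y with h | h <;> rw [h]
          · left; exact map_one f
          · right; rfl
        rcases hm with hm | hm
        · exact ⟨1, _, _, Or.inl rfl, hy, inV_map f hV, by rw [hm, hfm, one_mul]⟩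
        · exact ⟨t, _, _, Or.inr rfl, hy, inV_map f hV, by rw [hm, hfm, mul_assoc]⟩
      centW := by
        intro g h1 h2 h3 h4
        obtain ⟨m, hm⟩ := c.cent g h1
        obtain ⟨i, j, l, hl⟩ := cent_W m (hcomm g m be hm h2) (hcomm g m v hm h3) (hcomm g m w hm h4)
        have hV := inV_pow i j
        have hW : InW be v w m := by
          rw [hl]
          rcases pow_y l w with h | h <;> rw [h]
          · rw [mul_one]; exact Or.inl hV
          · exact Or.inr ⟨_, hV, (hV.comm e_wb e_wv).symm⟩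
        rcases hm with hm | hm
        · exact ⟨1, _, Or.inl rfl, inW_map f hW, by rw [hm, one_mul]⟩
        · exact ⟨t, _, Or.inr rfl, inW_map f hW, hm⟩ }

end Cfsg.Agent.CoThreeStd.DeltaAmb
end

-- part: CoThreeStd/Delta
section
/-!
# Pattern δ of S1750 does not occur (helper178)

`delta_false`: if `C_G(t) = ⟨t⟩ × M₁₂`, `t` is conjugate to `t b` (`b ∈ 2B`), then `t` is conjugate to `y` or to `t y`
(`y ∈ 2A`).
-/

set_option autoImplicit false

namespace Cfsg.Agent.CoThreeStd.Delta

open Cfsg.Agent.CoThreeStd.MTwelve hiding w cj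
open Cfsg.Agent.CoThreeStd.DeltaData Cfsg.Agent.CoThreeStd.InvTwo Cfsg.Agent.CoThreeStd.Fusion
open Cfsg.Agent.CoThreeStd.DeltaRel Cfsg.Agent.CoThreeStd.DeltaLoc Cfsg.Agent.CoThreeStd.DeltaAmb

/-- pattern δ -/
structure Pat {G : Type*} [Group G] (t : G) (f : H →* G) : Prop where
  c : Ctx t f
  noM : ∀ m, ¬ IsConj t (f m)
  tB : ∀ m, IsB m → IsConj t (t * f m)
  ntA : ∀ m, IsA m → ¬ IsConj t (t * f m)

section

variable {G : Type*} [Group G] {t : G} {f : H →* G}

theorem conj_fm (f : H →* G) {m m' : H} (c : Ctx t f) (h : ∃ k, k * m * k⁻¹ = m') :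
    IsConj (t * f m) (t * f m') := by
  obtain ⟨k, rfl⟩ := h
  rw [isConj_iff]
  refine ⟨f k, ?_⟩
  rw [map_mul, map_mul, map_inv, ← mul_assoc, ← mul_assoc, ← mul_assoc, c.comm]

theorem pat (c : Ctx t f) (h0 : IsConj t (t * f (p * r))) (h1 : ¬ IsConj t (f y))
    (h2 : ¬ IsConj t (t * f y)) : Pat t f where
  c := c
  noM := by
    intro m hm
    obtain ⟨g, hg⟩ := isConj_iff.1 hm
    have hmm : m * m = 1 := by
      apply c.inj
      rw [map_mul, ← hg, map_one]
      calc g * t * g⁻¹ * (g * t * g⁻¹) = g * (t * t) * g⁻¹ := by group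
        _ = 1 := by rw [c.tt]; group
    have hm1 : m ≠ 1 := by
      rintro rfl
      rw [map_one] at hg
      apply c.t_ne
      calc t = g⁻¹ * (g * t * g⁻¹) * g := by group
        _ = 1 := by rw [hg]; group
    rcases inv2.cases m hmm hm1 with hA | hB
    · apply h1
      refine hm.trans ?_
      obtain ⟨k, hk⟩ := inv2.conjA _ _ hA isA_y
      rw [isConj_iff]
      exact ⟨f k, by rw [← hk]; simp only [map_mul, map_inv]⟩
    · exact not_conj_b c inv2 hB hm
  tB := fun m hm => h0.trans (conj_fm f c (inv2.conjB _ _ isB_pr hm))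
  ntA := fun m hm h => h2 (h.trans (conj_fm f c (inv2.conjA _ _ hm isA_y)))

/-- `g : t ↦ t b, b ↦ b` -/
def Nor (t : G) (f : H →* G) (g : G) : Prop := cj g t = t * f be ∧ cj g (f be) = f be

/-- `x ^ g ∈ M` -/
def Good (f : H →* G) (g : G) (x : H) : Prop := ∃ m, cj g (f x) = f m

theorem Good.mul {g : G} {x x' : H} (h : Good f g x) (h' : Good f g x') : Good f g (x * x') := by
  obtain ⟨m, hm⟩ := h
  obtain ⟨m', hm'⟩ := h'
  exact ⟨m * m', by rw [map_mul, map_mul, hm, hm', map_mul]⟩

theorem Good.inv {g : G} {x : H} (h : Good f g x) : Good f g x⁻¹ := by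
  obtain ⟨m, hm⟩ := h
  exact ⟨m⁻¹, by rw [map_inv, map_inv, hm, map_inv]⟩

theorem tf_eq (c : Ctx t f) {m m' : H} (h : t * f m = t * f m') : m = m' := c.inj (mul_left_cancel h)

theorem Pat.td (h : Pat t f) {m : H} (hm : IsConj t (t * f m)) : m = 1 ∨ IsB m := by
  obtain ⟨g, hg⟩ := isConj_iff.1 hm
  by_cases h1 : m = 1
  · exact Or.inl h1
  right
  have hmm : m * m = 1 := by
    apply h.c.inj
    have h2 : (t * f m) * (t * f m) = 1 := by
      rw [← hg]
      calc g * t * g⁻¹ * (g * t * g⁻¹) = g * (t * t) * g⁻¹ := by group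
        _ = 1 := by rw [h.c.tt]; group
    have h3 : (t * f m) * (t * f m) = f m * f m := by
      calc (t * f m) * (t * f m) = t * (f m * t) * f m := by group
        _ = t * (t * f m) * f m := by rw [h.c.comm]
        _ = (t * t) * f m * f m := by group
        _ = _ := by rw [h.c.tt, one_mul]
    rw [map_mul, ← h3, h2, map_one]
  rcases inv2.cases m hmm h1 with hA | hB
  · exact absurd hm (h.ntA m hA)
  · exact hB

theorem comm_cj_inv {g x z : G} (h : z * cj g x = cj g x * z) : (g * z * g⁻¹) * x = x * (g * z * g⁻¹) := by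
  rw [cj_apply] at h
  calc (g * z * g⁻¹) * x = g * (z * (g⁻¹ * x * g)) * g⁻¹ := by group
    _ = g * ((g⁻¹ * x * g) * z) * g⁻¹ := by rw [h]
    _ = _ := by group

theorem exists_swap (h : Pat t f) : ∃ g, Nor t f g := by
  have c := h.c
  obtain ⟨g', hg'⟩ := isConj_iff.1 (h.tB be isB_be)
  obtain ⟨g, hg⟩ : ∃ g, g = g'⁻¹ := ⟨_, rfl⟩
  have hgt : cj g t = t * f be := by rw [cj_apply, hg, inv_inv, hg']
  have hbt : f be * t = t * f be := c.comm be
  have ht : t * cj g t = cj g t * t := by
    rw [hgt, mul_assoc t, hbt]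
  have hx := comm_cj_inv ht
  have hxc : IsConj t (g * t * g⁻¹) := isConj_iff.2 ⟨g, rfl⟩
  obtain ⟨m, hm⟩ := c.cent _ hx
  rcases hm with hm | hm
  · exact absurd (hm ▸ hxc) (h.noM m)
  have hxc' := hxc
  rw [hm] at hxc'
  rcases h.td hxc' with h1 | h1
  · exfalso
    rw [h1, map_one, mul_one] at hm
    have h2 : cj g t = t := by
      rw [cj_apply]
      nth_rewrite 1 [← hm]
      group
    rw [hgt] at h2
    have h3 := mul_eq_left.1 h2
    exact (inv2.invB be isB_be).2 (c.inj (by rw [h3, map_one]))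
  · obtain ⟨k, hk⟩ := inv2.conjB _ _ isB_be h1
    have ht0 : cj (f k)⁻¹ t = t := by
      apply cj_of_comm
      rw [← map_inv]
      exact (c.comm _).symm
    refine ⟨(f k)⁻¹ * g, ?_, ?_⟩
    · rw [← cj_cj, ht0, hgt]
    · have e1 : cj (f k)⁻¹ (t * f be) = g * t * g⁻¹ := by
        rw [hm, ← hk, cj_apply, inv_inv, map_mul, map_mul, map_inv, ← mul_assoc, ← mul_assoc, ← mul_assoc,
          c.comm]
      have e2 : cj ((f k)⁻¹ * g) (t * f be) = t := by
        rw [← cj_cj, e1, cj_apply]; group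
      have e3 : cj ((f k)⁻¹ * g) t = t * f be := by
        rw [← cj_cj, ht0, hgt]
      have e4 : f be = t * (t * f be) := by rw [← mul_assoc, c.tt, one_mul]
      calc cj ((f k)⁻¹ * g) (f be) = cj ((f k)⁻¹ * g) (t * (t * f be)) := by rw [← e4]
        _ = cj ((f k)⁻¹ * g) t * cj ((f k)⁻¹ * g) (t * f be) := map_mul _ _ _
        _ = t * f be * t := by rw [e2, e3]
        _ = t * (f be * t) := by group
        _ = t * (t * f be) := by rw [hbt]
        _ = f be := e4.symm

/-- if `x ∈ C(b)`, then `x ^ g ∈ C(t)` -/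
theorem Nor.cent {g : G} (n : Nor t f g) (c : Ctx t f) {x : H} (hx : x * be = be * x) :
    cj g (f x) * t = t * cj g (f x) ∧ cj g (f x) * f be = f be * cj g (f x) := by
  have h1 : cj g (f x) * cj g (f be) = cj g (f be) * cj g (f x) := by
    rw [← map_mul, ← map_mul, ← map_mul, ← map_mul, hx]
  rw [n.2] at h1
  refine ⟨?_, h1⟩
  have h2 : cj g (f x) * cj g t = cj g t * cj g (f x) := by
    rw [← map_mul, ← map_mul, c.comm]
  rw [n.1, ← mul_assoc] at h2
  have h3 : cj g (f x) * t * f be = t * cj g (f x) * f be := by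
    rw [h2, mul_assoc, mul_assoc, h1]
  exact mul_right_cancel h3

/-- elements of 2B commuting with `b` -/
theorem good_b (h : Pat t f) {g : G} (n : Nor t f g) {x : H} (hB : IsB x) (hx : x * be = be * x) :
    ∃ m, cj g (f x) = f m ∧ (x ≠ be → IsB (be * m)) := by
  have c := h.c
  obtain ⟨m, hm | hm⟩ := c.cent _ (n.cent c hx).1
  · refine ⟨m, hm, fun hne => ?_⟩
    have h1 : IsConj t (t * f (be * m)) := by
      have h2 := (h.tB x hB).trans (DeltaR.isConj_cj g _)
      rwa [map_mul, n.1, hm, mul_assoc, ← map_mul] at h2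
    rcases h.td h1 with h2 | h2
    · exfalso
      apply hne
      apply c.inj
      apply cj_injective g
      rw [hm, n.2]
      congr 1
      have : be * m = be * be := by rw [h2, e_bb]
      exact mul_left_cancel this
    · exact h2
  · exfalso
    have h2 := (h.tB x hB).trans (DeltaR.isConj_cj g _)
    have h3 : cj g (t * f x) = f (be * m) := by
      rw [map_mul, n.1, hm]
      calc t * f be * (t * f m) = t * (f be * t) * f m := by group
        _ = t * (t * f be) * f m := by rw [c.comm]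
        _ = (t * t) * (f be * f m) := by group
        _ = _ := by rw [c.tt, one_mul, map_mul]
    rw [h3] at h2
    exact h.noM _ h2

theorem good_B (h : Pat t f) {g : G} (n : Nor t f g) {x : H} (hB : IsB x) (hx : x * be = be * x) :
    Good f g x := by
  obtain ⟨m, hm, -⟩ := good_b h n hB hx
  exact ⟨m, hm⟩

theorem e_k1b : k1 * be = be * k1 := by rw [← e_k11, mul_assoc]
theorem e_k2b : k2 * be = be * k2 := by
  rw [← e_k11, ← mul_assoc, e_kk, mul_assoc, e_kk, mul_assoc]
theorem e_k1v : k1 * v = v * k1 := by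
  rw [← e_k22, ← mul_assoc, ← e_kk, mul_assoc, ← e_kk, mul_assoc]
theorem e_k2v : k2 * v = v * k2 := by rw [← e_k22, mul_assoc]

theorem e_k1_eq : k1 = (y * k2) * (y * (k1 * k2)) := by
  have := wd_eq (l := wk1) (l' := ([0] ++ wk2) ++ ([0] ++ (wk1 ++ wk2))) (by decide +kernel)
  simp only [wd_append, wd_y] at this; exact this
theorem e_k2_eq : k2 = (y * k1) * (y * (k1 * k2)) := by
  have := wd_eq (l := wk2) (l' := ([0] ++ wk1) ++ ([0] ++ (wk1 ++ wk2))) (by decide +kernel)
  simp only [wd_append, wd_y] at this; exact this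

theorem cm {x x' z : H} (h : x * z = z * x) (h' : x' * z = z * x') : (x * x') * z = z * (x * x') :=
  ((show Commute x z from h).mul_left h').eq

theorem good_k1 (h : Pat t f) {g : G} (n : Nor t f g) : Good f g k1 := by
  rw [e_k1_eq]
  exact (good_B h n isB_yk2 (cm e_yb e_k2b)).mul (good_B h n isB_yk1k2 (cm e_yb (cm e_k1b e_k2b)))

theorem good_k2 (h : Pat t f) {g : G} (n : Nor t f g) : Good f g k2 := by
  rw [e_k2_eq]
  exact (good_B h n isB_yk1 (cm e_yb e_k1b)).mul (good_B h n isB_yk1k2 (cm e_yb (cm e_k1b e_k2b)))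

theorem good_y (h : Pat t f) {g : G} (n : Nor t f g) : Good f g y := by
  have e : y = (y * k1) * k1⁻¹ := by group
  rw [e]
  exact (good_B h n isB_yk1 (cm e_yb e_k1b)).mul (good_k1 h n).inv

theorem good_v (h : Pat t f) {g : G} (n : Nor t f g) : Good f g v := good_B h n isB_v e_vb

theorem good_d (h : Pat t f) {g : G} (n : Nor t f g) : Good f g d := good_B h n isB_d e_db.symm

theorem e_x1 : wd [4, 5, 1, 2, 1, 4, 5, 4] * be = be * wd [4, 5, 1, 2, 1, 4, 5, 4] := by
  have := wd_eq (l := [4, 5, 1, 2, 1, 4, 5, 4] ++ wbe) (l' := wbe ++ [4, 5, 1, 2, 1, 4, 5, 4]) (by decide +kernel)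
  simp only [wd_append] at this; exact this
theorem e_x2 : wd [3, 2, 1, 5, 0, 5, 2, 1, 3, 5, 4] * be = be * wd [3, 2, 1, 5, 0, 5, 2, 1, 3, 5, 4] := by
  have := wd_eq (l := [3, 2, 1, 5, 0, 5, 2, 1, 3, 5, 4] ++ wbe) (l' := wbe ++ [3, 2, 1, 5, 0, 5, 2, 1, 3, 5, 4])
    (by decide +kernel)
  simp only [wd_append] at this; exact this

theorem good_p (h : Pat t f) {g : G} (n : Nor t f g) : Good f g p := by
  rw [p_eq]
  exact ((good_v h n).mul (good_B h n isB_x1 e_x1)).mul (good_B h n isB_x2 e_x2)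

/-- adjust `g` such that `v` is fixed -/
theorem exists_v (h : Pat t f) : ∃ g, Nor t f g ∧ cj g (f v) = f v := by
  have c := h.c
  obtain ⟨g, n⟩ := exists_swap h
  obtain ⟨m, hm⟩ := good_k2 h n
  have hmb : m * be = be * m := by
    apply c.inj
    rw [map_mul, map_mul, ← hm]
    exact (n.cent c e_k2b).2
  have hmm : cj g (f v) = f (m * m) := by rw [map_mul, ← hm, ← map_mul, ← map_mul, e_k22]
  have h4 : m ^ 4 = 1 := by
    have : m ^ 4 = (m * m) * (m * m) := by rw [← pow_two, ← pow_two, ← pow_mul]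
    rw [this]
    apply c.inj
    rw [map_mul, ← hmm, ← map_mul, ← map_mul, e_vv, map_one, map_one]
  have h2 : m * m ≠ 1 := by
    intro h1
    rw [h1, map_one] at hmm
    apply e_v1
    apply c.inj
    apply cj_injective g
    rw [hmm, map_one, map_one]
  obtain ⟨m', hm', hB⟩ := good_b h n isB_v e_vb
  have hmm' : m' = m * m := c.inj (by rw [← hm', hmm])
  rw [hmm'] at hB
  obtain ⟨k, hk1, hk2⟩ := sq_conj m hmb h4 h2 (hB e_bv1.symm)
  have hkt : cj (f k) t = t := cj_of_comm (c.comm k).symm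
  have hkb : cj (f k) (f be) = f be := by
    apply cj_of_comm
    rw [← map_mul, ← map_mul, hk1]
  refine ⟨g * f k, ⟨?_, ?_⟩, ?_⟩
  · rw [← cj_cj, n.1, map_mul, hkt, hkb]
  · rw [← cj_cj, n.2, hkb]
  · rw [← cj_cj, hmm, cj_apply, ← map_inv, ← map_mul, ← map_mul, hk2]

def test5 (i j : Fin 4) (l : Fin 2) : Bool :=
  !(eqW (wijl i j l ++ wijl i j l) []) || hasFix (wbe ++ wijl i j l) || eqW (wijl i j l) [0] ||
    eqW (wijl i j l) ([0] ++ wbe) || eqW (wijl i j l) ([0] ++ wv) || eqW (wijl i j l) ([0] ++ (wbe ++ wv))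

set_option maxRecDepth 100000 in
theorem test5_all : ∀ i j : Fin 4, ∀ l : Fin 2, test5 i j l = true := by decide +kernel

theorem mem_yV {m : H} (h1 : m * be = be * m) (h2 : m * v = v * m) (h3 : m * m = 1) (h4 : be * m ≠ 1)
    (h5 : ¬ IsB (be * m)) : ∃ u, InV be v u ∧ m = y * u := by
  obtain ⟨i, j, l, hl⟩ := cent_bv m h1 h2
  rw [← wd_wijl] at hl
  have h6 := test5_all i j l
  rw [test5, Bool.or_eq_true, Bool.or_eq_true, Bool.or_eq_true, Bool.or_eq_true, Bool.or_eq_true] at h6
  rcases h6 with ((((h6 | h6) | h6) | h6) | h6) | h6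
  · exfalso
    have h7 : eqW (wijl i j l ++ wijl i j l) [] = true := by
      apply eqW_of_wd
      rw [wd_append, ← hl, h3, wd_nil]
    rw [h7] at h6
    exact Bool.noConfusion h6
  · exfalso
    have h7 := not_isA_of_hasFix h6
    rw [wd_append, ← hl] at h7
    rcases inv2.cases (be * m) (by
      calc be * m * (be * m) = be * (m * be) * m := by group
        _ = be * (be * m) * m := by rw [h1]
        _ = (be * be) * (m * m) := by group
        _ = 1 := by rw [e_bb, h3, one_mul]) h4 with h8 | h8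
    · exact h7 h8
    · exact h5 h8
  · exact ⟨1, Or.inl rfl, by rw [hl, wd_eq h6, wd_y, mul_one]⟩
  · exact ⟨be, Or.inr (Or.inl rfl), by rw [hl, wd_eq h6, wd_append, wd_y]; rfl⟩
  · exact ⟨v, Or.inr (Or.inr (Or.inl rfl)), by rw [hl, wd_eq h6, wd_append, wd_y]; rfl⟩
  · exact ⟨be * v, Or.inr (Or.inr (Or.inr rfl)), by rw [hl, wd_eq h6, wd_append, wd_append, wd_y]; rfl⟩

/-- `yu` is conjugate to `y` in `⟨k1, k2⟩` -/
theorem conj_yV {u : H} (hu : InV be v u) : ∃ k, k * be = be * k ∧ k * v = v * k ∧ k⁻¹ * (y * u) * k = y := by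
  have a1 : k1⁻¹ * y * k1 = y * be := by
    rw [mul_assoc, e_yk1]; group
  have a2 : k2⁻¹ * y * k2 = y * v := by
    rw [mul_assoc, e_yk2]; group
  have b1 : k1⁻¹ * be * k1 = be := by rw [mul_assoc, ← e_k1b]; group
  have b2 : k2⁻¹ * v * k2 = v := by rw [mul_assoc, ← e_k2v]; group
  have b3 : k1⁻¹ * v * k1 = v := by rw [mul_assoc, ← e_k1v]; group
  have c1 : k1⁻¹ * (y * be) * k1 = y := by
    calc k1⁻¹ * (y * be) * k1 = (k1⁻¹ * y * k1) * (k1⁻¹ * be * k1) := by group
      _ = y * (be * be) := by rw [a1, b1]; group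
      _ = y := by rw [e_bb, mul_one]
  have c2 : k2⁻¹ * (y * v) * k2 = y := by
    calc k2⁻¹ * (y * v) * k2 = (k2⁻¹ * y * k2) * (k2⁻¹ * v * k2) := by group
      _ = y * (v * v) := by rw [a2, b2]; group
      _ = y := by rw [e_vv, mul_one]
  rcases hu with rfl | rfl | rfl | rfl
  · exact ⟨1, by rw [one_mul, mul_one], by rw [one_mul, mul_one], by group⟩
  · exact ⟨k1, e_k1b, e_k1v, c1⟩
  · exact ⟨k2, e_k2b, e_k2v, c2⟩
  · refine ⟨k1 * k2, cm e_k1b e_k2b, cm e_k1v e_k2v, ?_⟩
    calc (k1 * k2)⁻¹ * (y * (be * v)) * (k1 * k2)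
        = k2⁻¹ * ((k1⁻¹ * (y * be) * k1) * (k1⁻¹ * v * k1)) * k2 := by group
      _ = y := by rw [c1, b3, c2]

theorem exists_over (h : Pat t f) : ∃ X, Over t (f be) (f v) (f y) (f be) X := by
  have c := h.c
  obtain ⟨g, n, hv⟩ := exists_v h
  obtain ⟨m, hm⟩ := good_y h n
  have hmb : m * be = be * m := by
    apply c.inj
    rw [map_mul, map_mul, ← hm]
    exact (n.cent c e_yb).2
  have hmv : m * v = v * m := by
    apply c.inj
    rw [map_mul, map_mul, ← hm, ← hv, ← map_mul, ← map_mul, ← map_mul, ← map_mul, e_yv]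
  have hmm : m * m = 1 := by
    apply c.inj
    rw [map_mul, ← hm, ← map_mul, ← map_mul, y_sq, map_one, map_one]
  have h4 : be * m ≠ 1 := by
    intro h1
    have h2 : m = be := by
      have : be * m = be * be := by rw [h1, e_bb]
      exact mul_left_cancel this
    rw [h2, ← n.2] at hm
    exact e_y1 (Or.inr (Or.inl (c.inj (cj_injective g hm))))
  have h5 : ¬ IsB (be * m) := by
    intro h1
    apply h.ntA y isA_y
    have h2 := h.tB _ h1
    have h3 : cj g (t * f y) = t * f (be * m) := by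
      rw [map_mul, n.1, hm, mul_assoc, ← map_mul]
    rw [← h3] at h2
    exact h2.trans (DeltaR.isConj_cj g _).symm
  obtain ⟨u, hu, hmu⟩ := mem_yV hmb hmv hmm h4 h5
  obtain ⟨k, hkb, hkv, hky⟩ := conj_yV hu
  have hkt' : cj (f k) t = t := cj_of_comm (c.comm k).symm
  have hkb' : cj (f k) (f be) = f be := by
    apply cj_of_comm
    rw [← map_mul, ← map_mul, hkb]
  have hkv' : cj (f k) (f v) = f v := by
    apply cj_of_comm
    rw [← map_mul, ← map_mul, hkv]
  refine ⟨g * f k, ?_, ?_, ?_, ?_⟩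
  · rw [← cj_cj, n.1, map_mul, hkt', hkb']
  · exact (comm_of_cj (by rw [← cj_cj, n.2, hkb'])).symm
  · exact (comm_of_cj (by rw [← cj_cj, hv, hkv'])).symm
  · refine (comm_of_cj ?_).symm
    rw [← cj_cj, hm, hmu, cj_apply, ← map_inv, ← map_mul, ← map_mul, hky]

def test6 (x y' : List ℕ) (i j : Fin 4) (l : Fin 2) : Bool :=
  !(eqW (wijl i j l ++ wijl i j l) y') || eqW (wijl i j l) x || eqW (wijl i j l) (x ++ wbe) ||
    eqW (wijl i j l) (x ++ wv) || eqW (wijl i j l) (x ++ (wbe ++ wv))

set_option maxRecDepth 100000 in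
theorem test6_k1 : ∀ i j : Fin 4, ∀ l : Fin 2, test6 wk1 wbe i j l = true := by decide +kernel

set_option maxRecDepth 100000 in
theorem test6_k2 : ∀ i j : Fin 4, ∀ l : Fin 2, test6 wk2 wv i j l = true := by decide +kernel

theorem mem_xV {x y' : List ℕ} (ht : ∀ i j : Fin 4, ∀ l : Fin 2, test6 x y' i j l = true) {m : H}
    (h1 : m * be = be * m) (h2 : m * v = v * m) (h3 : m * m = wd y') : ∃ u, InV be v u ∧ m = wd x * u := by
  obtain ⟨i, j, l, hl⟩ := cent_bv m h1 h2
  rw [← wd_wijl] at hl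
  have h6 := ht i j l
  rw [test6, Bool.or_eq_true, Bool.or_eq_true, Bool.or_eq_true, Bool.or_eq_true] at h6
  rcases h6 with (((h6 | h6) | h6) | h6) | h6
  · exfalso
    have h7 : eqW (wijl i j l ++ wijl i j l) y' = true := by
      apply eqW_of_wd
      rw [wd_append, ← hl, h3]
    rw [h7] at h6
    exact Bool.noConfusion h6
  · exact ⟨1, Or.inl rfl, by rw [hl, wd_eq h6, mul_one]⟩
  · exact ⟨be, Or.inr (Or.inl rfl), by rw [hl, wd_eq h6, wd_append]; rfl⟩
  · exact ⟨v, Or.inr (Or.inr (Or.inl rfl)), by rw [hl, wd_eq h6, wd_append]; rfl⟩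
  · exact ⟨be * v, Or.inr (Or.inr (Or.inr rfl)), by rw [hl, wd_eq h6, wd_append, wd_append]; rfl⟩

theorem over_nor {X : G} (o : Over t (f be) (f v) (f y) (f be) X) : Nor t f X :=
  ⟨o.1, cj_of_comm o.2.1.symm⟩

/-- `k ^ X` centralises `b`, `v` -/
theorem over_k (c : Ctx t f) {X : G} (o : Over t (f be) (f v) (f y) (f be) X) {k m : H}
    (h1 : k * be = be * k) (h2 : k * v = v * k) (hm : cj X (f k) = f m) : m * be = be * m ∧ m * v = v * m := by
  have hv : cj X (f v) = f v := cj_of_comm o.2.2.1.symm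
  constructor
  · apply c.inj
    rw [map_mul, map_mul, ← hm]
    exact ((over_nor o).cent c h1).2
  · apply c.inj
    rw [map_mul, map_mul, ← hm, ← hv, ← map_mul, ← map_mul, ← map_mul, ← map_mul, h2]

theorem exists_xok (h : Pat t f) : ∃ X u1 u2 c u,
    XOK t (f be) (f v) (f y) (f k1) (f k2) (f p) (f q) X u1 u2 c u := by
  have c := h.c
  have A := amb c
  obtain ⟨X0, o0⟩ := exists_over h
  obtain ⟨τ, c0, hτ, hc0, o, hprod⟩ := A.exists_norm o0
  obtain ⟨X, hX⟩ : ∃ X, X = X0 * (τ * c0) := ⟨_, rfl⟩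
  rw [← hX] at o hprod
  have n := over_nor o
  obtain ⟨m1, hm1⟩ := good_k1 h n
  obtain ⟨m2, hm2⟩ := good_k2 h n
  obtain ⟨m3, hm3⟩ := good_p h n
  have Xb : cj X (f be) = f be := n.2
  have Xv : cj X (f v) = f v := cj_of_comm o.2.2.1.symm
  have Xy : cj X (f y) = f y := cj_of_comm o.2.2.2.symm
  obtain ⟨a1, a2⟩ := over_k c o e_k1b e_k1v hm1
  obtain ⟨a3, a4⟩ := over_k c o e_k2b e_k2v hm2
  have s1 : m1 * m1 = wd wbe := by
    apply c.inj
    rw [map_mul, ← hm1, ← map_mul, ← map_mul, e_k11, n.2]; rfl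
  have s2 : m2 * m2 = wd wv := by
    apply c.inj
    rw [map_mul, ← hm2, ← map_mul, ← map_mul, e_k22, Xv]; rfl
  obtain ⟨u1, hu1, hm1'⟩ := mem_xV test6_k1 a1 a2 s1
  obtain ⟨u2, hu2, hm2'⟩ := mem_xV test6_k2 a3 a4 s2
  -- `p`
  have g1 : ∀ {z z' : H}, cj X (f z) = f z → cj X (f z') = f z' → z * p = p * z' → z * m3 = m3 * z' := by
    intro z z' hz hz' hzp
    apply c.inj
    rw [map_mul, map_mul, ← hm3, ← hz, ← hz', ← map_mul, ← map_mul, ← map_mul, ← map_mul, hzp]
  have Xbv : cj X (f (be * v)) = f (be * v) := by rw [map_mul, map_mul, Xb, Xv]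
  have g2 := g1 Xb Xb e_pb
  have g3 := g1 Xv Xbv e_pv
  have g4 := g1 Xy Xy e_py
  have g5 : ∀ {z z' : H}, z * p = p * z' → z * m3 = m3 * z' → z' * p = p * z →
      (p⁻¹ * m3) * z' = z' * (p⁻¹ * m3) := by
    intro z z' h1 h2 h3
    calc (p⁻¹ * m3) * z' = p⁻¹ * (m3 * z') := by group
      _ = p⁻¹ * (z * m3) := by rw [h2]
      _ = p⁻¹ * (z * p) * p⁻¹ * m3 := by group
      _ = p⁻¹ * (p * z') * p⁻¹ * m3 := by rw [h1]
      _ = _ := by group
  have pvb : (be * v) * p = p * v := by
    rw [mul_assoc, e_pv, ← mul_assoc, e_pb, mul_assoc, ← mul_assoc be, e_bb, one_mul]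
  have g6 := g5 e_pb g2 e_pb
  have g7 := g5 e_pv g3 pvb
  have g8 := g5 e_py g4 e_py
  have g9 : (p⁻¹ * m3) * v = v * (p⁻¹ * m3) := by
    have : v = be * (be * v) := by rw [← mul_assoc, e_bb, one_mul]
    rw [this, ← mul_assoc, g6, mul_assoc, g7, ← mul_assoc]
  obtain ⟨i, j, l, hl⟩ := cent_byv _ g6 g9 g8
  have hV := inV_pow i j
  have hvy : (be ^ i.1 * v ^ j.1) * y ^ l.1 = y ^ l.1 * (be ^ i.1 * v ^ j.1) := by
    rcases pow_y l y with h | h <;> rw [h]
    · simp
    · exact (hV.comm e_yb e_yv).symm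
  refine ⟨X, f u1, f u2, f (y ^ l.1), f (be ^ i.1 * v ^ j.1),
    { ov := o
      prod := hprod
      hu1 := inV_map f hu1
      hu2 := inV_map f hu2
      hc := ?_
      hu := inV_map f hV
      k1X := ?_
      k2X := ?_
      pX := ?_ }⟩
  · rcases pow_y l y with h | h <;> rw [h]
    · left; exact map_one f
    · right; rfl
  · rw [hm1, hm1', map_mul]; rfl
  · rw [hm2, hm2', map_mul]; rfl
  · rw [hm3, ← map_mul, ← map_mul, ← hvy, ← hl]
    congr 1
    group

theorem false_of_pat (h : Pat t f) : False := by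
  have c := h.c
  have A := amb c
  obtain ⟨X, u1, u2, c0, u, hX⟩ := exists_xok h
  obtain ⟨c', fl, l, hc', hs⟩ := A.exists_s hX
  obtain ⟨s, hs'⟩ : ∃ s, s = X * c' := ⟨_, rfl⟩
  rw [← hs'] at hs
  have o := hs.ov
  have n := over_nor o
  obtain ⟨m, hm⟩ := good_d h n
  have hd : ∃ w1, InW (f be) (f v) (f w) w1 ∧ cj (f d) s = s * w1 := by
    have hsd : cj (f d) s = s * (f m⁻¹ * f d) := by
      rw [map_inv, ← hm, cj_apply, cj_apply]; group
    have sb : cj s (f be) = f be := n.2
    have sv : cj s (f v) = f v := cj_of_comm o.2.2.1.symm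
    have sk1 : cj s (f k1) = f k1 := hs.k1s
    have sy : cj s (f y) = f y := cj_of_comm o.2.2.2.symm
    have sw : cj s (f w) = f w := by rw [w, map_mul, map_mul, sy, sk1]
    have g1 : ∀ {z z' : H}, cj s (f z) = f z → cj s (f z') = f z' → z * d = d * z' →
        z * m = m * z' := by
      intro z z' hz hz' hzp
      apply c.inj
      rw [map_mul, map_mul, ← hm, ← hz, ← hz', ← map_mul, ← map_mul, ← map_mul, ← map_mul, hzp]
    have g5 : ∀ {z z' : H}, z * d = d * z' → z * m = m * z' →
        (f m⁻¹ * f d) * f z' = f z' * (f m⁻¹ * f d) := by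
      intro z z' h1 h2
      have h3 : (m⁻¹ * d) * z' = z' * (m⁻¹ * d) := by
        calc (m⁻¹ * d) * z' = m⁻¹ * (d * z') := by group
          _ = m⁻¹ * (z * d) := by rw [h1]
          _ = m⁻¹ * (z * m) * m⁻¹ * d := by group
          _ = m⁻¹ * (m * z') * m⁻¹ * d := by rw [h2]
          _ = _ := by group
      rw [← map_mul, ← map_mul, ← map_mul, h3]
    have e1 := g5 e_db (g1 sb sb e_db)
    have e2 := g5 e_dv (g1 sv sw e_dv)
    have e3 := g5 e_dw (g1 sw sv e_dw)
    obtain ⟨τ, e, hτ, he, hte⟩ := A.centW (f m⁻¹ * f d) (by rw [← map_mul]; exact c.comm _) e1 e3 e2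
    refine ⟨_, ?_, hsd⟩
    rcases hτ with h0 | h0
    · rw [hte, h0, one_mul]; exact he
    · exfalso
      obtain ⟨m', -, hm'⟩ := inW_mem he
      apply c.nmem (m⁻¹ * d * m'⁻¹)
      rw [map_mul, map_mul, hte, h0, hm', map_inv, mul_inv_cancel_right]
  obtain ⟨a, a', ha, ha', hconj⟩ := DeltaR.final A hs hd
  obtain ⟨m1, hm1, rfl⟩ := inV_mem ha
  obtain ⟨m2, hm2, rfl⟩ := inV_mem ha'
  have hA : IsA (y * m1) := by
    rcases hm1 with rfl | rfl | rfl | rfl
    · rw [mul_one]; exact isA_y1
    · exact isA_ybe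
    · exact isA_yv
    · exact isA_ybev
  have hB : IsB (y * (k1 * k2) * m2) := by
    rcases hm2 with rfl | rfl | rfl | rfl
    · rw [mul_one]; exact isB_yk1k2
    · exact isB_yk1k2be
    · exact isB_yk1k2v
    · exact isB_yk1k2bev
  have h1 := h.tB _ hB
  rw [← map_mul, ← map_mul, ← map_mul, ← map_mul] at hconj
  exact h.ntA _ hA (h1.trans hconj.symm)

/-- pattern δ does not occur -/
theorem delta_false (c : Ctx t f) (h0 : IsConj t (t * f (p * r))) (h1 : ¬ IsConj t (f y))
    (h2 : ¬ IsConj t (t * f y)) : False := false_of_pat (pat c h0 h1 h2)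

end

end Cfsg.Agent.CoThreeStd.Delta
end
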